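import Cfsg.Agent.MaxSub.Asch.Tensor
import Cfsg.Agent.ClMax99.AltSim
import Cfsg.Agent.Aschbacher.OrthogonalBasics

/-!
Forms over a field of endomorphisms: the form over the larger field, and the orthogonal groups in dimension two.
-/

set_option autoImplicit false
set_option linter.unusedSectionVars false
set_option linter.style.haveILetI false

namespace Cfsg.Agent.Aschbacher.Orth

open scoped Matrix commutatorElement
open Module
open Cfsg.Agent.MaxSub.Asch (J2 J2_conj)

variable {F K V : Type*} [Field F] [Field K] [Algebra F K] [FiniteDimensional F K] [AddCommGroup V] [Module F V]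
variable [Module K V] [IsScalarTower F K V]

/-- A functional giving a non-degenerate trace pairing. -/
theorem exists_pairing :
    ∃ l : K →ₗ[F] F, (∀ x : K, (∀ k, l (k * x) = 0) → x = 0) ∧
      ∀ φ : K →ₗ[F] F, ∃ x : K, ∀ k, l (k * x) = φ k := by
  obtain ⟨l, hl⟩ : ∃ l : K →ₗ[F] F, l 1 ≠ 0 := by
    obtain ⟨l, hl⟩ := Module.Projective.exists_dual_ne_zero F (one_ne_zero (α := K))
    exact ⟨l, hl⟩
  have hnd : ∀ x : K, (∀ k, l (k * x) = 0) → x = 0 := fun x hx => by
    by_contra h
    exact hl (by rw [← inv_mul_cancel₀ h]; exact hx x⁻¹)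
  refine ⟨l, hnd, fun φ => ?_⟩
  let Φ : K →ₗ[F] Module.Dual F K := ((LinearMap.mul F K).flip).compr₂ l
  have hinj : Function.Injective Φ := (injective_iff_map_eq_zero Φ).mpr fun x hx =>
    hnd x fun k => LinearMap.congr_fun hx k
  obtain ⟨x, hx⟩ := (LinearMap.injective_iff_surjective_of_finrank_eq_finrank
    (by rw [Subspace.dual_finrank_eq])).mp hinj φ
  exact ⟨x, fun k => LinearMap.congr_fun hx k⟩

/-- The bilinear form over the larger field. -/
theorem exists_bilin (B : LinearMap.BilinForm F V) (hB : ∀ (k : K) u v, B (k • u) v = B u (k • v)) :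
    ∃ (l : K →ₗ[F] F) (BK : LinearMap.BilinForm K V), (∀ x : K, (∀ k, l (k * x) = 0) → x = 0) ∧
      (∀ φ : K →ₗ[F] F, ∃ x : K, ∀ k, l (k * x) = φ k) ∧ ∀ (k : K) u v, B (k • u) v = l (k * BK u v) := by
  obtain ⟨l, hnd, hex⟩ := exists_pairing (F := F) (K := K)
  have h : ∀ u v, ∃ x : K, ∀ k : K, l (k * x) = B (k • u) v := fun u v =>
    hex ((B.flip v).comp ((LinearMap.toSpanSingleton K V u).restrictScalars F))
  choose β hβ using h
  have huniq : ∀ {x y : K}, (∀ k, l (k * x) = l (k * y)) → x = y := fun {x y} hxy =>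
    sub_eq_zero.mp (hnd _ fun k => by rw [mul_sub, map_sub, hxy, sub_self])
  let BK : LinearMap.BilinForm K V := LinearMap.mk₂ K β
    (fun u u' v => huniq fun k => by rw [mul_add, map_add, hβ, hβ, hβ, smul_add, map_add, LinearMap.add_apply])
    (fun c u v => huniq fun k => by rw [hβ, smul_eq_mul, ← mul_assoc, hβ, smul_smul])
    (fun u v v' => huniq fun k => by rw [mul_add, map_add, hβ, hβ, hβ, map_add])
    (fun c u v => huniq fun k => by rw [hβ, smul_eq_mul, ← mul_assoc, hβ, ← hB, smul_smul, mul_comm])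
  exact ⟨l, BK, hnd, hex, fun k u v => (hβ u v k).symm⟩

variable [FiniteDimensional K V]

/-- An alternating form commuting with a field, of odd dimension over it, is degenerate. -/
theorem false_of_alternating (B : LinearMap.BilinForm F V) (hB : ∀ (k : K) u v, B (k • u) v = B u (k • v))
    (halt : ∀ (k : K) v, B (k • v) v = 0) (hnd : ∀ u, (∀ v, B u v = 0) → u = 0) (hodd : Odd (finrank K V)) :
    False := by
  obtain ⟨l, BK, hl, -, hBK⟩ := exists_bilin B hB
  have hA : BK.IsAlt := fun v => hl _ fun k => by rw [← hBK, halt]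
  have h := ClMax99.AltSim.even_finrank BK hA ⊤ fun u _ hu => hnd u fun v => by
    have h1 := hBK 1 u v
    rw [one_smul, hu v trivial, mul_zero, map_zero] at h1
    exact h1
  rw [finrank_top] at h
  exact Nat.not_even_iff_odd.mpr hodd h

/-- In dimension two the maps commuting with a non-scalar map commute. -/
theorem commute_of_commute (hd : finrank K V = 2) {X S T : Module.End K V} (hX : ∀ c : K, X ≠ c • 1)
    (hS : S * X = X * S) (hT : T * X = X * T) : S * T = T * S := by
  obtain ⟨v, hv⟩ : ∃ v : V, LinearIndependent K ![v, X v] := by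
    by_contra hcon
    push Not at hcon
    let b := Module.finBasisOfFinrankEq K V hd
    have hev : ∀ v, v ≠ 0 → ∃ c : K, X v = c • v := fun v hv => by
      have h := hcon v
      rw [LinearIndependent.pair_iff' hv] at h
      push Not at h
      obtain ⟨c, hc⟩ := h
      exact ⟨c, hc.symm⟩
    obtain ⟨c₀, h0⟩ := hev (b 0) (b.ne_zero 0)
    obtain ⟨c₁, h1⟩ := hev (b 1) (b.ne_zero 1)
    have hne : b 0 + b 1 ≠ 0 := fun h => by
      have := congrArg (fun v => b.repr v 0) h
      simp at this
    obtain ⟨c, hc⟩ := hev _ hne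
    rw [map_add, h0, h1] at hc
    have e0 := congrArg (fun v => b.repr v 0) hc
    have e1 := congrArg (fun v => b.repr v 1) hc
    simp at e0 e1
    refine hX c (b.ext fun i => ?_)
    fin_cases i
    · simp [h0, e0]
    · simp [h1, e1]
  let b' : Basis (Fin 2) K V := basisOfLinearIndependentOfCardEqFinrank hv (by rw [hd, Fintype.card_fin])
  have hb : ∀ i, b' i = ![v, X v] i := fun i => by simp [b']
  have key : ∀ U : Module.End K V, U * X = X * U → ∃ a c : K, U = a • 1 + c • X := fun U hU => by
    have hUX : ∀ w, U (X w) = X (U w) := LinearMap.congr_fun hU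
    have hrep := b'.sum_repr (U v)
    rw [Fin.sum_univ_two, hb, hb] at hrep
    simp only [Matrix.cons_val_zero, Matrix.cons_val_one, Matrix.cons_val_fin_one] at hrep
    refine ⟨b'.repr (U v) 0, b'.repr (U v) 1, b'.ext fun i => ?_⟩
    rw [hb]
    fin_cases i
    · simpa using hrep.symm
    · show U (X v) = _
      generalize b'.repr (U v) 0 = r at hrep ⊢
      generalize b'.repr (U v) 1 = t at hrep ⊢
      rw [hUX, ← hrep, map_add, map_smul, map_smul]
      simp
  obtain ⟨a, c, rfl⟩ := key S hS
  simp only [add_mul, mul_add, smul_mul_assoc, mul_smul_comm, one_mul, mul_one, hT]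

theorem dotProduct_form2 {R : Type*} [CommRing R] (W : Matrix (Fin 2) (Fin 2) R) (x : Fin 2 → R) :
    x ⬝ᵥ (W *ᵥ x) = x 0 * x 0 * W 0 0 + x 0 * x 1 * (W 0 1 + W 1 0) + x 1 * x 1 * W 1 1 := by
  simp [dotProduct, Matrix.mulVec, Fin.sum_univ_two]
  ring

/-- Units normalising a non-scalar matrix up to an affine change have commutators centralising it. -/
theorem commutator_centralises {R : Type*} [CommRing R] {X : Matrix (Fin 2) (Fin 2) R}
    {g h : (Matrix (Fin 2) (Fin 2) R)ˣ} {δg zg δh zh : R}
    (hg : (↑g⁻¹ : Matrix (Fin 2) (Fin 2) R) * X * g = δg • X + zg • 1)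
    (hh : (↑h⁻¹ : Matrix (Fin 2) (Fin 2) R) * X * h = δh • X + zh • 1)
    (hsym : δh * zg + zh = δg * zh + zg) :
    ((⁅g, h⁆ : (Matrix (Fin 2) (Fin 2) R)ˣ) : Matrix (Fin 2) (Fin 2) R) * X =
      X * ((⁅g, h⁆ : (Matrix (Fin 2) (Fin 2) R)ˣ) : Matrix (Fin 2) (Fin 2) R) := by
  have comp : ∀ {a b : (Matrix (Fin 2) (Fin 2) R)ˣ} {δa za δb zb : R},
      (↑a⁻¹ : Matrix (Fin 2) (Fin 2) R) * X * a = δa • X + za • 1 →
      (↑b⁻¹ : Matrix (Fin 2) (Fin 2) R) * X * b = δb • X + zb • 1 →
      (↑(a * b)⁻¹ : Matrix (Fin 2) (Fin 2) R) * X * (a * b : (Matrix (Fin 2) (Fin 2) R)ˣ) =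
        (δa * δb) • X + (δa * zb + za) • 1 := by
    intro a b δa za δb zb ha hb
    calc _ = (↑b⁻¹ : Matrix (Fin 2) (Fin 2) R) * ((↑a⁻¹ : Matrix (Fin 2) (Fin 2) R) * X * a) * b := by
          simp [mul_assoc]
      _ = δa • ((↑b⁻¹ : Matrix (Fin 2) (Fin 2) R) * X * b) + za • 1 := by
          rw [ha, mul_add, add_mul, Matrix.mul_smul, Matrix.smul_mul, Matrix.mul_smul, Matrix.smul_mul, mul_one,
            Units.inv_mul]
      _ = _ := by rw [hb]; module
  have h1 := comp hg hh
  have h2 := comp hh hg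
  rw [← hsym, mul_comm δg δh, ← h2] at h1
  generalize hu : g * h = u at h1
  generalize hw : h * g = w at h1
  have hc : ⁅g, h⁆ = u * w⁻¹ := by rw [← hu, ← hw, commutatorElement_def]; group
  rw [hc, Units.val_mul]
  calc (u : Matrix (Fin 2) (Fin 2) R) * (↑w⁻¹ : Matrix (Fin 2) (Fin 2) R) * X
      = (u : Matrix (Fin 2) (Fin 2) R) * ((↑w⁻¹ : Matrix (Fin 2) (Fin 2) R) * X * w) * (↑w⁻¹ : Matrix (Fin 2) (Fin 2) R) := by
        simp [mul_assoc]
    _ = _ := by rw [← h1]; simp [mul_assoc]

variable [Finite K] [Finite F]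

/-- In characteristic two a quadratic form commuting with a field gives one over the field. -/
theorem exists_quadK (h2 : (2 : F) = 0) (Qf : V → F) (hsmul : ∀ (c : F) v, Qf (c • v) = c * c * Qf v)
    (B : LinearMap.BilinForm F V) (hadd : ∀ u v, Qf (u + v) = Qf u + Qf v + B u v)
    (hB : ∀ (k : K) u v, B (k • u) v = B u (k • v)) {l : K →ₗ[F] F}
    (hnd : ∀ x : K, (∀ k, l (k * x) = 0) → x = 0)
    (hex : ∀ φ : K →ₗ[F] F, ∃ x : K, ∀ k, l (k * x) = φ k) {BK : LinearMap.BilinForm K V}
    (hBK : ∀ (k : K) u v, B (k • u) v = l (k * BK u v)) :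
    ∃ QK : V → K, (∀ (a b : K) u v, QK (a • u + b • v) = a * a * QK u + b * b * QK v + a * b * BK u v) ∧
      ∀ T : Module.End K V, (∀ v, Qf (T v) = Qf v) → ∀ v, QK (T v) = QK v := by
  have h2K : (2 : K) = 0 := by rw [← map_ofNat (algebraMap F K) 2, h2, map_zero]
  have hinjK : Function.Injective fun x : K => x * x := fun x y h => by
    have h1 : (x - y) * (x - y) = 0 := by
      linear_combination h - (x * y - y * y) * h2K
    exact sub_eq_zero.mp (mul_self_eq_zero.mp h1)
  have hinjF : Function.Injective fun x : F => x * x := fun x y h => by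
    have h1 : (x - y) * (x - y) = 0 := by linear_combination h - (x * y - y * y) * h2
    exact sub_eq_zero.mp (mul_self_eq_zero.mp h1)
  choose rt hrt using Finite.surjective_of_injective hinjK
  choose rF hrF using Finite.surjective_of_injective hinjF
  simp only at hrt hrF
  have hB0 : ∀ (k : K) w, B (k • w) w = 0 := fun k w => by
    rw [← hrt k, ← smul_smul, hB]
    have h0 := hadd (rt k • w) (rt k • w)
    rw [← two_smul F (rt k • w), hsmul, h2, zero_mul, zero_mul] at h0
    linear_combination -h0 - Qf (rt k • w) * h2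
  have hφ : ∀ w, ∃ x : K, ∀ k : K, l (k * x) = Qf (rt k • w) := fun w => hex
    { toFun := fun k => Qf (rt k • w)
      map_add' := fun a b => by
        have e : rt (a + b) = rt a + rt b := hinjK (by
          show rt (a + b) * rt (a + b) = (rt a + rt b) * (rt a + rt b)
          linear_combination hrt (a + b) - hrt a - hrt b - rt a * rt b * h2K)
        rw [e, add_smul, hadd, ← hB, smul_smul, hB0, add_zero]
      map_smul' := fun c a => by
        have e : rt (c • a) = rF c • rt a := hinjK (by
          show rt (c • a) * rt (c • a) = (rF c • rt a) * (rF c • rt a)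
          rw [hrt, smul_mul_smul_comm, hrF, hrt])
        rw [e, smul_assoc, hsmul, hrF, RingHom.id_apply, smul_eq_mul] }
  choose QK hQK using hφ
  have huniq : ∀ {x y : K}, (∀ k, l (k * x) = l (k * y)) → x = y := fun {x y} hxy =>
    sub_eq_zero.mp (hnd _ fun k => by rw [mul_sub, map_sub, hxy, sub_self])
  have hscale : ∀ (k a : K) w, Qf (rt k • a • w) = l (k * (a * a * QK w)) := fun k a w => by
    rw [← mul_assoc, hQK, smul_smul]
    congr 2
    refine hinjK ?_
    show rt k * a * (rt k * a) = rt (k * (a * a)) * rt (k * (a * a))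
    rw [hrt]
    linear_combination a * a * hrt k
  refine ⟨QK, fun a b u v => huniq fun k => ?_, fun T hT w => huniq fun k => by rw [hQK, hQK, ← map_smul, hT]⟩
  rw [hQK, smul_add, hadd, hscale, hscale, ← hB, ← hB, smul_smul, smul_smul, smul_smul, hBK, ← map_add, ← map_add]
  congr 1
  linear_combination a * b * BK u v * hrt k

/-- In dimension two the commutators of isometries commute. -/
theorem isometry_commutators_commute (hd : finrank K V = 2) (Qf : V → F)
    (hsmul : ∀ (c : F) v, Qf (c • v) = c * c * Qf v) (B : LinearMap.BilinForm F V)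
    (hadd : ∀ u v, Qf (u + v) = Qf u + Qf v + B u v) (hB : ∀ (k : K) u v, B (k • u) v = B u (k • v))
    (hBnd : ∀ u, (∀ v, B u v = 0) → u = 0) :
    ∃ X : Module.End K V, (∀ c : K, X ≠ c • 1) ∧ ∀ g h : (Module.End K V)ˣ,
      (∀ v, Qf ((g : Module.End K V) v) = Qf v) → (∀ v, Qf ((h : Module.End K V) v) = Qf v) →
      ((⁅g, h⁆ : (Module.End K V)ˣ) : Module.End K V) * X = X * ((⁅g, h⁆ : (Module.End K V)ˣ) : Module.End K V) := by
  obtain ⟨l, BK, hnd, hex, hBK⟩ := exists_bilin B hB
  let b := Module.finBasisOfFinrankEq K V hd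
  let τ : Module.End K V ≃ₐ[K] Matrix (Fin 2) (Fin 2) K := LinearMap.toMatrixAlgEquiv b
  set S : Matrix (Fin 2) (Fin 2) K := LinearMap.BilinForm.toMatrix b BK with hS
  have hSu : S.det ≠ 0 := by
    refine (LinearMap.BilinForm.nondegenerate_iff_det_ne_zero b).mp ⟨fun u hu => hBnd u fun v => ?_, fun v hv => hBnd v fun u => ?_⟩
    · rw [← one_smul K u, hBK, hu v, mul_zero, map_zero]
    · have h1 : B u v = 0 := by rw [← one_smul K u, hBK, hv u, mul_zero, map_zero]
      have h3 := hadd u v
      have h4 := hadd v u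
      rw [add_comm v u] at h4
      linear_combination h4.symm.trans h3 + h1 + 0 * h3
  have hpol : ∀ T : Module.End K V, (∀ v, Qf (T v) = Qf v) → ∀ u v, BK (T u) (T v) = BK u v := fun T hT u v => by
    refine sub_eq_zero.mp (hnd _ fun k => ?_)
    have hBT : ∀ x y, B (T x) (T y) = B x y := fun x y => by
      have h1 := hadd (T x) (T y)
      rw [← map_add, hT, hT, hT, hadd] at h1
      linear_combination -h1
    rw [mul_sub, map_sub, ← hBK, ← map_smul, hBT, hBK, sub_self]
  have hτv : ∀ (T : Module.End K V) w, b.equivFun (T w) = τ T *ᵥ b.equivFun w := fun T w => by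
    funext i
    simp [τ, LinearMap.toMatrixAlgEquiv, LinearMap.toMatrix_mulVec_repr]
  have hgram : ∀ T : Module.End K V, (∀ v, Qf (T v) = Qf v) → (τ T)ᵀ * S * τ T = S := fun T hT => by
    have h1 : BK.comp T T = BK := LinearMap.ext fun u => LinearMap.ext fun v => hpol T hT u v
    have h3 := LinearMap.BilinForm.toMatrix_comp b b BK T T
    rw [h1] at h3
    exact h3.symm
  have hdet : ∀ T : Module.End K V, (∀ v, Qf (T v) = Qf v) → (τ T).det * (τ T).det = 1 := fun T hT => by
    have h1 := congrArg Matrix.det (hgram T hT)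
    rw [Matrix.det_mul, Matrix.det_mul, Matrix.det_transpose] at h1
    refine mul_right_cancel₀ hSu ?_
    linear_combination h1
  have hJ : (J2 : Matrix (Fin 2) (Fin 2) K) * J2 = -1 := by
    ext i j; fin_cases i <;> fin_cases j <;> simp [J2, Matrix.mul_apply, Fin.sum_univ_two]
  -- transfer of an affine action
  suffices key : ∀ (U : Matrix (Fin 2) (Fin 2) K), (∀ c : K, U ≠ c • J2) →
      (∀ T : Module.End K V, (∀ v, Qf (T v) = Qf v) → ∃ z : K, (τ T)ᵀ * U * τ T = U + z • J2 ∧
        ((2 : K) = 0 ∨ z = 0)) →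
      ∃ X : Module.End K V, (∀ c : K, X ≠ c • 1) ∧ ∀ g h : (Module.End K V)ˣ,
        (∀ v, Qf ((g : Module.End K V) v) = Qf v) → (∀ v, Qf ((h : Module.End K V) v) = Qf v) →
        ((⁅g, h⁆ : (Module.End K V)ˣ) : Module.End K V) * X = X * ((⁅g, h⁆ : (Module.End K V)ˣ) : Module.End K V) by
    by_cases h2 : (2 : F) = 0
    · obtain ⟨QK, hQK, hinv⟩ := exists_quadK h2 Qf hsmul B hadd hB hnd hex hBK
      refine key !![QK (b 0), BK (b 0) (b 1); 0, QK (b 1)] (fun c hc => hSu ?_) fun T hT => ?_
      · have e01 := congrFun (congrFun hc 0) 1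
        have e10 := congrFun (congrFun hc 1) 0
        simp [J2] at e01 e10
        have h2K : (2 : K) = 0 := by rw [← map_ofNat (algebraMap F K) 2, h2, map_zero]
        have hself : ∀ w, BK w w = 0 := fun w => by
          have h1 := hQK 1 1 w w
          rw [one_smul, ← two_smul K w, h2K, zero_smul] at h1
          have h0 := hQK 0 0 w w
          simp only [zero_smul, add_zero, zero_mul] at h0
          rw [h0] at h1
          linear_combination -h1 - QK w * h2K
        rw [Matrix.det_fin_two, hS]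
        simp only [LinearMap.BilinForm.toMatrix_apply, hself, e01, e10, zero_mul, mul_zero, sub_zero]
      set U : Matrix (Fin 2) (Fin 2) K := !![QK (b 0), BK (b 0) (b 1); 0, QK (b 1)] with hU
      have hUq : ∀ w, QK w = b.equivFun w ⬝ᵥ (U *ᵥ b.equivFun w) := fun w => by
        conv_lhs => rw [← b.sum_equivFun w, Fin.sum_univ_two, hQK]
        rw [dotProduct_form2, hU]
        simp
        ring
      set W := (τ T)ᵀ * U * τ T - U with hW
      have hW0 : ∀ x : Fin 2 → K, x ⬝ᵥ (W *ᵥ x) = 0 := fun x => by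
        obtain ⟨w, rfl⟩ := b.equivFun.surjective x
        have h1 := hinv T hT w
        rw [hUq, hUq, hτv] at h1
        rw [hW, Matrix.sub_mulVec, dotProduct_sub, sub_eq_zero]
        rw [← h1, mul_assoc, ← Matrix.mulVec_mulVec, ← Matrix.mulVec_mulVec, Matrix.dotProduct_mulVec,
          Matrix.vecMul_transpose]
      have w00 := hW0 ![1, 0]
      have w11 := hW0 ![0, 1]
      have w01 := hW0 ![1, 1]
      rw [dotProduct_form2] at w00 w11 w01
      simp at w00 w11 w01
      rw [w00, w11, zero_add, add_zero] at w01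
      refine ⟨W 0 1, ?_, Or.inl (by rw [← map_ofNat (algebraMap F K) 2, h2, map_zero])⟩
      rw [← sub_eq_iff_eq_add', ← hW]
      ext i j
      fin_cases i <;> fin_cases j <;> simp [J2, w00, w11]
      linear_combination w01
    · have h2K : (2 : K) ≠ 0 := by
        rw [← map_ofNat (algebraMap F K) 2]; exact (map_ne_zero _).mpr h2
      refine key S (fun c hc => hSu ?_) fun T hT => ⟨0, by rw [hgram T hT, zero_smul, add_zero], Or.inr rfl⟩
      have e00 := congrFun (congrFun hc 0) 0
      have e01 := congrFun (congrFun hc 0) 1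
      have e10 := congrFun (congrFun hc 1) 0
      have hsym : S 1 0 = S 0 1 := by
        rw [hS, LinearMap.BilinForm.toMatrix_apply, LinearMap.BilinForm.toMatrix_apply]
        refine sub_eq_zero.mp (hnd _ fun k => ?_)
        have hsymB : ∀ x y, B x y = B y x := fun x y => by
          have h3 := hadd x y
          have h4 := hadd y x
          rw [add_comm y x] at h4
          linear_combination h4 - h3
        rw [mul_sub, map_sub, ← hBK, ← hBK, hB, hsymB, sub_self]
      simp [J2] at e00 e01 e10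
      have : c = 0 := by
        rw [e10, e01] at hsym
        exact (mul_eq_zero.mp (show (2 : K) * c = 0 by linear_combination -hsym)).resolve_left h2K
      rw [Matrix.det_fin_two, e00, e01, e10, this]
      ring
  intro U hUne hUT
  refine ⟨τ.symm (-J2 * U), fun c hc => hUne c ?_, fun g h hg hh => ?_⟩
  · have h1 := congrArg τ hc
    rw [AlgEquiv.apply_symm_apply, map_smul, map_one] at h1
    calc U = J2 * (-J2 * U) := by rw [neg_mul, mul_neg, ← mul_assoc, hJ, neg_mul, one_mul, neg_neg]
      _ = c • J2 := by rw [h1, Matrix.mul_smul, mul_one]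
  · let τu : (Module.End K V)ˣ →* (Matrix (Fin 2) (Fin 2) K)ˣ := Units.map τ.toAlgHom.toRingHom.toMonoidHom
    have haff : ∀ g : (Module.End K V)ˣ, (∀ v, Qf ((g : Module.End K V) v) = Qf v) →
        ∃ δ z : K, (↑(τu g)⁻¹ : Matrix (Fin 2) (Fin 2) K) * (-J2 * U) * (τu g : Matrix (Fin 2) (Fin 2) K) =
          δ • (-J2 * U) + z • 1 ∧ ((2 : K) = 0 → δ = 1) ∧ ((2 : K) ≠ 0 → z = 0) := by
      intro g hg
      set G := (τu g : Matrix (Fin 2) (Fin 2) K) with hG
      set G' := (↑(τu g)⁻¹ : Matrix (Fin 2) (Fin 2) K) with hG'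
      obtain ⟨z, hz, hor⟩ := hUT _ hg
      have hdg : G.det * G.det = 1 := hdet _ hg
      have hGG : G * G' = 1 := (τu g).mul_inv
      have hJg : Gᵀ * J2 = G.det • (J2 * G') := by
        rw [← Matrix.smul_mul, ← J2_conj, mul_assoc, mul_assoc, hGG, mul_one]
      have hz' : Gᵀ * U * G = U + z • J2 := hz
      have h1 : Gᵀ = G.det • (J2 * G' * -J2) := by
        rw [← Matrix.smul_mul, ← hJg, mul_assoc, mul_neg, hJ, neg_neg, mul_one]
      have h4 : G.det • (J2 * (G' * (-J2 * U) * G)) = U + z • J2 := by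
        rw [← hz']
        conv_rhs => rw [h1]
        simp only [Matrix.smul_mul, mul_assoc]
      have h5 : G' * (-J2 * U) * G = G.det • ((-J2) * (U + z • J2)) := by
        rw [← h4, Matrix.mul_smul, smul_smul, hdg, one_smul, ← mul_assoc (-J2) J2, neg_mul J2 J2, hJ, neg_neg, one_mul]
      refine ⟨G.det, G.det * z, ?_, fun hc => ?_, fun hc => ?_⟩
      · rw [h5, mul_add, Matrix.mul_smul, neg_mul J2 J2, hJ, neg_neg, smul_add, smul_smul]
      · rcases mul_self_eq_one_iff.mp hdg with h | h
        · exact h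
        · rw [h]; linear_combination -hc
      · rw [hor.resolve_left hc, mul_zero]
    obtain ⟨δg, zg, eg, og, og'⟩ := haff g hg
    obtain ⟨δh, zh, eh, oh, oh'⟩ := haff h hh
    have hsym : δh * zg + zh = δg * zh + zg := by
      by_cases h2K : (2 : K) = 0
      · rw [og h2K, oh h2K]; ring
      · rw [og' h2K, oh' h2K]; ring
    have hc := commutator_centralises eg eh hsym
    rw [← map_commutatorElement τu g h] at hc
    apply τ.injective
    rw [map_mul τ _ (τ.symm _), map_mul τ (τ.symm _), AlgEquiv.apply_symm_apply]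
    exact hc

end Cfsg.Agent.Aschbacher.Orth
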