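import Cfsg.Agent.Aschbacher.Orth.Data
import Cfsg.Agent.Aschbacher.Orth.FieldForm

/-!
Subgroups of the even-dimensional orthogonal groups which normalise a commutative algebra.
-/

set_option autoImplicit false
set_option linter.unusedSectionVars false
set_option linter.style.haveILetI false

namespace Cfsg.Agent.Aschbacher.Orth

open scoped MatrixGroups Matrix Kronecker
open Module QuadraticMap
open Cfsg.Agent.UnitaryOrthogonal
open Cfsg.Agent.Aschbacher (Inv Irr NormalIn)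
open Cfsg.Agent.MaxSub.Asch (FormData conjHom conjHom_apply inv_of_no_idem exists_prime_field')

/-- The structures preserved by a subgroup that is not in the residual class. -/
def Conc {n : ℕ} {F : Type*} [Field F] [Fintype F] (Q : QuadraticForm F (Fin n → F))
    (H : Subgroup (GL (Fin n) F)) : Prop :=
  (∃ (t k : ℕ) (D : Fin t → Submodule F (Fin n → F)), Geo.IsOrthogonalMDecomposition ⇑Q k D ∧
      H ≤ Geo.decompositionStabilizer D) ∨
  (∃ (k : ℕ) (D : Fin 2 → Submodule F (Fin n → F)), Geo.IsMDecomposition k D ∧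
      (∀ i, Geo.IsTotallySingularQuad ⇑Q (D i)) ∧ H ≤ Geo.decompositionStabilizer D) ∨
  (∃ (r : ℕ) (K : Subalgebra F (Matrix (Fin n) (Fin n) F)), r.Prime ∧ r ∣ n ∧ r ≤ 3 ∧
      (n = 10 → Odd (Fintype.card F)) ∧ Geo.IsFieldSubalgebra r K ∧ Geo.IsSelfAdjointFor (polar ⇑Q) K ∧
      H ≤ Geo.subalgebraNormalizer K) ∨
  (∃ K : Subalgebra F (Matrix (Fin n) (Fin n) F), Geo.IsFieldSubalgebra 2 K ∧
      Geo.IsAdjointClosedFor (polar ⇑Q) K ∧ ¬ Geo.IsSelfAdjointFor (polar ⇑Q) K ∧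
      (∀ k ∈ K, ∃ c : F, ∀ v : Fin n → F, Q (k *ᵥ v) = c * Q v) ∧ H ≤ Geo.subalgebraNormalizer K) ∨
  (∃ (b : ℕ) (e : Fin n ≃ Fin 2 × Fin b) (P : GL (Fin n) F) (f₁ : (Fin 2 → F) → (Fin 2 → F) → F)
      (f₂ : (Fin b → F) → (Fin b → F) → F), 3 ≤ b ∧ Geo.IsSymplecticForm f₁ ∧ Geo.IsSymplecticForm f₂ ∧
      Geo.IsTensorFormStructure id (polar ⇑Q) f₁ f₂ e P ∧
      (∀ (x₁ : Fin 2 → F) (x₂ : Fin b → F),
        Q ((P : Matrix (Fin n) (Fin n) F) *ᵥ ((fun a : Fin 2 × Fin b => x₁ a.1 * x₂ a.2) ∘ e)) = 0) ∧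
      H ≤ Geo.tensorProductSubgroup 2 b e P) ∨
  (Odd (Fintype.card F) ∧ ∃ (e : Fin n ≃ Fin 3 × Fin 4) (P : GL (Fin n) F) (f₁ : (Fin 3 → F) → (Fin 3 → F) → F)
      (f₂ : (Fin 4 → F) → (Fin 4 → F) → F), Geo.IsSymmetricForm f₁ ∧ Geo.IsSymmetricForm f₂ ∧
      Geo.IsTensorFormStructure id (polar ⇑Q) f₁ f₂ e P ∧ H ≤ Geo.tensorProductSubgroup 3 4 e P) ∨
  (∃ (F₀ : Subfield F) (r : ℕ) (P : GL (Fin n) F) (ζ : F), r.Prime ∧ Fintype.card F = Nat.card F₀ ^ r ∧ ζ ≠ 0 ∧
      Geo.IsQuadFormRationalStructure (fun v : Fin n → F => ζ * Q v) F₀ P ∧ H ≤ Geo.subfieldSubgroup F₀ P)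

open Cfsg.Agent.MaxSub.Asch (conjHom_conjHom_inv) in
/-- A normalised field has a normalised subfield for each prime divisor of its degree. -/
theorem exists_field_of_dvd {ι : Type} [Fintype ι] [DecidableEq ι] {F : Type*} [Field F] [Finite F] [Nonempty ι] {Z : Subalgebra F (Matrix ι ι F)} {G : Subgroup (GL ι F)}
    (hcomm : ∀ x ∈ Z, ∀ y ∈ Z, x * y = y * x) (hinv : ∀ x ∈ Z, x ≠ 0 → ∃ y ∈ Z, x * y = 1)
    (hZG : ∀ g ∈ G, ∀ z ∈ Z, conjHom g z ∈ Z) {r : ℕ} (hr : r.Prime) (hdvd : r ∣ finrank F Z) :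
    ∃ K : Subalgebra F (Matrix ι ι F), Geo.IsFieldSubalgebra r K ∧
      G ≤ Geo.subalgebraNormalizer K ∧ K ≤ Z ∧ ∀ k, k ∈ K ↔ k ∈ Z ∧ k ^ Nat.card F ^ r = k := by
  haveI : Fintype F := Fintype.ofFinite F
  haveI : Nontrivial Z := ⟨⟨0, 1, fun h => zero_ne_one (α := Matrix ι ι F) (congrArg Subtype.val h)⟩⟩
  have hfld : IsField Z :=
    { exists_pair_ne := exists_pair_ne Z
      mul_comm := fun x y => Subtype.ext (hcomm x x.2 y y.2)
      mul_inv_cancel := fun {x} hx => by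
        obtain ⟨y, hy, hxy⟩ := hinv x x.2 fun h => hx (Subtype.ext h)
        exact ⟨⟨y, hy⟩, Subtype.ext hxy⟩ }
  letI : Field Z := hfld.toField
  haveI : Finite (Matrix ι ι F) := Pi.finite
  haveI : Finite Z := Subtype.finite
  haveI : Fintype Z := Fintype.ofFinite Z
  set d := finrank F Z with hd
  have hd0 : 0 < d := Module.finrank_pos
  set q := Fintype.card F
  have hcard : Fintype.card Z = q ^ d := Module.card_eq_pow_finrank
  obtain ⟨j, hj⟩ : r ∣ d := hdvd
  obtain ⟨F₁, hF₁, hmem⟩ := Aschbacher.exists_subfield_card (F := Z) (q₁ := q ^ r) (r := j) (by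
      rcases Nat.eq_zero_or_pos j with h | h
      · rw [h, mul_zero] at hj; omega
      · exact h) (by rw [hcard, ← pow_mul, ← hj])
  have hscal : ∀ c : F, algebraMap F Z c ∈ F₁ := fun c => by
    rw [hmem, ← map_pow, show q ^ r = q ^ (r - 1 + 1) by congr 1; have := hr.pos; omega, pow_succ, mul_comm, pow_mul,
      FiniteField.pow_card]
    induction (r - 1) with
    | zero => simp
    | succ i ih => rw [pow_succ, pow_mul]; rw [show (c ^ q ^ i) = c from (algebraMap F Z).injective ih, FiniteField.pow_card]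
  let K₀ : Subalgebra F Z := { F₁.toSubring.toSubsemiring with algebraMap_mem' := hscal }
  let K : Subalgebra F (Matrix ι ι F) := K₀.map Z.val
  have hK : ∀ x : Matrix ι ι F, x ∈ K ↔ ∃ hx : x ∈ Z, (⟨x, hx⟩ : Z) ∈ F₁ := by
    intro x
    constructor
    · rintro ⟨y, hy, rfl⟩; exact ⟨y.2, hy⟩
    · rintro ⟨hx, hy⟩; exact ⟨⟨x, hx⟩, hy, rfl⟩
  refine ⟨K, ⟨fun x hx y hy => hcomm x ((hK x).mp hx).1 y ((hK y).mp hy).1, fun x hx h0 => ?_, ?_⟩,
    fun g hg => ?_, fun x hx => ((hK x).mp hx).1, fun k => ?_⟩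
  · obtain ⟨hxZ, hxF⟩ := (hK x).mp hx
    have hne0 : (⟨x, hxZ⟩ : Z) ≠ 0 := fun h => h0 (congrArg Subtype.val h)
    refine ⟨((⟨x, hxZ⟩ : Z)⁻¹ : Z), (hK _).mpr ⟨((⟨x, hxZ⟩ : Z)⁻¹ : Z).2, inv_mem hxF⟩, ?_⟩
    exact congrArg Subtype.val (mul_inv_cancel₀ hne0)
  · have h1 : Nat.card K = q ^ r := by
      rw [← hF₁]
      exact Nat.card_congr ((K₀.equivMapOfInjective Z.val Subtype.val_injective).symm.toEquiv)
    haveI : Finite K := Subtype.finite
    rw [Module.natCard_eq_pow_finrank (K := F), Nat.card_eq_fintype_card] at h1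
    exact Nat.pow_right_injective Fintype.one_lt_card h1
  · have key : ∀ g ∈ G, ∀ k ∈ K, conjHom g k ∈ K := by
      intro g hg k hk
      obtain ⟨hkZ, hkF⟩ := (hK k).mp hk
      refine (hK _).mpr ⟨hZG g hg k hkZ, (hmem _).mpr (Subtype.ext ?_)⟩
      have h2 : k ^ q ^ r = k := congrArg Subtype.val ((hmem _).mp hkF)
      show (conjHom g k) ^ q ^ r = conjHom g k
      rw [← map_pow, h2]
    intro k
    refine ⟨fun hk => key g hg k hk, fun hk => ?_⟩
    have := key g⁻¹ (inv_mem hg) _ hk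
    simpa [conjHom_apply, mul_assoc] using this
  · rw [Nat.card_eq_fintype_card, hK k]
    constructor
    · rintro ⟨hkZ, hkF⟩
      exact ⟨hkZ, congrArg Subtype.val ((hmem _).mp hkF)⟩
    · rintro ⟨hkZ, hkp⟩
      exact ⟨hkZ, (hmem _).mpr (Subtype.ext hkp)⟩

variable {n : ℕ} {F : Type*} [Field F] [Fintype F] {Q : QuadraticForm F (Fin n → F)} (hQ : PolarND Q)
variable {H : Subgroup (GL (Fin n) F)} (hH : H ≤ isometryGroup F ⇑Q) (hirr : Irr H)

include hH hirr in
/-- The members of a decomposition of an irreducible group are permuted transitively. -/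
theorem decomp_transitive {t k : ℕ} {D : Fin t → Submodule F (Fin n → F)} (hD : Geo.IsMDecomposition k D)
    (hle : H ≤ Geo.decompositionStabilizer D) (i j : Fin t) : Geo.AreIsometricFor ⇑Q (D i) (D j) := by
  classical
  have hne : ∀ i, D i ≠ ⊥ := fun i => ne_bot_of_finrank (by rw [hD.finrank_eq]; exact hD.pos)
  let O : Set (Fin t) := {j | ∃ g ∈ H, (D i).map (Matrix.toLin' (g : Matrix (Fin n) (Fin n) F)) = D j}
  have hiO : i ∈ O := ⟨1, one_mem _, by simp⟩
  let U : Submodule F (Fin n → F) := ⨆ (j) (_ : j ∈ O), D j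
  have hU : Inv H U := by
    intro g hg x hx
    have hUle : U ≤ U.comap (Matrix.toLin' (g : Matrix (Fin n) (Fin n) F)) := by
      refine iSup₂_le fun j hj => ?_
      obtain ⟨h, hh, hhj⟩ := hj
      obtain ⟨σ, hσ⟩ := hle hg
      refine Submodule.map_le_iff_le_comap.mp ?_
      rw [hσ]
      refine le_iSup₂_of_le (σ j) ⟨g * h, mul_mem hg hh, ?_⟩ le_rfl
      rw [Units.val_mul, Matrix.toLin'_mul, Submodule.map_comp, hhj, hσ]
    exact hUle hx
  obtain ⟨g, hg, hgj⟩ : j ∈ O := by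
    by_contra hj
    rcases hirr U hU with hb | ht
    · exact hne i (le_bot_iff.mp (hb ▸ le_iSup₂_of_le i hiO le_rfl))
    · have hdis : Disjoint (D j) U := (hD.indep j).mono_right
        (iSup₂_le fun l hl => le_iSup₂_of_le l (by rintro rfl; exact hj hl) le_rfl)
      rw [ht, disjoint_top] at hdis
      exact hne j hdis
  exact ⟨((Aschbacher.glEquiv g).submoduleMap (D i)).trans (LinearEquiv.ofEq _ _ hgj),
    fun w => iso_map (hH hg) (w : Fin n → F)⟩

include hH hirr in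
/-- A preserved non-degenerate decomposition. -/
theorem conc_decomp {t k : ℕ} {D : Fin t → Submodule F (Fin n → F)}
    (hD : Geo.IsNondegenerateMDecomposition (polar ⇑Q) k D) (hle : H ≤ Geo.decompositionStabilizer D) : Conc Q H :=
  Or.inl ⟨t, k, D, ⟨hD, decomp_transitive hH hirr hD.decomp hle⟩, hle⟩

include hH hirr in
/-- A preserved pair of totally isotropic halves is totally singular. -/
theorem singular_of_polar (hn : 4 ≤ n) {k : ℕ} {D : Fin 2 → Submodule F (Fin n → F)} (hD : Geo.IsMDecomposition k D)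
    (hts : ∀ i, Geo.IsTotallySingularFor (polar ⇑Q) (D i)) (hle : H ≤ Geo.decompositionStabilizer D) (i : Fin 2) :
    Geo.IsTotallySingularQuad ⇑Q (D i) := by
  classical
  let S : Fin 2 → Submodule F (Fin n → F) := fun i =>
    { carrier := {x | x ∈ D i ∧ Q x = 0}
      add_mem' := fun {a b} ha hb => ⟨add_mem ha.1 hb.1, by
        rw [form_add, ha.2, hb.2, hts i _ ha.1 _ hb.1, add_zero, add_zero]⟩
      zero_mem' := ⟨zero_mem _, QuadraticMap.map_zero Q⟩
      smul_mem' := fun c a ha => ⟨Submodule.smul_mem _ _ ha.1, by rw [form_smul, ha.2, mul_zero]⟩ }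
  have hU : Inv H (S 0 ⊔ S 1) := by
    intro g hg x hx
    obtain ⟨σ, hσ⟩ := hle hg
    have h1 : ∀ j, ∀ a ∈ S j, (g : Matrix (Fin n) (Fin n) F) *ᵥ a ∈ S 0 ⊔ S 1 := by
      intro j a ha
      have hmem : (g : Matrix (Fin n) (Fin n) F) *ᵥ a ∈ S (σ j) :=
        ⟨hσ j ▸ ⟨a, ha.1, Matrix.toLin'_apply _ _⟩, by rw [iso_map (hH hg)]; exact ha.2⟩
      generalize σ j = l at hmem
      fin_cases l
      · exact Submodule.mem_sup_left hmem
      · exact Submodule.mem_sup_right hmem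
    obtain ⟨a, ha, b, hb, rfl⟩ := Submodule.mem_sup.mp hx
    rw [Matrix.mulVec_add]
    exact add_mem (h1 0 a ha) (h1 1 b hb)
  intro w hw
  by_cases h2 : (2 : F) = 0
  swap
  · have h := hts i w hw w hw
    rw [polar_self, nsmul_eq_mul, Nat.cast_ofNat] at h
    exact (mul_eq_zero.mp h).resolve_left h2
  rcases hirr _ hU with hb | ht
  · exfalso
    have hk2 : 2 ≤ k := by
      have := dec_card hD
      rw [Fintype.card_fin] at this
      omega
    -- the singular part of a member is at worst a hyperplane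
    obtain ⟨u, hu, hu0⟩ := (D 0).ne_bot_iff.mp (ne_bot_of_finrank (by rw [hD.finrank_eq]; omega))
    obtain ⟨v, hv, hvu⟩ : ∃ v ∈ D 0, v ∉ Submodule.span F {u} := by
      by_contra hcon
      push Not at hcon
      have h := Submodule.finrank_mono (show D 0 ≤ Submodule.span F {u} from hcon)
      rw [finrank_span_singleton hu0, hD.finrank_eq] at h
      omega
    have hS0 : S 0 = ⊥ := le_bot_iff.mp (hb ▸ le_sup_left)
    have hne : ∀ x ∈ D 0, x ≠ 0 → Q x ≠ 0 := fun x hx hx0 h => hx0 ((Submodule.eq_bot_iff _).mp hS0 x ⟨hx, h⟩)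
    have heven : Even (Fintype.card F) := Nat.not_odd_iff_even.mp fun ho => Aschbacher.two_ne_zero_of_odd ho h2
    obtain ⟨s, hs⟩ := Aschbacher.exists_sq_of_even heven (Q v / Q u)
    have hz : Q (s • u + v) = 0 := by
      rw [form_add, form_smul, hts 0 _ (Submodule.smul_mem _ _ hu) _ hv, ← pow_two, hs,
        div_mul_cancel₀ _ (hne u hu hu0), add_zero, ← two_mul, h2, zero_mul]
    refine hne _ (add_mem (Submodule.smul_mem _ _ hu) hv) (fun e => hvu ?_) hz
    rw [eq_neg_of_add_eq_zero_right e]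
    exact neg_mem (Submodule.smul_mem _ _ (Submodule.mem_span_singleton_self u))
  · have hwS : w ∈ S 0 ⊔ S 1 := ht ▸ Submodule.mem_top
    obtain ⟨a, ha, b, hb, rfl⟩ := Submodule.mem_sup.mp hwS
    have hdis : D 0 ⊓ D 1 = ⊥ := disjoint_iff.mp (hD.indep.pairwiseDisjoint (show (0 : Fin 2) ≠ 1 by decide))
    fin_cases i
    · have hb' : b ∈ D 0 := by simpa using sub_mem hw ha.1
      have : b = 0 := (Submodule.eq_bot_iff _).mp hdis b ⟨hb', hb.1⟩
      rw [this, add_zero]; exact ha.2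
    · have ha' : a ∈ D 1 := by simpa using sub_mem hw hb.1
      have : a = 0 := (Submodule.eq_bot_iff _).mp hdis a ⟨ha.1, ha'⟩
      rw [this, zero_add]; exact hb.2

section FieldModule

variable {r : ℕ} {K : Subalgebra F (Matrix (Fin n) (Fin n) F)}

/-- A field of matrices is a field. -/
theorem isField_of_field (hK : Geo.IsFieldSubalgebra r K) (hr : 0 < r) : IsField K :=
  haveI : Nontrivial K := Module.nontrivial_of_finrank_pos (R := F) (by rw [hK.finrank_eq]; exact hr)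
  { exists_pair_ne := exists_pair_ne K
    mul_comm := fun x y => Subtype.ext (hK.comm x x.2 y y.2)
    mul_inv_cancel := fun {x} hx => by
      obtain ⟨y, hy, hxy⟩ := hK.inv x x.2 fun h => hx (Subtype.ext h)
      exact ⟨⟨y, hy⟩, Subtype.ext hxy⟩ }

include hQ in
theorem false_of_hom_two {L : Type*} [Field L] [Finite L] [Algebra F L] [FiniteDimensional F L]
    (φ : L →ₐ[F] Matrix (Fin n) (Fin n) F) (hsa : ∀ k, (pData hQ).adj (φ k) = φ k) (h2 : (2 : F) = 0) {m : ℕ}
    (hm : Odd m) (hn : n = finrank F L * m) : False := by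
  classical
  letI : Module L (Fin n → F) :=
    Module.compHom _ ((Matrix.toLinAlgEquiv' : Matrix (Fin n) (Fin n) F ≃ₐ[F] _).toAlgHom.comp φ).toRingHom
  have hsmul : ∀ (k : L) v, k • v = φ k *ᵥ v := fun _ _ => rfl
  haveI : IsScalarTower F L (Fin n → F) := ⟨fun c k v => by
    rw [hsmul, hsmul, map_smul, Matrix.smul_mulVec]⟩
  haveI : FiniteDimensional L (Fin n → F) := Module.Finite.of_restrictScalars_finite F L _
  have hB : ∀ (k : L) u v, polar Q (k • u) v = polar Q u (k • v) := fun k u v => by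
    rw [hsmul, hsmul, polar_adj hQ, hsa k]
  refine false_of_alternating (K := L) (polarBilin Q) hB (fun k v => ?_) (fun u hu => hQ u hu) ?_
  · have hinj : Function.Injective fun x : L => x * x := fun x y h => by
      have h2K : (2 : L) = 0 := by rw [← map_ofNat (algebraMap F L) 2, h2, map_zero]
      have h1 : (x - y) * (x - y) = 0 := by linear_combination h - (x * y - y * y) * h2K
      exact sub_eq_zero.mp (mul_self_eq_zero.mp h1)
    obtain ⟨s, hs⟩ := Finite.surjective_of_injective hinj k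
    show polar Q (k • v) v = 0
    rw [← hs, show (s * s) • v = s • s • v from mul_smul s s v, hB, polar_self, nsmul_eq_mul, Nat.cast_ofNat, h2,
      zero_mul]
  · have h := Module.finrank_mul_finrank F L (Fin n → F)
    rw [Module.finrank_pi, Fintype.card_fin] at h
    rwa [Nat.eq_of_mul_eq_mul_left Module.finrank_pos (h.trans hn)]

include hQ in
/-- In characteristic two a self-adjoint field of odd co-degree is impossible. -/
theorem false_of_selfAdjoint_two (hK : Geo.IsFieldSubalgebra r K) (hr : 0 < r)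
    (hsa : ∀ k ∈ K, (pData hQ).adj k = k) (h2 : (2 : F) = 0) {m : ℕ} (hm : Odd m) (hn : n = r * m) : False := by
  classical
  haveI : Finite K := Subtype.finite
  letI : Field K := (isField_of_field hK hr).toField
  exact false_of_hom_two hQ (L := K) K.val (fun k => hsa _ k.2) h2 hm (by rw [hK.finrank_eq]; exact hn)

end FieldModule

include hQ hH hirr in
/-- A normalised field of degree two which is not self-adjoint acts by similarities. -/
theorem similarities (hn : 2 ≤ n) {K : Subalgebra F (Matrix (Fin n) (Fin n) F)} (hK : Geo.IsFieldSubalgebra 2 K)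
    (hadj : ∀ k ∈ K, (pData hQ).adj k ∈ K) (hns : ∃ k ∈ K, (pData hQ).adj k ≠ k)
    (hKH : ∀ g ∈ H, ∀ k ∈ K, conjHom g k ∈ K) :
    ∀ k ∈ K, ∃ c : F, ∀ v : Fin n → F, Q (k *ᵥ v) = c * Q v := by
  classical
  haveI : Nonempty (Fin n) := ⟨⟨0, by omega⟩⟩
  set Φ := pData hQ with hΦ
  obtain ⟨z, hzK, hz⟩ := hns
  haveI : Nontrivial K := Module.nontrivial_of_finrank_pos (R := F) (by rw [hK.finrank_eq]; norm_num)
  -- every element is a combination of `1` and `z`
  have hspan : ∀ k ∈ K, ∃ a b : F, k = a • 1 + b • z := by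
    intro k hk
    have hli : LinearIndependent F ![(1 : K), ⟨z, hzK⟩] := by
      rw [LinearIndependent.pair_iff' one_ne_zero]
      intro a h
      have h1 : a • (1 : Matrix (Fin n) (Fin n) F) = z := congrArg Subtype.val h
      refine hz ?_
      rw [← h1, Φ.adj_smul, Φ.adj_one]; rfl
    let b := basisOfLinearIndependentOfCardEqFinrank hli (by rw [hK.finrank_eq, Fintype.card_fin])
    refine ⟨b.repr ⟨k, hk⟩ 0, b.repr ⟨k, hk⟩ 1, ?_⟩
    have h := congrArg Subtype.val (b.sum_repr ⟨k, hk⟩)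
    rw [Fin.sum_univ_two, coe_basisOfLinearIndependentOfCardEqFinrank] at h
    simpa using h.symm
  have hfix : ∀ k ∈ K, Φ.adj k = k → ∃ c : F, k = c • 1 := by
    intro k hk h
    obtain ⟨a, b, rfl⟩ := hspan k hk
    rw [Φ.adj_add, Φ.adj_smul, Φ.adj_smul, Φ.adj_one] at h
    rcases eq_or_ne b 0 with rfl | hb
    · exact ⟨a, by rw [zero_smul, add_zero]⟩
    · exfalso
      refine hz (smul_right_injective _ hb (add_left_cancel (a := a • (1 : Matrix (Fin n) (Fin n) F)) ?_))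
      exact h
  intro k hk
  obtain ⟨c, hc⟩ := hfix (Φ.adj k * k) (mul_mem (hadj k hk) hk) (by rw [Φ.adj_mul, Φ.adj_adj])
  refine ⟨c, fun v => ?_⟩
  have hpk : ∀ x, polar Q (k *ᵥ x) (k *ᵥ v) = c * polar Q x v := fun x => by
    rw [polar_adj hQ, Matrix.mulVec_mulVec, hc, Matrix.smul_mulVec, Matrix.one_mulVec, polar_smul_right, smul_eq_mul]
  by_cases h2 : (2 : F) = 0
  swap
  · refine mul_left_cancel₀ h2 ?_
    have h := hpk v
    rw [polar_self, polar_self, nsmul_eq_mul, nsmul_eq_mul, Nat.cast_ofNat] at h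
    linear_combination h
  -- a generator with adjoint sum one
  obtain ⟨d, hd⟩ := hfix (z + Φ.adj z) (add_mem hzK (hadj z hzK)) (by rw [Φ.adj_add, Φ.adj_adj, add_comm])
  have hd0 : d ≠ 0 := by
    rintro rfl
    rw [zero_smul] at hd
    refine hz ((eq_neg_of_add_eq_zero_right hd).trans ?_)
    rw [neg_eq_iff_add_eq_zero, ← two_smul F z, h2, zero_smul]
  set k₀ := d⁻¹ • z with hk₀
  have hk₀K : k₀ ∈ K := K.smul_mem hzK _
  have hk₀1 : k₀ + Φ.adj k₀ = 1 := by
    rw [hk₀, Φ.adj_smul, show Φ.σ d⁻¹ = d⁻¹ from rfl, ← smul_add, hd, smul_smul, inv_mul_cancel₀ hd0, one_smul]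
  let B : LinearMap.BilinMap F (Fin n → F) F := (polarBilin Q).compl₁₂ (Matrix.toLin' k₀) LinearMap.id
  have hB : ∀ u w, B u w = polar Q (k₀ *ᵥ u) w := fun u w => rfl
  have hQ' : ∀ w, B.toQuadraticMap w = polar Q (k₀ *ᵥ w) w := fun w => rfl
  have hkey := quad_eq (Q := Q) hirr (by rw [Fintype.card_fin]; exact hn) hH h2 (Q' := B.toQuadraticMap)
    (fun u w => by
      rw [LinearMap.BilinMap.polar_toQuadraticMap, hB, hB, polar_adj hQ k₀ w u, polar_comm Q w, ← polar_add_left,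
        ← Matrix.add_mulVec, hk₀1, Matrix.one_mulVec])
    (fun g hg w => by
      rw [hQ', hQ']
      set k' := conjHom g⁻¹ k₀ with hk'
      have h1 : k₀ *ᵥ ((g : Matrix (Fin n) (Fin n) F) *ᵥ w) = (g : Matrix (Fin n) (Fin n) F) *ᵥ (k' *ᵥ w) := by
        rw [Matrix.mulVec_mulVec, Matrix.mulVec_mulVec]
        congr 1
        simp [hk', conjHom_apply, ← mul_assoc]
      rw [h1, iso_map_polar (hH hg)]
      have hk'K : k' ∈ K := hKH _ (inv_mem hg) _ hk₀K
      obtain ⟨N, hN⟩ := hfix (k₀ * Φ.adj k₀) (mul_mem hk₀K (hadj _ hk₀K)) (by rw [Φ.adj_mul, Φ.adj_adj])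
      have hzero : (k' - k₀) * (k' - Φ.adj k₀) = 0 := by
        have hsum : k' + conjHom g⁻¹ (Φ.adj k₀) = 1 := by rw [hk', ← map_add, hk₀1, map_one]
        have hprod : k' * conjHom g⁻¹ (Φ.adj k₀) = N • 1 := by rw [hk', ← map_mul, hN, map_smul, map_one]
        rw [eq_sub_of_add_eq' hsum, mul_sub, mul_one] at hprod
        rw [mul_sub, sub_mul, sub_mul, hK.comm _ hk₀K _ hk'K, hN, ← hprod,
          show k' * Φ.adj k₀ = k' - k' * k₀ by rw [eq_sub_of_add_eq' hk₀1, mul_sub, mul_one]]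
        abel
      have hor : k' = k₀ ∨ k' = Φ.adj k₀ := by
        by_contra hcon
        push Not at hcon
        obtain ⟨y, -, hy⟩ := hK.inv _ (sub_mem hk'K hk₀K) (sub_ne_zero.mpr hcon.1)
        refine hcon.2 (sub_eq_zero.mp ?_)
        calc k' - Φ.adj k₀ = (y * (k' - k₀)) * (k' - Φ.adj k₀) := by rw [mul_eq_one_comm.mp hy, one_mul]
          _ = 0 := by rw [mul_assoc, hzero, mul_zero]
      rcases hor with h | h <;> rw [h]
      rw [polar_comm, ← polar_adj hQ])
  rw [hkey, hkey, hQ', hQ', Matrix.mulVec_mulVec, hK.comm _ hk₀K _ hk, ← Matrix.mulVec_mulVec, hpk]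

include hQ hH hirr in
/-- A normalised commutative reduced algebra, closed under adjoints, other than the scalars. -/
theorem algebra_core (hn : n = 8 ∨ n = 10 ∨ n = 12) {Z : Subalgebra F (Matrix (Fin n) (Fin n) F)}
    (hcomm : ∀ x ∈ Z, ∀ y ∈ Z, x * y = y * x) (hred : ∀ z ∈ Z, IsNilpotent z → z = 0)
    (hadj : ∀ z ∈ Z, (pData hQ).adj z ∈ Z) (hZH : ∀ g ∈ H, ∀ z ∈ Z, conjHom g z ∈ Z) (hne : finrank F Z ≠ 1) :
    Conc Q H ∨ ((∀ z ∈ Z, (pData hQ).adj z = z) ∧ (∀ x ∈ Z, x ≠ 0 → ∃ y ∈ Z, x * y = 1) ∧ n = 10 ∧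
      ∃ K : Subalgebra F (Matrix (Fin n) (Fin n) F), Geo.IsFieldSubalgebra 5 K ∧ K ≤ Z ∧
        H ≤ Geo.subalgebraNormalizer K) := by
  classical
  haveI : Nonempty (Fin n) := ⟨⟨0, by omega⟩⟩
  have hsim : ∀ g ∈ H, (pData hQ).IsSim g := fun g hg => isSim_of_mem hQ hH (Subgroup.mem_sup_left hg)
  by_cases hid : ∃ e ∈ Z, e * e = e ∧ e ≠ 0 ∧ e ≠ 1
  · obtain ⟨e, he, hee, h0, h1⟩ := hid
    rcases (pData hQ).decomp_of_idempotent hcomm hadj hirr hsim hZH he hee h0 h1 with
      ⟨t, k, D, hD, hle⟩ | ⟨k, D, hD, hts, hle, -⟩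
    · exact Or.inl (conc_decomp hH hirr (pData_form hQ ▸ hD) hle)
    · exact Or.inl (Or.inr (Or.inl ⟨k, D, hD,
        singular_of_polar hH hirr (by omega) hD (pData_form hQ ▸ hts) hle, hle⟩))
  have hinv := fun x (hx : x ∈ Z) (h0 : x ≠ 0) => inv_of_no_idem hred hid hx h0
  obtain ⟨r, K, hr, hK, hle, hKZ, hKmem⟩ := exists_prime_field' hcomm hinv hZH hne
  have hrn : r ∣ n := by
    have h := MaxSub.Asch.field_dvd_card hK hr.pos
    rwa [Fintype.card_fin] at h
  have hKadj : ∀ k ∈ K, (pData hQ).adj k ∈ K := fun k hk => by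
    obtain ⟨hkZ, hkp⟩ := (hKmem k).mp hk
    exact (hKmem _).mpr ⟨hadj k hkZ, by rw [← (pData hQ).adj_pow, hkp]⟩
  have hac : Geo.IsAdjointClosedFor (polar ⇑Q) K := fun k hk => ⟨_, hKadj k hk, polar_adj hQ k⟩
  have hsaK : (∀ k ∈ K, (pData hQ).adj k = k) → Geo.IsSelfAdjointFor (polar ⇑Q) K := fun h k hk u v => by
    rw [polar_adj hQ, h k hk]
  have hC : (∀ k ∈ K, (pData hQ).adj k = k) → r ≤ 3 → Conc Q H := fun h h3 => by
    refine Or.inr (Or.inr (Or.inl ⟨r, K, hr, hrn, h3, fun h10 => ?_, hK, hsaK h, hle⟩))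
    by_contra hev
    obtain rfl : r = 2 := by
      have h2 := hr.two_le
      rcases (show r = 2 ∨ r = 3 by omega) with e | e
      · exact e
      · subst e; subst h10; norm_num at hrn
    exact false_of_selfAdjoint_two hQ hK two_pos h (Aschbacher.two_eq_zero_of_not_odd hev) (m := 5) (by decide) h10
  by_cases hid' : ∀ z ∈ Z, (pData hQ).adj z = z
  · have h := fun k hk => hid' k (hKZ hk)
    by_cases h3 : r ≤ 3
    · exact Or.inl (hC h h3)
    · have hr5 : r = 5 ∧ n = 10 := by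
        have hle' := Nat.le_of_dvd (by omega) hrn
        rcases hn with rfl | rfl | rfl <;> interval_cases r <;> revert hr hrn <;> norm_num
      obtain ⟨rfl, h10⟩ := hr5
      exact Or.inr ⟨hid', hinv, h10, K, hK, hKZ, hle⟩
  push Not at hid'
  obtain ⟨z₁, hz₁, hz₁ne⟩ := hid'
  left
  -- the adjoint is an involution of the field, so the degree is even
  have h2d : 2 ∣ finrank F Z := by
    haveI : Finite (Matrix (Fin n) (Fin n) F) := Pi.finite
    haveI : Finite Z := Subtype.finite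
    haveI : Nontrivial Z := ⟨⟨0, 1, fun h => zero_ne_one (α := Matrix (Fin n) (Fin n) F) (congrArg Subtype.val h)⟩⟩
    have hfld : IsField Z :=
      { exists_pair_ne := exists_pair_ne Z
        mul_comm := fun x y => Subtype.ext (hcomm x x.2 y y.2)
        mul_inv_cancel := fun {x} hx => by
          obtain ⟨y, hy, hxy⟩ := hinv x x.2 fun h => hx (Subtype.ext h)
          exact ⟨⟨y, hy⟩, Subtype.ext hxy⟩ }
    letI : Field Z := hfld.toField
    let τ : Z ≃ₐ[F] Z :=
      { toFun := fun x => ⟨(pData hQ).adj x, hadj x x.2⟩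
        invFun := fun x => ⟨(pData hQ).adj x, hadj x x.2⟩
        left_inv := fun x => Subtype.ext ((pData hQ).adj_adj _)
        right_inv := fun x => Subtype.ext ((pData hQ).adj_adj _)
        map_mul' := fun x y => Subtype.ext (by
          show (pData hQ).adj ((x : Matrix (Fin n) (Fin n) F) * y) = _
          rw [(pData hQ).adj_mul]
          exact hcomm _ (hadj _ y.2) _ (hadj _ x.2))
        map_add' := fun x y => Subtype.ext ((pData hQ).adj_add _ _)
        commutes' := fun c => Subtype.ext (by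
          show (pData hQ).adj (algebraMap F (Matrix (Fin n) (Fin n) F) c) = algebraMap F _ c
          rw [Algebra.algebraMap_eq_smul_one, (pData hQ).adj_smul, (pData hQ).adj_one]
          rfl) }
    have hτ : orderOf τ = 2 := by
      refine orderOf_eq_prime ?_ fun h1 => hz₁ne ?_
      · exact AlgEquiv.ext fun x => Subtype.ext ((pData hQ).adj_adj _)
      · exact congrArg Subtype.val (DFunLike.congr_fun h1 (⟨z₁, hz₁⟩ : Z))
    rw [← hτ, ← IsGalois.card_aut_eq_finrank]
    exact orderOf_dvd_natCard τ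
  obtain ⟨K, hK, hle, hKZ, hKmem⟩ := exists_field_of_dvd hcomm hinv hZH Nat.prime_two h2d
  have hKadj : ∀ k ∈ K, (pData hQ).adj k ∈ K := fun k hk => by
    obtain ⟨hkZ, hkp⟩ := (hKmem k).mp hk
    exact (hKmem _).mpr ⟨hadj k hkZ, by rw [← (pData hQ).adj_pow, hkp]⟩
  by_cases h : ∀ k ∈ K, (pData hQ).adj k = k
  · refine Or.inr (Or.inr (Or.inl ⟨2, K, Nat.prime_two, by omega, by norm_num, fun h10 => ?_, hK, fun k hk u v => by
      rw [polar_adj hQ, h k hk], hle⟩))
    by_contra hev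
    exact false_of_selfAdjoint_two hQ hK two_pos h (Aschbacher.two_eq_zero_of_not_odd hev) (m := 5) (by decide) h10
  push Not at h
  obtain ⟨k₁, hk₁, hk₁ne⟩ := h
  refine Or.inr (Or.inr (Or.inr (Or.inl ⟨K, hK, fun k hk => ⟨_, hKadj k hk, polar_adj hQ k⟩, fun hsa => hk₁ne ?_, ?_, hle⟩)))
  · refine Matrix.ext_of_mulVec_single fun i => sub_eq_zero.mp (hQ _ fun v => ?_)
    rw [polar_comm, polar_sub_right, ← polar_adj hQ, hsa k₁ hk₁, sub_self]
  · exact similarities hQ hH hirr (by omega) hK hKadj ⟨k₁, hk₁, hk₁ne⟩ fun g hg k hk => (hle hg k).mp hk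

end Cfsg.Agent.Aschbacher.Orth
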