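import Cfsg.Agent.Aschbacher.Orth.Tensor

/-!
A self-adjoint field of degree five in dimension ten, and the conclusion of Clifford theory.
-/

set_option autoImplicit false
set_option linter.unusedSectionVars false
set_option linter.style.haveILetI false

namespace Cfsg.Agent.Aschbacher.Orth

open scoped MatrixGroups Matrix Kronecker commutatorElement
open Module QuadraticMap
open Cfsg.Agent.UnitaryOrthogonal
open Cfsg.Agent.Aschbacher (Inv Irr NormalIn)
open Cfsg.Agent.MaxSub.Asch (FormData conjHom conjHom_apply zalg alg)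

variable {n : ℕ} {F : Type*} [Field F] [Fintype F] {Q : QuadraticForm F (Fin n → F)}
variable {L : Type*} [Field L] [Finite L] [Algebra F L] [FiniteDimensional F L]

/-- An irreducible group of small index over its scalars has small degree. -/
theorem card_le_degree (φ : L →ₐ[F] Matrix (Fin n) (Fin n) F) {H : Subgroup (GL (Fin n) F)} (hirr : Irr H)
    (hnorm : ∀ g ∈ H, ∀ k : L, ∃ k' : L, conjHom g (φ k) = φ k')
    (hscal : ∀ g ∈ H, (∀ k : L, conjHom g (φ k) = φ k) → g ∈ Geo.scalars (Fin n) F) (hn : 0 < n) :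
    n ≤ finrank F L := by
  classical
  haveI : Nonempty (Fin n) := ⟨⟨0, hn⟩⟩
  choose f hf using hnorm
  have hinj : Function.Injective φ := φ.toRingHom.injective
  let σ : H → (L →ₐ[F] L) := fun g =>
    { toFun := f g g.2
      map_one' := hinj (by rw [← hf, map_one, map_one])
      map_mul' := fun a b => hinj (by rw [map_mul, ← hf, ← hf, ← hf, map_mul, map_mul])
      map_zero' := hinj (by rw [← hf, map_zero, map_zero])
      map_add' := fun a b => hinj (by rw [map_add, ← hf, ← hf, ← hf, map_add, map_add])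
      commutes' := fun c => hinj (by rw [← hf, AlgHom.commutes, AlgHom.commutes]) }
  let v : Fin n → F := Pi.single (Classical.arbitrary _) 1
  haveI : Fintype (L →ₐ[F] L) := Fintype.ofFinite _
  let w : (L →ₐ[F] L) → (Fin n → F) := fun τ =>
    if h : ∃ g, σ g = τ then ((h.choose : GL (Fin n) F) : Matrix (Fin n) (Fin n) F) *ᵥ v else 0
  let U : Submodule F (Fin n → F) := Submodule.span F (Set.range w)
  have hmem : ∀ g : H, ((g : GL (Fin n) F) : Matrix (Fin n) (Fin n) F) *ᵥ v ∈ U := by
    intro g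
    have hex : ∃ g', σ g' = σ g := ⟨g, rfl⟩
    have hw : w (σ g) = ((hex.choose : GL (Fin n) F) : Matrix (Fin n) (Fin n) F) *ᵥ v := dif_pos hex
    set g' := hex.choose
    have hg' : σ g' = σ g := hex.choose_spec
    have hz := hscal _ (mul_mem (inv_mem g'.2) g.2) fun k => by
      have h1 : conjHom (g : GL (Fin n) F) (φ k) = conjHom (g' : GL (Fin n) F) (φ k) := by
        rw [hf _ g.2, hf _ g'.2]
        exact congrArg φ (DFunLike.congr_fun hg'.symm k)
      have h3 := congrArg (conjHom (g' : GL (Fin n) F)⁻¹) h1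
      simpa [conjHom_apply, mul_assoc] using h3
    obtain ⟨c, hc⟩ := (Geo.mem_scalars_iff _).mp hz
    have : ((g : GL (Fin n) F) : Matrix (Fin n) (Fin n) F) =
        (c : F) • ((g' : GL (Fin n) F) : Matrix (Fin n) (Fin n) F) := by
      rw [show (g : GL (Fin n) F) = (g' : GL (Fin n) F) * ((g' : GL (Fin n) F)⁻¹ * g) by group, Units.val_mul, hc,
        Matrix.mul_smul, mul_one]
    rw [this, Matrix.smul_mulVec, ← hw]
    exact Submodule.smul_mem _ _ (Submodule.subset_span ⟨_, rfl⟩)
  let W : Submodule F (Fin n → F) :=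
    Submodule.span F (Set.range fun g : H => ((g : GL (Fin n) F) : Matrix (Fin n) (Fin n) F) *ᵥ v)
  have hWU : W ≤ U := Submodule.span_le.mpr (Set.range_subset_iff.mpr hmem)
  have hWi : Inv H W := by
    intro g hg x hx
    have hle : W ≤ W.comap (Matrix.toLin' (g : Matrix (Fin n) (Fin n) F)) := by
      refine Submodule.span_le.mpr ?_
      rintro _ ⟨h, rfl⟩
      refine Submodule.subset_span ⟨⟨g, hg⟩ * h, ?_⟩
      simp [Matrix.mulVec_mulVec]
    exact hle hx
  rcases hirr W hWi with h | h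
  · exfalso
    have h1 := (Submodule.eq_bot_iff W).mp h v (Submodule.subset_span ⟨1, by simp⟩)
    simpa [v] using congrFun h1 (Classical.arbitrary _)
  · calc n = finrank F W := by rw [h, finrank_top, Module.finrank_pi, Fintype.card_fin]
      _ ≤ finrank F U := Submodule.finrank_mono hWU
      _ ≤ Fintype.card (L →ₐ[F] L) := finrank_range_le_card _
      _ ≤ finrank F L := by convert AlgHom.card_le (F := F) (K := L)

/-- In dimension two over a field of matrices the commutators of isometries commute. -/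
theorem dim_two_structure (hQ : PolarND Q) (φ : L →ₐ[F] Matrix (Fin n) (Fin n) F)
    (hsa : ∀ k, (pData hQ).adj (φ k) = φ k) (hn : n = finrank F L * 2) :
    (∀ S T X : Matrix (Fin n) (Fin n) F, (∀ k, S * φ k = φ k * S) → (∀ k, T * φ k = φ k * T) →
      (∀ k, X * φ k = φ k * X) → (∀ k, X ≠ φ k) → S * X = X * S → T * X = X * T → S * T = T * S) ∧
    ∀ g h g' h' : GL (Fin n) F, (g ∈ isometryGroup F ⇑Q ∧ ∀ k, (g : Matrix (Fin n) (Fin n) F) * φ k = φ k * g) →
      (h ∈ isometryGroup F ⇑Q ∧ ∀ k, (h : Matrix (Fin n) (Fin n) F) * φ k = φ k * h) →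
      (g' ∈ isometryGroup F ⇑Q ∧ ∀ k, (g' : Matrix (Fin n) (Fin n) F) * φ k = φ k * g') →
      (h' ∈ isometryGroup F ⇑Q ∧ ∀ k, (h' : Matrix (Fin n) (Fin n) F) * φ k = φ k * h') →
      Commute ⁅g, h⁆ ⁅g', h'⁆ := by
  classical
  letI : Module L (Fin n → F) :=
    Module.compHom _ ((Matrix.toLinAlgEquiv' : Matrix (Fin n) (Fin n) F ≃ₐ[F] _).toAlgHom.comp φ).toRingHom
  have hsmul : ∀ (k : L) v, k • v = φ k *ᵥ v := fun _ _ => rfl
  haveI : IsScalarTower F L (Fin n → F) := ⟨fun c k v => by
    rw [hsmul, hsmul, map_smul, Matrix.smul_mulVec]⟩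
  haveI : FiniteDimensional L (Fin n → F) := Module.Finite.of_restrictScalars_finite F L _
  have hd : finrank L (Fin n → F) = 2 := by
    have h := Module.finrank_mul_finrank F L (Fin n → F)
    rw [Module.finrank_pi, Fintype.card_fin] at h
    exact Nat.eq_of_mul_eq_mul_left Module.finrank_pos (h.trans hn)
  let C : Submonoid (Matrix (Fin n) (Fin n) F) :=
    { carrier := {M | ∀ k, M * φ k = φ k * M}
      one_mem' := fun k => by rw [one_mul, mul_one]
      mul_mem' := fun {a b} ha hb k => by rw [mul_assoc, hb k, ← mul_assoc, ha k, mul_assoc] }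
  let toK : C →* Module.End L (Fin n → F) :=
    { toFun := fun M =>
        { toFun := fun v => (M : Matrix (Fin n) (Fin n) F) *ᵥ v
          map_add' := fun u v => Matrix.mulVec_add _ _ _
          map_smul' := fun k v => by
            rw [RingHom.id_apply, hsmul, hsmul, Matrix.mulVec_mulVec, M.2 k, Matrix.mulVec_mulVec] }
      map_one' := LinearMap.ext fun v => Matrix.one_mulVec v
      map_mul' := fun a b => LinearMap.ext fun v => (Matrix.mulVec_mulVec v _ _).symm }
  have hinj : Function.Injective toK := fun a b h => Subtype.ext (Matrix.ext_of_mulVec_single fun i =>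
    LinearMap.congr_fun h (Pi.single i 1))
  refine ⟨fun S T X hS hT hX hXne hSX hTX => ?_, fun g h g' h' hg hh hg' hh' => ?_⟩
  · have h1 := commute_of_commute hd (X := toK ⟨X, hX⟩) (S := toK ⟨S, hS⟩) (T := toK ⟨T, hT⟩)
      (fun c hc => hXne c (Matrix.ext_of_mulVec_single fun i => LinearMap.congr_fun hc (Pi.single i 1)))
      (by rw [← map_mul, ← map_mul]; exact congrArg toK (Subtype.ext hSX))
      (by rw [← map_mul, ← map_mul]; exact congrArg toK (Subtype.ext hTX))
    rw [← map_mul, ← map_mul] at h1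
    exact congrArg Subtype.val (hinj h1)
  · obtain ⟨X, hX, hXc⟩ := isometry_commutators_commute (K := L) hd (⇑Q) (fun c v => form_smul (Q := Q) c v)
      (polarBilin Q) (fun u v => form_add (Q := Q) u v)
      (fun k u v => show polar Q (k • u) v = polar Q u (k • v) by rw [hsmul, hsmul, polar_adj hQ, hsa]) fun u hu => hQ u hu
    have hinvC : ∀ {g : GL (Fin n) F}, (∀ k, (g : Matrix (Fin n) (Fin n) F) * φ k = φ k * g) →
        ∀ k, ((g⁻¹ : GL (Fin n) F) : Matrix (Fin n) (Fin n) F) * φ k = φ k * ((g⁻¹ : GL (Fin n) F) : Matrix (Fin n) (Fin n) F) := by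
      intro g hg k
      calc _ = ((g⁻¹ : GL (Fin n) F) : Matrix (Fin n) (Fin n) F) * (φ k * (g : Matrix (Fin n) (Fin n) F)) *
            ((g⁻¹ : GL (Fin n) F) : Matrix (Fin n) (Fin n) F) := by simp [mul_assoc]
        _ = _ := by rw [← hg k]; simp [← mul_assoc]
    let N : Subgroup (GL (Fin n) F) :=
      { carrier := {g | ∀ k, (g : Matrix (Fin n) (Fin n) F) * φ k = φ k * g}
        one_mem' := fun k => by simp
        mul_mem' := fun {a b} ha hb k => by rw [Units.val_mul, mul_assoc, hb k, ← mul_assoc, ha k, mul_assoc]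
        inv_mem' := fun {a} ha => hinvC ha }
    let toC : N →* C :=
      { toFun := fun g => ⟨((g : GL (Fin n) F) : Matrix (Fin n) (Fin n) F), g.2⟩
        map_one' := rfl
        map_mul' := fun _ _ => rfl }
    let u : N →* (Module.End L (Fin n → F))ˣ := (toK.comp toC).toHomUnits
    have hu : ∀ g : N, ∀ v, (u g : Module.End L (Fin n → F)) v = ((g : GL (Fin n) F) : Matrix (Fin n) (Fin n) F) *ᵥ v :=
      fun _ _ => rfl
    have key : ∀ a b : N, (a : GL (Fin n) F) ∈ isometryGroup F ⇑Q → (b : GL (Fin n) F) ∈ isometryGroup F ⇑Q →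
        (u ⁅a, b⁆ : Module.End L (Fin n → F)) * X = X * (u ⁅a, b⁆ : Module.End L (Fin n → F)) := fun a b ha hb => by
      rw [map_commutatorElement]
      exact hXc (u a) (u b) (fun v => by rw [hu]; exact iso_map ha v) (fun v => by rw [hu]; exact iso_map hb v)
    let a : N := ⟨g, hg.2⟩
    let b : N := ⟨h, hh.2⟩
    let a' : N := ⟨g', hg'.2⟩
    let b' : N := ⟨h', hh'.2⟩
    have h1 := commute_of_commute hd hX (key a b hg.1 hh.1) (key a' b' hg'.1 hh'.1)
    rw [← Units.val_mul, ← Units.val_mul, ← map_mul, ← map_mul] at h1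
    have h3 : ((⁅a, b⁆ * ⁅a', b'⁆ : N) : GL (Fin n) F) = ((⁅a', b'⁆ * ⁅a, b⁆ : N) : GL (Fin n) F) :=
      Units.ext (Matrix.ext_of_mulVec_single fun i => LinearMap.congr_fun h1 (Pi.single i 1))
    exact h3

variable (hQ : PolarND Q) {H : Subgroup (GL (Fin n) F)} (hH : H ≤ isometryGroup F ⇑Q) (hirr : Irr H)

include hQ hH hirr in
/-- A normalised self-adjoint field of degree five in dimension ten. -/
theorem conc_of_five (hn : n = 10) (φ : L →ₐ[F] Matrix (Fin n) (Fin n) F) (hL : finrank F L = 5)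
    (hsa : ∀ k, (pData hQ).adj (φ k) = φ k) (hnorm : ∀ g ∈ H, ∀ k : L, ∃ k' : L, conjHom g (φ k) = φ k') :
    Conc Q H := by
  classical
  haveI : Nonempty (Fin n) := ⟨⟨0, by omega⟩⟩
  let N : Subgroup (GL (Fin n) F) :=
    { carrier := {g | g ∈ H ∧ ∀ k, conjHom g (φ k) = φ k}
      one_mem' := ⟨one_mem _, fun k => by simp [conjHom_apply]⟩
      mul_mem' := fun {a b} ha hb => ⟨mul_mem ha.1 hb.1, fun k => by
        have : conjHom (a * b) (φ k) = conjHom a (conjHom b (φ k)) := by simp [conjHom_apply, mul_assoc]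
        rw [this, hb.2, ha.2]⟩
      inv_mem' := fun {a} ha => ⟨inv_mem ha.1, fun k => by
        conv_lhs => rw [← ha.2 k]
        simp [conjHom_apply, mul_assoc]⟩ }
  have hNH : N ≤ H := fun g hg => hg.1
  have hNc : ∀ g ∈ N, ∀ k, (g : Matrix (Fin n) (Fin n) F) * φ k = φ k * g := fun g hg k => by
    have h := congrArg (· * (g : Matrix (Fin n) (Fin n) F)) (hg.2 k)
    simpa [conjHom_apply, mul_assoc] using h
  by_cases hNs : N ≤ Geo.scalars (Fin n) F
  · exfalso
    have := card_le_degree φ hirr hnorm (fun g hg h => hNs ⟨hg, h⟩) (by omega)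
    omega
  have hNn : NormalIn N H := fun g hg x hx => ⟨mul_mem (mul_mem hg hx.1) (inv_mem hg), fun k => by
    obtain ⟨k', hk'⟩ := hnorm g⁻¹ (inv_mem hg) k
    have : conjHom (g * x * g⁻¹) (φ k) = conjHom g (conjHom x (conjHom g⁻¹ (φ k))) := by
      simp [conjHom_apply, mul_assoc]
    rw [this, hk', hx.2, ← hk', MaxSub.Asch.conjHom_conjHom_inv]⟩
  obtain ⟨θ, hθ⟩ : ∃ θ : L, ∀ c : F, φ θ ≠ c • 1 := by
    by_contra hcon
    push Not at hcon
    have : finrank F L ≤ 1 := finrank_le_one (1 : L) fun w => by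
      obtain ⟨c, hc⟩ := hcon w
      exact ⟨c, φ.toRingHom.injective (by simp [hc])⟩
    omega
  -- a normal subgroup centralising the field is not absolutely irreducible
  have hclif : ∀ M : Subgroup (GL (Fin n) F), M ≤ N → NormalIn M H → ¬ M ≤ Geo.scalars (Fin n) F →
      Conc Q H ∨ Bad M H hQ := fun M hM hMn hMs =>
    clifford_core hQ hH hirr (Or.inr (Or.inl hn)) ((hM.trans hNH).trans le_sup_left) hMn hMs fun habs => by
      obtain ⟨c, hc⟩ := habs.2 (φ θ) (by
        rintro _ ⟨g, hg, rfl⟩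
        exact (hNc g (hM hg) θ).symm)
      exact hθ c hc
  -- elements with square one are central
  have hpm : ∀ (Z : Subalgebra F (Matrix (Fin n) (Fin n) F)), (∀ x ∈ Z, x ≠ 0 → ∃ y ∈ Z, x * y = 1) →
      ∀ g ∈ Z, g * g = 1 → g = 1 ∨ g = -1 := by
    intro Z hinv g hg hgg
    by_cases h1 : g = 1
    · exact Or.inl h1
    obtain ⟨y, -, hy⟩ := hinv _ (sub_mem hg (one_mem Z)) (sub_ne_zero.mpr h1)
    refine Or.inr (eq_neg_of_add_eq_zero_left ?_)
    calc g + 1 = (y * (g - 1)) * (g + 1) := by rw [mul_eq_one_comm.mp hy, one_mul]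
      _ = y * (g * g - 1) := by noncomm_ring
      _ = 0 := by rw [hgg, sub_self, mul_zero]
  -- an abelian normal subgroup closes the case
  have habel : ∀ M : Subgroup (GL (Fin n) F), M ≤ N → NormalIn M H → ¬ M ≤ Geo.scalars (Fin n) F →
      (∀ a ∈ M, ∀ b ∈ M, a * b = b * a) → Conc Q H := by
    intro M hM hMn hMs hab
    rcases hclif M hM hMn hMs with h | ⟨hall, hinv, -, -⟩
    · exact h
    exfalso
    refine hMs fun g hg => ?_
    have hgz : (g : Matrix (Fin n) (Fin n) F) ∈ zalg M := by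
      refine MaxSub.Asch.mem_zalg.mpr ⟨MaxSub.Asch.coe_mem_alg hg, fun a ha => (MaxSub.Asch.commute_alg ?_ ha).symm⟩
      rintro x hx
      exact congrArg Units.val (hab g hg x hx)
    have h1 : (g : Matrix (Fin n) (Fin n) F) * g = 1 := by
      have h := hall _ hgz
      rw [adj_of_iso hQ (hH (hNH (hM hg)))] at h
      nth_rw 2 [← h]
      exact g.mul_inv
    rcases hpm _ hinv _ hgz h1 with h | h
    · exact Aschbacher.mem_scalars_of_smul (c := 1) (by rw [h, one_smul])
    · exact Aschbacher.mem_scalars_of_smul (c := -1) (by rw [h, neg_one_smul])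
  obtain ⟨hcc, hcomm⟩ := dim_two_structure hQ φ hsa (by omega)
  set A := ⁅N, N⁆ with hA
  have hAN : A ≤ N := Aschbacher.commutator_le_self N
  by_cases hAs : A ≤ Geo.scalars (Fin n) F
  swap
  · refine habel A hAN hNn.commutator hAs ?_
    have hgen : ∀ g h g' h', g ∈ N → h ∈ N → g' ∈ N → h' ∈ N → Commute ⁅g, h⁆ ⁅g', h'⁆ :=
      fun g h g' h' hg hh hg' hh' => hcomm g h g' h' ⟨hH hg.1, hNc g hg⟩ ⟨hH hh.1, hNc h hh⟩ ⟨hH hg'.1, hNc g' hg'⟩
        ⟨hH hh'.1, hNc h' hh'⟩
    intro a ha b hb
    have h1 : A ≤ Subgroup.centralizer {b} := Subgroup.commutator_le.mpr fun g hg h hh => by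
      have h3 : A ≤ Subgroup.centralizer {⁅g, h⁆} := Subgroup.commutator_le.mpr fun g' hg' h' hh' => by
        rw [Subgroup.mem_centralizer_singleton_iff]
        exact hgen g' h' g h hg' hh' hg hh
      rw [Subgroup.mem_centralizer_singleton_iff]
      exact (Subgroup.mem_centralizer_singleton_iff.mp (h3 hb)).symm
    exact Subgroup.mem_centralizer_singleton_iff.mp (h1 ha)
  by_cases hab : ∀ a ∈ N, ∀ b ∈ N, a * b = b * a
  · exact habel N le_rfl hNn hNs hab
  rcases hclif N le_rfl hNn hNs with h | ⟨hall, hinv, -, K, hK, hKZ, -⟩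
  · exact h
  exfalso
  push Not at hab
  obtain ⟨x, hx, y, hy, hxy⟩ := hab
  -- commutators are signs
  have hsign : ∀ a ∈ N, ∀ b ∈ N, ∃ s : F, (s = 1 ∨ s = -1) ∧
      (a : Matrix (Fin n) (Fin n) F) * b = s • ((b : Matrix (Fin n) (Fin n) F) * a) := by
    intro a ha b hb
    have hc := Subgroup.commutator_mem_commutator ha hb
    obtain ⟨u, hu⟩ := (Geo.mem_scalars_iff _).mp (hAs hc)
    have hu2 : (u : F) * u = 1 := by
      have h := gram_of_iso hQ (hH (hNH (hAN hc)))
      rw [hu, Matrix.transpose_smul, Matrix.transpose_one, Matrix.smul_mul, one_mul, Matrix.mul_smul, mul_one,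
        smul_smul] at h
      exact smul_left_injective F (pData hQ).gram.ne_zero (h.trans (one_smul F _).symm)
    refine ⟨u, mul_self_eq_one_iff.mp hu2, ?_⟩
    have h1 : a * b = ⁅a, b⁆ * (b * a) := by rw [commutatorElement_def]; group
    rw [← Units.val_mul, h1, Units.val_mul, hu, Matrix.smul_mul, one_mul, Units.val_mul]
  obtain ⟨s, hs, hxys⟩ := hsign x hx y hy
  have h2 : (2 : F) ≠ 0 := fun h2 => by
    refine hxy (Units.ext ?_)
    rcases hs with rfl | rfl
    · rw [Units.val_mul, Units.val_mul, hxys, one_smul]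
    · rw [Units.val_mul, Units.val_mul, hxys, show (-1 : F) = 1 by linear_combination -h2, one_smul]
  obtain rfl : s = -1 := by
    rcases hs with rfl | rfl
    · exact absurd (Units.ext (by rw [Units.val_mul, Units.val_mul, hxys, one_smul])) hxy
    · rfl
  set X := (x : Matrix (Fin n) (Fin n) F) with hX
  set Y := (y : Matrix (Fin n) (Fin n) F) with hY
  rw [neg_one_smul] at hxys
  -- squares are signs
  have hsq : ∀ a ∈ N, (a : Matrix (Fin n) (Fin n) F) * a = 1 ∨ (a : Matrix (Fin n) (Fin n) F) * a = -1 := by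
    intro a ha
    have hz : (a : Matrix (Fin n) (Fin n) F) * a ∈ zalg N := by
      refine MaxSub.Asch.mem_zalg.mpr ⟨mul_mem (MaxSub.Asch.coe_mem_alg ha) (MaxSub.Asch.coe_mem_alg ha),
        fun b hb => (MaxSub.Asch.commute_alg ?_ hb).symm⟩
      intro c hc
      obtain ⟨t, ht, hac⟩ := hsign a ha c hc
      have ht2 : t * t = 1 := by rcases ht with rfl | rfl <;> ring
      rw [mul_assoc, hac, Matrix.mul_smul, ← mul_assoc, hac, Matrix.smul_mul, smul_smul, ht2, one_smul, mul_assoc]
    refine hpm _ hinv _ hz ?_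
    have h := hall _ hz
    rw [← Units.val_mul, adj_of_iso hQ (hH (hNH (mul_mem ha ha)))] at h
    rw [← Units.val_mul]
    nth_rw 2 [← h]
    exact (a * a).mul_inv
  -- a matrix commuting with both generators is scalar
  have hboth : ∀ a ∈ N, (a : Matrix (Fin n) (Fin n) F) * X = X * a → (a : Matrix (Fin n) (Fin n) F) * Y = Y * a →
      ∃ c : F, (a : Matrix (Fin n) (Fin n) F) = c • 1 := by
    intro a ha hax hay
    obtain ⟨k, hk⟩ : ∃ k, (a : Matrix (Fin n) (Fin n) F) = φ k := by
      by_contra hcon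
      push Not at hcon
      refine hxy (Units.ext ?_)
      rw [Units.val_mul, Units.val_mul]
      exact hcc X Y _ (hNc x hx) (hNc y hy) (hNc a ha) hcon hax.symm hay.symm
    have h1 : k * k = 1 := φ.toRingHom.injective (by
      show φ (k * k) = φ 1
      rw [map_mul, map_one, ← hk]
      have h := hsa k
      rw [← hk, adj_of_iso hQ (hH (hNH ha))] at h
      nth_rw 2 [← h]
      exact a.mul_inv)
    rcases mul_self_eq_one_iff.mp h1 with e | e
    · exact ⟨1, by rw [hk, e, map_one, one_smul]⟩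
    · exact ⟨-1, by rw [hk, e, map_neg, map_one, neg_one_smul]⟩
  let W : Submodule F (Matrix (Fin n) (Fin n) F) := Submodule.span F (Set.range ![1, X, Y, X * Y])
  have hW1 : (1 : Matrix (Fin n) (Fin n) F) ∈ W := Submodule.subset_span ⟨0, rfl⟩
  have hWX : X ∈ W := Submodule.subset_span ⟨1, rfl⟩
  have hWY : Y ∈ W := Submodule.subset_span ⟨2, rfl⟩
  have hWXY : X * Y ∈ W := Submodule.subset_span ⟨3, rfl⟩
  have hNW : ∀ a ∈ N, (a : Matrix (Fin n) (Fin n) F) ∈ W := by
    intro a ha
    have hyx : Y * X = -(X * Y) := by rw [hxys, neg_neg]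
    -- move to an element commuting with both generators
    have step : ∀ w ∈ N, ((a * w : GL (Fin n) F) : Matrix (Fin n) (Fin n) F) * X = X * ((a * w : GL (Fin n) F) : Matrix (Fin n) (Fin n) F) →
        ((a * w : GL (Fin n) F) : Matrix (Fin n) (Fin n) F) * Y = Y * ((a * w : GL (Fin n) F) : Matrix (Fin n) (Fin n) F) →
        (w : Matrix (Fin n) (Fin n) F) ∈ W → (a : Matrix (Fin n) (Fin n) F) ∈ W := by
      intro w hw h1 h3 hwW
      obtain ⟨c, hc⟩ := hboth _ (mul_mem ha hw) h1 h3
      obtain ⟨d, hd⟩ : ∃ d : F, (w : Matrix (Fin n) (Fin n) F) * w = d • 1 := by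
        rcases hsq w hw with h | h
        · exact ⟨1, by rw [h, one_smul]⟩
        · exact ⟨-1, by rw [h, neg_one_smul]⟩
      have hd0 : d ≠ 0 := by
        rintro rfl
        rw [zero_smul, ← Units.val_mul] at hd
        exact Units.ne_zero _ hd
      have : (a : Matrix (Fin n) (Fin n) F) = (d⁻¹ * c) • (w : Matrix (Fin n) (Fin n) F) := by
        rw [mul_smul, ← one_mul (w : Matrix (Fin n) (Fin n) F), ← Matrix.smul_mul c, ← hc, Units.val_mul, mul_assoc, hd,
          Matrix.mul_smul, mul_one, smul_smul, inv_mul_cancel₀ hd0, one_smul]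
      rw [this]
      exact Submodule.smul_mem _ _ hwW
    obtain ⟨u, hu, hau⟩ := hsign a ha x hx
    obtain ⟨t, ht, hat⟩ := hsign a ha y hy
    rw [← hX] at hau
    rw [← hY] at hat
    rcases hu with rfl | rfl <;> rcases ht with rfl | rfl <;> simp only [one_smul, neg_one_smul] at hau hat
    · refine step 1 (one_mem _) (by simpa using hau) (by simpa using hat) (by simpa using hW1)
    · refine step x hx ?_ ?_ hWX <;> rw [Units.val_mul, ← hX]
      · rw [mul_assoc, ← mul_assoc X, ← hau]
        simp [mul_assoc]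
      · rw [mul_assoc, hxys, mul_neg, ← mul_assoc, hat, neg_mul, neg_neg, mul_assoc]
    · refine step y hy ?_ ?_ hWY <;> rw [Units.val_mul, ← hY]
      · rw [mul_assoc, hyx, mul_neg, ← mul_assoc, hau, neg_mul, neg_neg, mul_assoc]
      · rw [mul_assoc, ← mul_assoc Y, ← hat]
        simp [mul_assoc]
    · refine step (x * y) (mul_mem hx hy) ?_ ?_ (by simpa using hWXY) <;>
        simp only [Units.val_mul, ← hX, ← hY]
      · calc (a : Matrix (Fin n) (Fin n) F) * (X * Y) * X = (a : Matrix (Fin n) (Fin n) F) * X * (Y * X) := by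
              simp only [mul_assoc]
          _ = X * ((a : Matrix (Fin n) (Fin n) F) * (X * Y)) := by rw [hau, hyx]; simp [mul_assoc]
      · calc (a : Matrix (Fin n) (Fin n) F) * (X * Y) * Y = -((a : Matrix (Fin n) (Fin n) F) * Y * (X * Y)) := by
              nth_rw 1 [hxys]; simp only [mul_neg, neg_mul, mul_assoc]
          _ = Y * ((a : Matrix (Fin n) (Fin n) F) * (X * Y)) := by rw [hat]; simp [mul_assoc]
  have hzW : ∀ z ∈ zalg N, ∃ c : F, z = c • 1 := by
    intro z hz
    obtain ⟨hzA, hzc⟩ := MaxSub.Asch.mem_zalg.mp hz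
    have hzW' : z ∈ W := by
      have h1 : z ∈ Subalgebra.toSubmodule (alg N) := hzA
      rw [Algebra.adjoin_eq_span] at h1
      refine Submodule.span_le.mpr ?_ h1
      intro m hm
      obtain ⟨g, hg, rfl⟩ := (Submonoid.closure_le.mpr
        (show Geo.matrixSet N ⊆ N.toSubmonoid.map (Units.coeHom (Matrix (Fin n) (Fin n) F)) from fun b hb => hb)) hm
      exact hNW g hg
    obtain ⟨cf, hcf⟩ := (Submodule.mem_span_range_iff_exists_fun F).mp hzW'
    rw [Fin.sum_univ_four] at hcf
    simp only [Matrix.cons_val_zero, Matrix.cons_val_one, Matrix.cons_val] at hcf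
    have hyx : Y * X = -(X * Y) := by rw [hxys, neg_neg]
    have hX' := hzc X (MaxSub.Asch.coe_mem_alg hx)
    have hY' := hzc Y (MaxSub.Asch.coe_mem_alg hy)
    rw [← hcf] at hX' hY'
    simp only [mul_add, add_mul, Matrix.mul_smul, Matrix.smul_mul, mul_one, one_mul, hyx, mul_assoc, smul_neg,
      mul_neg] at hX'
    have h3 : X * (((cf 2) • 1 + (cf 3) • X) * Y) = 0 := by
      refine (smul_eq_zero.mp (show (2 : F) • (X * (((cf 2) • 1 + (cf 3) • X) * Y)) = 0 from ?_)).resolve_left h2
      rw [two_smul]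
      simp only [add_mul, mul_add, Matrix.smul_mul, Matrix.mul_smul, one_mul, mul_assoc]
      have h5 := sub_eq_zero.mpr hX'
      abel_nf at h5 ⊢
      linear_combination (norm := module) h5
    have h4 : (cf 2) • (1 : Matrix (Fin n) (Fin n) F) + (cf 3) • X = 0 :=
      y.isUnit.mul_left_eq_zero.mp (x.isUnit.mul_right_eq_zero.mp h3)
    have h30 : cf 3 = 0 := by
      by_contra h
      refine hxy (Units.ext ?_)
      have : X = (-(cf 3)⁻¹ * cf 2) • 1 := by
        have h5 := congrArg ((cf 3)⁻¹ • ·) h4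
        simp only [smul_add, smul_smul, inv_mul_cancel₀ h, one_smul, smul_zero] at h5
        rw [neg_mul, neg_smul]
        exact eq_neg_of_add_eq_zero_right h5
      rw [Units.val_mul, Units.val_mul, ← hX, this, Matrix.smul_mul, one_mul, Matrix.mul_smul, mul_one]
    rw [h30, zero_smul, add_zero] at h4
    have h20 : cf 2 = 0 := by
      by_contra h
      exact one_ne_zero ((smul_eq_zero.mp h4).resolve_left h)
    rw [h30, h20, zero_smul, zero_smul, add_zero, add_zero] at hY' hcf
    simp only [mul_add, add_mul, Matrix.mul_smul, Matrix.smul_mul, mul_one, one_mul, hyx, smul_neg] at hY'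
    have h10 : cf 1 = 0 := by
      by_contra h
      have h6 : (2 * cf 1) • (X * Y) = 0 := by
        linear_combination (norm := module) -hY'
      exact (x * y).ne_zero ((smul_eq_zero.mp h6).resolve_left (mul_ne_zero h2 h))
    exact ⟨cf 0, by rw [← hcf, h10, zero_smul, add_zero]⟩
  have h5 : finrank F K ≤ 1 := by
    haveI : Nontrivial K := Module.nontrivial_of_finrank_pos (R := F) (by rw [hK.finrank_eq]; norm_num)
    refine finrank_le_one (1 : K) fun w => ?_
    obtain ⟨c, hc⟩ := hzW _ (hKZ w.2)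
    exact ⟨c, Subtype.ext hc.symm⟩
  rw [hK.finrank_eq] at h5
  omega

include hQ hH hirr in
/-- A normal subgroup which is not absolutely irreducible gives one of the structures. -/
theorem clifford_conc (hn : n = 8 ∨ n = 10 ∨ n = 12) {M : Subgroup (GL (Fin n) F)}
    (hMG : M ≤ H ⊔ Geo.scalars (Fin n) F) (hMH : NormalIn M H) (hns : ¬ M ≤ Geo.scalars (Fin n) F)
    (habs : ¬ Geo.ActsAbsolutelyIrreducibly (Geo.matrixSet M)) : Conc Q H := by
  classical
  rcases clifford_core hQ hH hirr hn hMG hMH hns habs with h | ⟨hall, -, h10, K, hK, hKZ, hle⟩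
  · exact h
  haveI : Finite (Matrix (Fin n) (Fin n) F) := Pi.finite
  haveI : Finite K := Subtype.finite
  letI : Field K := (isField_of_field hK (by norm_num)).toField
  exact conc_of_five hQ hH hirr h10 (L := K) K.val hK.finrank_eq (fun k => hall _ (hKZ k.2))
    fun g hg k => ⟨⟨_, (hle hg k).mp k.2⟩, rfl⟩

end Cfsg.Agent.Aschbacher.Orth
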