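import Cfsg.Agent.Aschbacher.Orth.Frame

/-!
The polar form of a quadratic form as form data, and invariant quadratic forms with a given polar form.
-/

set_option autoImplicit false
set_option linter.unusedSectionVars false
set_option linter.style.haveILetI false

namespace Cfsg.Agent.Aschbacher.Orth

open scoped MatrixGroups Matrix Kronecker
open Module QuadraticMap
open Cfsg.Agent.UnitaryOrthogonal
open Cfsg.Agent.Aschbacher (Inv Irr IsGram)
open Cfsg.Agent.MaxSub.Asch (FormData)

variable {ι : Type} [Fintype ι] [DecidableEq ι] {F : Type*} [Field F] {Q : QuadraticForm F (ι → F)}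

omit [Fintype ι] [DecidableEq ι] in
theorem polar_bilinear : Geo.IsBilinearForm (polar ⇑Q) :=
  ⟨polar_add_left Q, fun c x v => by rw [polar_smul_left, smul_eq_mul], fun v x y => polar_add_right Q v x y,
    fun c v x => by rw [polar_smul_right, smul_eq_mul]⟩

omit [DecidableEq ι] [Fintype ι] in
theorem polar_nondeg (hQ : PolarND Q) : Geo.IsNondegenerateForm (polar ⇑Q) := by
  intro v hv
  obtain ⟨x, hx⟩ : ∃ x, polar Q v x ≠ 0 := by
    by_contra hc
    push Not at hc
    exact hv (hQ v hc)
  exact ⟨⟨x, by rwa [polar_comm]⟩, ⟨x, hx⟩⟩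

theorem polar_isGram : IsGram (RingHom.id F) (polar ⇑Q) (Geo.gramMatrix (polar ⇑Q)) :=
  Aschbacher.exists_gram _ _ polar_bilinear.add_left polar_bilinear.smul_left polar_bilinear.add_right
    fun c v x => polar_bilinear.smul_right c v x

/-- The polar form as form data. -/
noncomputable def pData [Finite F] (hQ : PolarND Q) : FormData ι F where
  σ := RingHom.id F
  gram := (Aschbacher.gram_isUnit polar_isGram (polar_nondeg hQ)).unit
  ε := 1
  invol := fun _ => rfl
  herm := by
    rw [one_smul, IsUnit.unit_spec]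
    ext i j
    exact QuadraticMap.polar_comm _ _ _

variable [Finite F] (hQ : PolarND Q)

theorem pData_sigma : (pData hQ).σ = RingHom.id F := rfl

theorem pData_eps : (pData hQ).ε = 1 := rfl

theorem pData_gram : ((pData hQ).gram : Matrix ι ι F) = Geo.gramMatrix (polar ⇑Q) :=
  IsUnit.unit_spec _

theorem pData_form : (pData hQ).form = polar ⇑Q := by
  funext u v
  rw [polar_isGram u v, FormData.form, pData_gram]
  rfl

theorem polar_adj (a : Matrix ι ι F) (u v : ι → F) :
    polar Q (a *ᵥ u) v = polar Q u ((pData hQ).adj a *ᵥ v) := by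
  rw [← pData_form hQ, FormData.form_adj]

theorem gram_of_iso {g : GL ι F} (hg : g ∈ isometryGroup F ⇑Q) :
    (g : Matrix ι ι F)ᵀ * ((pData hQ).gram : Matrix ι ι F) * (g : Matrix ι ι F) =
      ((pData hQ).gram : Matrix ι ι F) := by
  have h := (Aschbacher.preserves_iff_gram (polar_isGram (Q := Q)) _).mp (iso_map_polar hg)
  rw [pData_gram]
  exact h

theorem isSim_of_mem {H : Subgroup (GL ι F)} (hH : H ≤ isometryGroup F ⇑Q) {g : GL ι F}
    (hg : g ∈ H ⊔ Geo.scalars ι F) : (pData hQ).IsSim g := by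
  obtain ⟨h, hh, z, hz, rfl⟩ := (Subgroup.mem_sup_of_normal_right (ht := Geo.scalars_normal)).mp hg
  obtain ⟨c, hc⟩ := (Geo.mem_scalars_iff z).mp hz
  refine ⟨(c : F) * c, mul_ne_zero c.ne_zero c.ne_zero, ?_⟩
  show _ * _ * ((h * z : GL ι F) : Matrix ι ι F) = _
  simp only [Units.val_mul, hc, Matrix.mul_smul, mul_one, Matrix.transpose_smul, Matrix.smul_mul]
  rw [gram_of_iso hQ (hH hh), smul_smul]

/-- The adjoint of an isometry is its inverse. -/
theorem adj_of_iso {g : GL ι F} (hg : g ∈ isometryGroup F ⇑Q) :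
    (pData hQ).adj (g : Matrix ι ι F) = ((g⁻¹ : GL ι F) : Matrix ι ι F) := by
  rw [(pData hQ).adj_of_sim (c := 1) (by rw [one_smul]; exact gram_of_iso hQ hg), map_one, one_smul]

omit [DecidableEq ι] [Finite F] in
/-- A semilinear functional invariant under an irreducible group is zero. -/
theorem semilinear_zero [DecidableEq ι] {H : Subgroup (GL ι F)} (hirr : Irr H) (hn : 2 ≤ Fintype.card ι) [Finite F]
    (h2 : (2 : F) = 0)
    {δ : (ι → F) → F} (hadd : ∀ u v, δ (u + v) = δ u + δ v) (hsmul : ∀ (c : F) v, δ (c • v) = c ^ 2 * δ v)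
    (hinv : ∀ g ∈ H, ∀ v, δ v = 0 → δ ((g : Matrix ι ι F) *ᵥ v) = 0) : ∀ v, δ v = 0 := by
  let K : Submodule F (ι → F) :=
    { carrier := {w | δ w = 0}
      add_mem' := fun {u w} hu hw => by
        show δ (u + w) = 0
        rw [hadd, show δ u = 0 from hu, show δ w = 0 from hw, add_zero]
      zero_mem' := by
        show δ 0 = 0
        rw [← zero_smul F (0 : ι → F), hsmul]; ring
      smul_mem' := fun a w hw => by
        show δ (a • w) = 0
        rw [hsmul, show δ w = 0 from hw, mul_zero] }
  rcases hirr K hinv with hK | hK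
  · exfalso
    obtain ⟨i, j, hij⟩ : ∃ i j : ι, i ≠ j :=
      Fintype.exists_pair_of_one_lt_card (by omega)
    have hne : ∀ x, x ≠ 0 → δ x ≠ 0 := fun x hx h => hx ((Submodule.eq_bot_iff K).mp hK x h)
    let u : ι → F := Pi.single i 1
    let w : ι → F := Pi.single j 1
    haveI : Fintype F := Fintype.ofFinite F
    have heven : Even (Fintype.card F) := Nat.not_odd_iff_even.mp fun ho => Aschbacher.two_ne_zero_of_odd ho h2
    obtain ⟨s, hs⟩ := Aschbacher.exists_sq_of_even heven (δ w / δ u)
    have hz : δ (s • u + w) = 0 := by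
      rw [hadd, hsmul, hs, div_mul_cancel₀ _ (hne u (by simp [u])), ← two_mul, h2, zero_mul]
    have := congrFun ((Submodule.eq_bot_iff K).mp hK _ hz) j
    simp [u, w, hij] at this
  · exact fun v => (show v ∈ K from hK ▸ Submodule.mem_top)

/-- An invariant quadratic form with the same polar form is the form. -/
theorem quad_eq {H : Subgroup (GL ι F)} (hirr : Irr H) (hn : 2 ≤ Fintype.card ι) (hH : H ≤ isometryGroup F ⇑Q)
    (h2 : (2 : F) = 0) {Q' : QuadraticForm F (ι → F)} (hpol : ∀ u v, polar Q' u v = polar Q u v)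
    (hinv : ∀ g ∈ H, ∀ v, Q' ((g : Matrix ι ι F) *ᵥ v) = Q' v) (v : ι → F) : Q v = Q' v := by
  refine sub_eq_zero.mp (semilinear_zero hirr hn h2 (δ := fun v => Q v - Q' v) (fun u w => ?_) (fun c w => ?_)
    (fun g hg w hw => ?_) v)
  · rw [form_add, form_add (Q := Q'), hpol]; ring
  · rw [form_smul, form_smul]; ring
  · rwa [iso_map (hH hg), hinv g hg]

/-- A quadratic form with the polar form of `Q` which vanishes on a basis. -/
noncomputable def basisForm₀ (Q : QuadraticForm F (ι → F)) {κ : Type} [Fintype κ] (b : Basis κ F (ι → F)) :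
    QuadraticForm F (ι → F) :=
  Q - (QuadraticMap.weightedSumSquares F fun k => Q (b k)).comp b.equivFun.toLinearMap

omit [Finite F] in
theorem basisForm₀_apply {κ : Type} [Fintype κ] (b : Basis κ F (ι → F)) (v : ι → F) :
    basisForm₀ Q b v = Q v - ∑ k, Q (b k) * (b.equivFun v k * b.equivFun v k) := by
  simp [basisForm₀, QuadraticMap.weightedSumSquares_apply]

omit [Finite F] in
theorem basisForm₀_basis {κ : Type} [Fintype κ] [DecidableEq κ] (b : Basis κ F (ι → F)) (k : κ) :
    basisForm₀ Q b (b k) = 0 := by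
  rw [basisForm₀_apply, Finset.sum_eq_single k]
  · simp
  · intro l _ hl; simp [hl, Ne.symm hl]
  · simp

omit [Finite F] in
theorem basisForm₀_polar (h2 : (2 : F) = 0) {κ : Type} [Fintype κ] (b : Basis κ F (ι → F)) (u v : ι → F) :
    polar (basisForm₀ Q b) u v = polar Q u v := by
  simp only [polar, basisForm₀_apply, map_add, Pi.add_apply]
  have : ∑ k, Q (b k) * ((b.equivFun u k + b.equivFun v k) * (b.equivFun u k + b.equivFun v k)) =
      ∑ k, Q (b k) * (b.equivFun u k * b.equivFun u k) + ∑ k, Q (b k) * (b.equivFun v k * b.equivFun v k) := by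
    rw [← Finset.sum_add_distrib]
    exact Finset.sum_congr rfl fun k _ => by linear_combination (Q (b k) * b.equivFun u k * b.equivFun v k) * h2
  rw [this]; ring

omit [DecidableEq ι] [Finite F] in
/-- Two quadratic forms with the same polar form that agree on a basis. -/
theorem form_ext {κ : Type} [Fintype κ] (b : Basis κ F (ι → F)) {Q₁ Q₂ : QuadraticForm F (ι → F)}
    (hpol : ∀ u v, polar Q₁ u v = polar Q₂ u v) (hb : ∀ k, Q₁ (b k) = Q₂ (b k)) (v : ι → F) : Q₁ v = Q₂ v := by
  have hv : v ∈ Submodule.span F (Set.range b) := b.span_eq ▸ Submodule.mem_top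
  induction hv using Submodule.span_induction with
  | mem x hx => obtain ⟨k, rfl⟩ := hx; exact hb k
  | zero => simp
  | add x y _ _ hx hy => rw [form_add, form_add (Q := Q₂), hx, hy, hpol]
  | smul c x _ hx => rw [form_smul, form_smul, hx]

/-- The basis form is the form, if it is invariant under an irreducible group. -/
theorem quad_zero_of_basis {H : Subgroup (GL ι F)} (hirr : Irr H) (hn : 2 ≤ Fintype.card ι)
    (hH : H ≤ isometryGroup F ⇑Q) (h2 : (2 : F) = 0) {κ : Type} [Fintype κ] [DecidableEq κ] (b : Basis κ F (ι → F))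
    (hinv : ∀ g ∈ H, ∀ k, basisForm₀ Q b ((g : Matrix ι ι F) *ᵥ b k) = 0) (v : ι → F) :
    Q v = basisForm₀ Q b v := by
  refine quad_eq hirr hn hH h2 (fun u w => basisForm₀_polar h2 b u w) (fun g hg w => ?_) v
  refine (form_ext b (Q₁ := (basisForm₀ Q b).comp (Matrix.toLin' (g : Matrix ι ι F))) (Q₂ := basisForm₀ Q b)
    (fun x y => ?_) (fun k => ?_) w)
  · show basisForm₀ Q b _ - basisForm₀ Q b _ - basisForm₀ Q b _ = polar (basisForm₀ Q b) x y
    simp only [map_add, Matrix.toLin'_apply]
    rw [basisForm₀_polar h2, ← iso_map_polar (hH hg) x y, ← basisForm₀_polar h2 b]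
    simp only [polar, Matrix.mulVec_add]
  · show basisForm₀ Q b (Matrix.toLin' _ (b k)) = _
    rw [Matrix.toLin'_apply, hinv g hg k, basisForm₀_basis]

end Cfsg.Agent.Aschbacher.Orth
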