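import Cfsg.Agent.Aschbacher.Orth.NotLe
import Cfsg.Agent.Aschbacher.Composite.Exceptions

/-!
Orthogonal complements of invariant subspaces, and decompositions into lines given by level sets of the form.
-/

set_option autoImplicit false
set_option linter.unusedSectionVars false
set_option linter.style.haveILetI false

namespace Cfsg.Agent.Aschbacher.Orth

open scoped MatrixGroups Matrix
open Module QuadraticMap
open Cfsg.Agent.UnitaryOrthogonal

variable {ι : Type} [Fintype ι] [DecidableEq ι] {F : Type*} [Field F]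
variable {Q : QuadraticForm F (ι → F)}

theorem iso_map {g : GL ι F} (hg : g ∈ isometryGroup F ⇑Q) (u : ι → F) :
    Q ((g : Matrix ι ι F) *ᵥ u) = Q u :=
  hg u u

theorem iso_map_polar {g : GL ι F} (hg : g ∈ isometryGroup F ⇑Q) (u v : ι → F) :
    polar Q ((g : Matrix ι ι F) *ᵥ u) ((g : Matrix ι ι F) *ᵥ v) = polar Q u v := by
  simp only [polar, ← Matrix.mulVec_add, iso_map hg]

theorem omega_le_isometry : Geo.omegaGL ⇑Q ≤ isometryGroup F ⇑Q :=
  Subgroup.map_subtype_le _

theorem ne_bot_of_finrank {W : Submodule F (ι → F)} (h : 0 < finrank F W) : W ≠ ⊥ := fun e => by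
  rw [e, finrank_bot] at h; omega

section Finite

variable [Fintype F]

/-- An isometry fixing a subspace fixes its orthogonal complement. -/
theorem perp_stab (W : Submodule F (ι → F)) :
    Geo.subspaceStabilizer W ⊓ isometryGroup F ⇑Q ≤ Geo.subspaceStabilizer (OrthStab.perpOf Q W) := by
  refine Aschbacher.inv_le_subspaceStabilizer fun g hg x hx => OrthStab.mem_perpOf.mpr fun w hw => ?_
  have hw' : ((g⁻¹ : GL ι F) : Matrix ι ι F) *ᵥ w ∈ W := ((inv_mem hg.1 : g⁻¹ ∈ Geo.subspaceStabilizer W) w).mp hw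
  rw [← Aschbacher.mulVec_inv_mulVec g w, iso_map_polar hg.2]
  exact OrthStab.mem_perpOf.mp hx _ hw'

omit [DecidableEq ι] in
theorem inf_perp {W : Submodule F (ι → F)} (hW : Geo.IsNondegenerateOn (polar ⇑Q) W) :
    W ⊓ OrthStab.perpOf Q W = ⊥ := by
  refine (Submodule.eq_bot_iff _).mpr fun x hx => by_contra fun hx0 => ?_
  obtain ⟨y, hy, hxy⟩ := (hW x hx.1 hx0).2
  exact hxy (OrthStab.mem_perpOf.mp hx.2 y hy)

omit [DecidableEq ι] in
theorem isCompl_perp (hQ : PolarND Q) {W : Submodule F (ι → F)} (hW : Geo.IsNondegenerateOn (polar ⇑Q) W) :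
    IsCompl W (OrthStab.perpOf Q W) := by
  have h := Submodule.finrank_sup_add_finrank_inf_eq W (OrthStab.perpOf Q W)
  rw [inf_perp hW, finrank_bot, add_zero, add_comm (finrank F W), OrthStab.finrank_perpOf hQ W] at h
  exact ⟨disjoint_iff.mpr (inf_perp hW), codisjoint_iff.mpr (Submodule.eq_top_of_finrank_eq h)⟩

omit [DecidableEq ι] in
/-- The complement of a non-degenerate subspace is non-degenerate. -/
theorem perp_nondeg (hQ : PolarND Q) {W : Submodule F (ι → F)} (hW : Geo.IsNondegenerateOn (polar ⇑Q) W) :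
    Geo.IsNondegenerateOn (polar ⇑Q) (OrthStab.perpOf Q W) := by
  intro w hw hw0
  obtain ⟨x, hx, hxw⟩ : ∃ x ∈ OrthStab.perpOf Q W, polar Q w x ≠ 0 := by
    by_contra hcon
    push Not at hcon
    refine hw0 (hQ w fun y => ?_)
    obtain ⟨a, ha, b, hb, rfl⟩ := Submodule.mem_sup.mp
      (show y ∈ W ⊔ OrthStab.perpOf Q W by rw [(isCompl_perp hQ hW).sup_eq_top]; exact Submodule.mem_top)
    rw [polar_add_right, OrthStab.mem_perpOf.mp hw a ha, hcon b hb, add_zero]
  exact ⟨⟨x, hx, by rw [polar_comm]; exact hxw⟩, ⟨x, hx, hxw⟩⟩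

omit [Fintype F] in
theorem dec_card {t k : ℕ} {D : Fin t → Submodule F (ι → F)} (hD : Geo.IsMDecomposition k D) :
    t * k = Fintype.card ι := by
  obtain ⟨b, -⟩ := Aschbacher.exists_decomp_basis hD
  have h1 := Module.finrank_eq_card_basis b
  rw [Module.finrank_pi, Fintype.card_prod, Fintype.card_fin, Fintype.card_fin] at h1
  exact h1.symm

omit [Fintype F] in
/-- Orthogonal lines with a common non-zero value. -/
theorem lines_decomposition (h2 : (2 : F) ≠ 0) {n : ℕ} (hn : 2 ≤ n) (b : Basis (Fin n) F (ι → F)) {a : F}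
    (ha : a ≠ 0) (hb : ∀ i, Q (b i) = a) (horth : ∀ i j, i ≠ j → polar Q (b i) (b j) = 0) :
    Geo.IsOrthogonalMDecomposition ⇑Q 1 (fun i => Submodule.span F {b i}) := by
  refine ⟨⟨⟨hn, one_pos, fun i => finrank_span_singleton (b.ne_zero i),
    b.linearIndependent.iSupIndep_span_singleton, ?_⟩, fun i w hw hw0 => ?_, fun i j hij u hu v hv => ?_⟩,
    fun i j => ?_⟩
  · rw [← Submodule.span_range_eq_iSup, b.span_eq]
  · obtain ⟨c, rfl⟩ := Submodule.mem_span_singleton.mp hw
    have hc : c ≠ 0 := fun h => hw0 (by rw [h, zero_smul])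
    have h : polar Q (b i) (c • b i) ≠ 0 := by
      rw [polar_smul_right, polar_self, hb, smul_eq_mul, nsmul_eq_mul, Nat.cast_ofNat]
      exact mul_ne_zero hc (mul_ne_zero h2 ha)
    exact ⟨⟨b i, Submodule.mem_span_singleton_self _, h⟩,
      ⟨b i, Submodule.mem_span_singleton_self _, by rw [polar_comm]; exact h⟩⟩
  · obtain ⟨c, rfl⟩ := Submodule.mem_span_singleton.mp hu
    obtain ⟨d, rfl⟩ := Submodule.mem_span_singleton.mp hv
    rw [polar_smul_left, polar_smul_right, horth i j hij, smul_zero, smul_zero]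
  · refine ⟨(LinearEquiv.toSpanNonzeroSingleton F _ (b i) (b.ne_zero i)).symm.trans
      (LinearEquiv.toSpanNonzeroSingleton F _ (b j) (b.ne_zero j)), fun w => ?_⟩
    obtain ⟨c, rfl⟩ := (LinearEquiv.toSpanNonzeroSingleton F _ (b i) (b.ne_zero i)).surjective w
    rw [LinearEquiv.trans_apply, LinearEquiv.symm_apply_apply]
    simp [LinearEquiv.toSpanNonzeroSingleton_apply, QuadraticMap.map_smul, hb]

omit [Fintype F] in
/-- A decomposition whose members carry frames, which are level sets, refines to lines. -/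
theorem lines_of_frames (h2 : (2 : F) ≠ 0) {t k : ℕ} {D : Fin t → Submodule F (ι → F)}
    (hD : Geo.IsNondegenerateMDecomposition (polar ⇑Q) k D) {a : F} (ha : a ≠ 0)
    (hfr : ∀ i, ∃ v : Fin k → (ι → F), (∀ l, v l ∈ D i) ∧ (∀ l, Q (v l) = a) ∧
      (∀ l m, l ≠ m → polar Q (v l) (v m) = 0) ∧ ∀ w ∈ D i, Q w = a → ∃ l, ∃ c : F, w = c • v l) :
    ∃ D' : Fin (t * k) → Submodule F (ι → F), Geo.IsOrthogonalMDecomposition ⇑Q 1 D' ∧
      Geo.decompositionStabilizer D ⊓ isometryGroup F ⇑Q ≤ Geo.decompositionStabilizer D' := by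
  classical
  choose v hvD hva hvo hvl using hfr
  let w : Fin (t * k) → (ι → F) := fun p => v (finProdFinEquiv.symm p).1 (finProdFinEquiv.symm p).2
  have horth : ∀ p p', p ≠ p' → polar Q (w p) (w p') = 0 := by
    intro p p' hpp
    by_cases h1 : (finProdFinEquiv.symm p).1 = (finProdFinEquiv.symm p').1
    · simp only [w, h1]
      exact hvo _ _ _ fun h => hpp (finProdFinEquiv.symm.injective (Prod.ext h1 h))
    · exact hD.orthogonal _ _ h1 _ (hvD _ _) _ (hvD _ _)
  have hself : ∀ p, polar Q (w p) (w p) ≠ 0 := fun p => by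
    rw [polar_self, hva, nsmul_eq_mul, Nat.cast_ofNat]; exact mul_ne_zero h2 ha
  have hli : LinearIndependent F w :=
    LinearMap.BilinForm.linearIndependent_of_iIsOrtho (B := polarBilin Q) (fun p p' h => horth p p' h) hself
  have hne : Nonempty (Fin (t * k)) :=
    ⟨⟨0, Nat.mul_pos (by have := hD.decomp.two_le; omega) hD.decomp.pos⟩⟩
  let b : Basis (Fin (t * k)) F (ι → F) := basisOfLinearIndependentOfCardEqFinrank hli
    (by rw [Fintype.card_fin, dec_card hD.decomp, Module.finrank_pi])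
  have hb : ∀ p, b p = w p := fun p => by simp [b]
  refine ⟨fun p => Submodule.span F {b p}, lines_decomposition h2 ?_ b ha (fun p => by rw [hb]; exact hva _ _)
    (fun p p' h => by rw [hb, hb]; exact horth p p' h), Aschbacher.le_decompositionStabilizer b ?_⟩
  · calc 2 = 2 * 1 := rfl
      _ ≤ t * k := Nat.mul_le_mul hD.decomp.two_le hD.decomp.pos
  intro g hg p
  obtain ⟨σ, hσ⟩ := hg.1
  obtain ⟨l, c, hc⟩ := hvl (σ (finProdFinEquiv.symm p).1) ((g : Matrix ι ι F) *ᵥ w p)
    (hσ _ ▸ ⟨w p, hvD _ _, Matrix.toLin'_apply _ _⟩) (by rw [iso_map hg.2]; exact hva _ _)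
  refine ⟨finProdFinEquiv (σ (finProdFinEquiv.symm p).1, l), c, ?_⟩
  rw [hb, hb, hc]
  simp only [w, Equiv.symm_apply_apply]

/-- Over three elements the vectors of some value in an odd three-dimensional space are the axes of a frame. -/
theorem frame_three (h3 : Fintype.card F = 3) {W : Submodule F (ι → F)} (hW : finrank F W = 3)
    (hnd : Geo.IsNondegenerateOn (polar ⇑Q) W) :
    ∃ a : F, a ≠ 0 ∧ ∀ W' : Submodule F (ι → F), Geo.AreIsometricFor ⇑Q W W' →
      ∃ v : Fin 3 → (ι → F), (∀ l, v l ∈ W') ∧ (∀ l, Q (v l) = a) ∧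
      (∀ l m, l ≠ m → polar Q (v l) (v m) = 0) ∧ ∀ w ∈ W', Q w = a → ∃ l, ∃ c : F, w = c • v l := by
  classical
  have h2 : (2 : F) ≠ 0 := Aschbacher.two_ne_zero_of_odd (by rw [h3]; decide)
  have hsq : ∀ x : F, x ≠ 0 → x * x = 1 := fun x hx => by
    have := FiniteField.pow_card_sub_one_eq_one x hx
    rwa [h3, show 3 - 1 = 2 from rfl, pow_two] at this
  let b := Module.finBasisOfFinrankEq F W hW
  let B : LinearMap.BilinForm F W := (polarBilin Q).compl₁₂ W.subtype W.subtype
  have hB : ∀ x y : W, B x y = polar Q (x : ι → F) (y : ι → F) := fun _ _ => rfl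
  have hBn : B.Nondegenerate := by
    have key : ∀ x : W, (∀ y, B x y = 0) → x = 0 := fun x hx => by_contra fun hx0 => by
      obtain ⟨y, hy, hxy⟩ := (hnd x x.2 fun h => hx0 (Subtype.ext h)).2
      exact hxy (hx ⟨y, hy⟩)
    exact ⟨key, fun y hy => key y fun x => by rw [hB, polar_comm, ← hB]; exact hy x⟩
  have hdet : (LinearMap.BilinForm.toMatrix b B).det ≠ 0 := (LinearMap.BilinForm.nondegenerate_iff_det_ne_zero b).mp hBn
  obtain ⟨G, hG⟩ := (Matrix.isUnit_iff_isUnit_det _).mpr (isUnit_iff_ne_zero.mpr hdet)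
  obtain ⟨X, s, hs, hX⟩ := MaxSub.Asch.exists_scalar_congr h2 (by decide) G (by
    rw [hG]; ext i j
    rw [Matrix.transpose_apply, LinearMap.BilinForm.toMatrix_apply, LinearMap.BilinForm.toMatrix_apply, hB, hB, polar_comm])
  rw [hG] at hX
  let u : Fin 3 → W := fun l => b.equivFun.symm fun i => (X : Matrix (Fin 3) (Fin 3) F) i l
  have hu : ∀ l m, polar Q (u l : ι → F) (u m : ι → F) = if l = m then s else 0 := fun l m => by
    rw [← hB, ← LinearMap.BilinForm.dotProduct_toMatrix_mulVec b]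
    have h := congrFun (congrFun hX l) m
    rw [Matrix.smul_apply, Matrix.one_apply, smul_eq_mul, mul_ite, mul_one, mul_zero] at h
    rw [← h]
    simp only [Matrix.mul_apply, dotProduct, Matrix.mulVec, Matrix.transpose_apply, Finset.mul_sum, Finset.sum_mul]
    rw [Finset.sum_comm]
    exact Finset.sum_congr rfl fun i _ => Finset.sum_congr rfl fun j _ => by ring
  refine ⟨s / 2, div_ne_zero hs h2, fun W' hiso => ?_⟩
  obtain ⟨e, he⟩ := hiso
  have hep : ∀ x y : W, polar Q (e x : ι → F) (e y : ι → F) = polar Q (x : ι → F) (y : ι → F) := fun x y => by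
    simp only [polar, ← Submodule.coe_add, ← map_add, he]
  let v : Fin 3 → (ι → F) := fun l => (e (u l) : ι → F)
  have hv : ∀ l m, polar Q (v l) (v m) = if l = m then s else 0 := fun l m => by rw [hep, hu]
  have hva : ∀ l, Q (v l) = s / 2 := fun l => by
    have := hv l l
    rw [if_pos rfl, polar_self, nsmul_eq_mul, Nat.cast_ofNat] at this
    rw [← this, mul_div_cancel_left₀ _ h2]
  refine ⟨v, fun l => (e (u l)).2, hva, fun l m h => by rw [hv, if_neg h], fun w hw hwa => ?_⟩
  have hli : LinearIndependent F v :=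
    LinearMap.BilinForm.linearIndependent_of_iIsOrtho (B := polarBilin Q)
      (fun l m h => show polar Q (v l) (v m) = 0 by rw [hv, if_neg h])
      fun l h => hs (by have h' : polar Q (v l) (v l) = 0 := h; rwa [hv, if_pos rfl] at h')
  have hspan : Submodule.span F (Set.range v) = W' := by
    refine Submodule.eq_of_le_of_finrank_le (Submodule.span_le.mpr (Set.range_subset_iff.mpr fun l => (e (u l)).2)) ?_
    rw [finrank_span_eq_card hli, Fintype.card_fin, ← e.finrank_eq, hW]
  obtain ⟨c, hc⟩ := (Submodule.mem_span_range_iff_exists_fun F).mp (hspan ▸ hw)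
  rw [← hc, Fin.sum_univ_three] at hwa ⊢
  rw [form_add, form_add, polar_add_left] at hwa
  simp only [form_smul, polar_smul_left, polar_smul_right, hva, hv, Fin.reduceEq, if_false, mul_zero,
    add_zero, smul_eq_mul] at hwa
  have h1 : c 0 * c 0 + c 1 * c 1 + c 2 * c 2 = 1 := by
    refine mul_right_cancel₀ (div_ne_zero hs h2) ?_
    linear_combination hwa
  have h30 : (3 : F) = 0 := by
    have := Nat.cast_card_eq_zero F
    rw [h3] at this
    exact_mod_cast this
  rcases eq_or_ne (c 0) 0 with z0 | z0 <;> rcases eq_or_ne (c 1) 0 with z1 | z1 <;>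
    rcases eq_or_ne (c 2) 0 with z2 | z2
  · simp [z0, z1, z2] at h1
  · exact ⟨2, c 2, by simp [z0, z1]⟩
  · exact ⟨1, c 1, by simp [z0, z2]⟩
  · rw [hsq _ z1, hsq _ z2, z0] at h1
    exact absurd (show (1 : F) = 0 by linear_combination h1) one_ne_zero
  · exact ⟨0, c 0, by simp [z1, z2]⟩
  · rw [hsq _ z0, hsq _ z2, z1] at h1
    exact absurd (show (1 : F) = 0 by linear_combination h1) one_ne_zero
  · rw [hsq _ z0, hsq _ z1, z2] at h1
    exact absurd (show (1 : F) = 0 by linear_combination h1) one_ne_zero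
  · rw [hsq _ z0, hsq _ z1, hsq _ z2] at h1
    exact absurd (show (1 : F) = 0 by linear_combination h30 - h1) one_ne_zero

end Finite

end Cfsg.Agent.Aschbacher.Orth
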