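import Cfsg.Agent.MaxSub.OrthVectorGL
import Cfsg.Agent.Classical10.NotMax.Orth
import Cfsg.Agent.Classical10.NotMax.Tensor
import Cfsg.Agent.Aschbacher.OrthogonalBasics
import Cfsg.Agent.MaxSub.Asch.SymplecticMain
import Cfsg.Agent.MaxSub.Asch.OrthOddTensor

/-!
The group Ω of a non-degenerate quadratic form with any characteristic and dimension at least seven lies in none of
the geometric subgroups: no invariant subspace, no decomposition, no field, no subfield, no tensor decomposition.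
-/

set_option autoImplicit false
set_option linter.unusedSectionVars false
set_option linter.style.haveILetI false

namespace Cfsg.Agent.Aschbacher.Orth

open scoped MatrixGroups Matrix Kronecker
open Module QuadraticMap
open Cfsg.Agent.UnitaryOrthogonal
open Cfsg.Agent.Aschbacher (Inv Irr Rational)

/-- The group generated by the Eichler transformations is perfect. -/
theorem eichGroup_perfect' {F : Type*} [Field F] [Finite F] {V : Type*} [AddCommGroup V] [Module F V]
    [FiniteDimensional F V] {Q : QuadraticForm F V} (hQ : PolarND Q) (h5 : 5 ≤ finrank F V) :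
    ⁅eichGroup Q, eichGroup Q⁆ = eichGroup Q := by
  obtain ⟨U, U', M, hM, hex, hgen, ⟨e⟩⟩ := OrthStab.exists_model hQ h5
  haveI : Finite U' := Module.finite_of_finite F
  apply Subgroup.map_injective (f := (orthCongr e).toMonoidHom) (orthCongr e).injective
  rw [Subgroup.map_commutator, OrthStab.map_eichGroup e, eichGroup_perfect hM hex]

variable {ι : Type} [Fintype ι] [DecidableEq ι] {F : Type*} [Field F] [Fintype F]
variable {Q : QuadraticForm F (ι → F)} (hQ : PolarND Q) (hn : 7 ≤ Fintype.card ι)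

include hQ hn

omit [DecidableEq ι] in
theorem seven_le_finrank : 7 ≤ finrank F (ι → F) := by
  rw [Module.finrank_pi]; exact hn

omit [DecidableEq ι] in
theorem topPair : OrthStab.IsOrthPair Q ⊤ ⊥ :=
  ⟨hQ, isCompl_top_bot, fun x _ y hy => by rw [(Submodule.mem_bot F).mp hy, polar_zero_right]⟩

omit [DecidableEq ι] in
/-- A singular vector orthogonal to two given vectors and independent of them. -/
theorem exists_perp (a b : ι → F) :
    ∃ d, Q d = 0 ∧ polar Q d a = 0 ∧ polar Q d b = 0 ∧ d ≠ 0 ∧ ∀ r t : F, d ≠ r • a + t • b := by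
  obtain ⟨d, -, h⟩ := OrthStab.exists_perp_singular (topPair hQ hn)
    (by rw [finrank_top]; exact seven_le_finrank hQ hn) a b
  exact ⟨d, h⟩

omit [DecidableEq ι] in
theorem singular_span {S : Submodule F (ι → F)} (hS : ∀ x, x ≠ 0 → Q x = 0 → x ∈ S) : S = ⊤ :=
  top_le_iff.mp (OrthStab.le_of_singular_mem (topPair hQ hn)
    (by rw [finrank_top]; have := seven_le_finrank hQ hn; omega) fun x _ hx => by
      by_cases h0 : x = 0
      · rw [h0]; exact S.zero_mem
      · exact hS x h0 hx)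

/-- Ω is transitive on the non-zero vectors with a given value. -/
theorem exists_omega_map {a d : ι → F} (ha : a ≠ 0) (hd : d ≠ 0) (h : Q a = Q d) :
    ∃ g ∈ Geo.omegaGL ⇑Q, (g : Matrix ι ι F) *ᵥ a = d := by
  obtain ⟨g, hg, hga⟩ := OrthStab.exists_eich_map_of_form_eq hQ (by rw [Module.finrank_pi]; omega) ha hd h
  obtain ⟨g', hg', hg''⟩ := NotMax.exists_omega hQ (by omega) hg
  exact ⟨g', hg', by rw [hg'', hga]⟩

/-- Ω is irreducible. -/
theorem irr : Irr (Geo.omegaGL ⇑Q) := by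
  intro W hW
  by_cases hb : W = ⊥
  · exact Or.inl hb
  refine Or.inr ?_
  obtain ⟨w, hw, hw0⟩ := W.ne_bot_iff.mp hb
  have hlev : ∀ d, d ≠ 0 → ∀ a ∈ W, a ≠ 0 → Q a = Q d → d ∈ W := fun d hd a haW ha h => by
    obtain ⟨g, hg, rfl⟩ := exists_omega_map hQ hn ha hd h
    exact hW g hg a haW
  obtain ⟨s, hs, hs0, hsW⟩ : ∃ s, Q s = 0 ∧ s ≠ 0 ∧ s ∈ W := by
    by_cases hQw : Q w = 0
    · exact ⟨w, hQw, hw0, hw⟩
    obtain ⟨d, hd, hdw, -, hd0, hind⟩ := exists_perp hQ hn w w
    refine ⟨d, hd, hd0, ?_⟩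
    have hne : w + d ≠ 0 := fun e => hind (-1) 0 (by
      rw [zero_smul, add_zero, neg_one_smul]; exact eq_neg_of_add_eq_zero_right e)
    have h1 := hlev _ hne w hw hw0 (by rw [form_add, hd, polar_comm Q w d, hdw, add_zero, add_zero])
    simpa using W.sub_mem h1 hw
  exact singular_span hQ hn fun x hx0 hx => hlev x hx0 s hsW hs0 (by rw [hs, hx])

theorem not_le_subspaceStabilizer {W : Submodule F (ι → F)} (hb : W ≠ ⊥) (ht : W ≠ ⊤) :
    ¬ Geo.omegaGL ⇑Q ≤ Geo.subspaceStabilizer W := by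
  intro h
  rcases irr hQ hn W (fun g hg w hw => (h hg w).mp hw) with h1 | h1
  · exact hb h1
  · exact ht h1

/-- Ω preserves no decomposition. -/
theorem not_le_decompositionStabilizer {t k : ℕ} {D : Fin t → Submodule F (ι → F)}
    (hD : Geo.IsMDecomposition k D) : ¬ Geo.omegaGL ⇑Q ≤ Geo.decompositionStabilizer D := by
  classical
  intro hle
  have hmap : ∀ i, ∀ x ∈ D i, x ≠ 0 → ∀ y, y ≠ 0 → Q x = Q y → ∃ j, y ∈ D j := fun i x hx hx0 y hy0 h => by
    obtain ⟨g, hg, rfl⟩ := exists_omega_map hQ hn hx0 hy0 h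
    obtain ⟨σ, hσ⟩ := hle hg
    exact ⟨σ i, hσ i ▸ ⟨x, hx, Matrix.toLin'_apply _ _⟩⟩
  have hrest : ∀ i j, j ≠ i → D j ≤ ⨆ (l) (_ : l ≠ i), D l := fun i j hj => le_iSup₂_of_le j hj le_rfl
  have hdisj : ∀ i x, x ∈ D i → x ∈ ⨆ (l) (_ : l ≠ i), D l → x = 0 :=
    fun i x h1 h2 => Submodule.disjoint_def.mp (hD.indep i) x h1 h2
  by_cases hex : ∃ i x, x ∈ D i ∧ x ≠ 0 ∧ Q x = 0
  · obtain ⟨i₀, x₀, hx₀, hx₀0, hx₀Q⟩ := hex
    have hsing : ∀ x, x ≠ 0 → Q x = 0 → ∃ j, x ∈ D j :=
      fun x hx0 hx => hmap i₀ x₀ hx₀ hx₀0 x hx0 (by rw [hx₀Q, hx])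
    have horth : ∀ u v i, u ≠ 0 → v ≠ 0 → Q u = 0 → Q v = 0 → polar Q u v = 0 → u ∈ D i → v ∈ D i := by
      intro u v i hu0 hv0 hu hv huv hui
      by_cases he : u + v = 0
      · rw [eq_neg_of_add_eq_zero_right he]; exact (D i).neg_mem hui
      obtain ⟨j, hj⟩ := hsing v hv0 hv
      by_contra hvi
      have hji : j ≠ i := fun h => hvi (h ▸ hj)
      obtain ⟨l, hl⟩ := hsing _ he (by rw [form_add, hu, hv, huv, add_zero, add_zero])
      rcases eq_or_ne l i with rfl | hli
      · exact hvi (by simpa using (D l).sub_mem hl hui)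
      · refine hu0 (hdisj i u hui ?_)
        simpa using Submodule.sub_mem _ (hrest i l hli hl) (hrest i j hji hj)
    have htop : D i₀ = ⊤ := by
      refine singular_span hQ hn fun x hx0 hx => ?_
      obtain ⟨w, hw, hwx₀, hwx, hw0, -⟩ := exists_perp hQ hn x₀ x
      exact horth w x i₀ hw0 hx0 hw hx hwx
        (horth x₀ w i₀ hx₀0 hw0 hx₀Q hw (by rw [polar_comm]; exact hwx₀) hx₀)
    obtain ⟨i₁, hi₁⟩ : ∃ i₁, i₁ ≠ i₀ :=
      Fintype.exists_ne_of_one_lt_card (by rw [Fintype.card_fin]; exact hD.two_le) i₀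
    have hb : D i₁ = ⊥ := (Submodule.eq_bot_iff _).mpr fun x hx =>
      hdisj i₁ x hx (hrest i₁ i₀ hi₁.symm (htop ▸ Submodule.mem_top))
    have := hD.finrank_eq i₁
    rw [hb, finrank_bot] at this
    exact hD.pos.ne this
  · push Not at hex
    let i₀ : Fin t := ⟨0, by have := hD.two_le; omega⟩
    have hDb : D i₀ ≠ ⊥ := fun h => by
      have := hD.finrank_eq i₀
      rw [h, finrank_bot] at this
      exact hD.pos.ne this
    obtain ⟨v, hv, hv0⟩ := (D i₀).ne_bot_iff.mp hDb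
    have hQv := hex i₀ v hv hv0
    obtain ⟨d, hd, hdv, -, hd0, -⟩ := exists_perp hQ hn v v
    obtain ⟨d', hd', hd'v, hd'd, hd'0, hind⟩ := exists_perp hQ hn v d
    have hw : ∀ w, Q w = 0 → w ≠ 0 → polar Q v w = 0 → v + w ∈ ⨆ (l) (_ : l ≠ i₀), D l := by
      intro w hw hw0 hvw
      have he : Q (v + w) = Q v := by rw [form_add, hw, hvw, add_zero, add_zero]
      have hne : v + w ≠ 0 := fun e => hQv (by rw [← he, e, QuadraticMap.map_zero])
      obtain ⟨j, hj⟩ := hmap i₀ v hv hv0 _ hne he.symm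
      rcases eq_or_ne j i₀ with rfl | hj0
      · exact absurd hw (hex i₀ w (by simpa using (D i₀).sub_mem hj hv) hw0)
      · exact hrest i₀ j hj0 hj
    have h1 := hw d hd hd0 (by rw [polar_comm]; exact hdv)
    have h2 := hw d' hd' hd'0 (by rw [polar_comm]; exact hd'v)
    have h3 := hw (d + d') (by rw [form_add, hd, hd', polar_comm Q d d', hd'd, add_zero, add_zero])
      (fun e => hind 0 (-1) (by rw [zero_smul, zero_add, neg_one_smul]; exact eq_neg_of_add_eq_zero_right e))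
      (by rw [polar_add_right, polar_comm Q v d, hdv, polar_comm Q v d', hd'v, add_zero])
    refine hv0 (hdisj i₀ v hv ?_)
    have h4 := Submodule.sub_mem _ (Submodule.add_mem _ h1 h2) h3
    convert h4 using 1
    abel

/-- A homomorphism from a group containing Ω into a commutative group kills Ω. -/
theorem omega_le_ker {A : Type*} [Group A] (hA : ∀ a b : A, a * b = b * a) {G : Subgroup (GL ι F)}
    (hle : Geo.omegaGL ⇑Q ≤ G) (φ : G →* A) {g : GL ι F} (hg : g ∈ Geo.omegaGL ⇑Q) : φ ⟨g, hle hg⟩ = 1 := by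
  obtain ⟨g₀, hg₀, rfl⟩ := hg
  have h5 : 5 ≤ finrank F (ι → F) := by rw [Module.finrank_pi]; omega
  set ψ := isometryGroupEquiv Q (f := ⇑Q) (fun _ => rfl)
  have hmap : (Cfsg.Omega F ⇑Q).map ψ.toMonoidHom = eichGroup Q := by
    ext x
    constructor
    · rintro ⟨y, hy, rfl⟩
      exact (OrthStab.mem_omega_iff hQ h5 y).mp hy
    · intro hx
      obtain ⟨y, rfl⟩ := ψ.surjective x
      exact ⟨y, (OrthStab.mem_omega_iff hQ h5 y).mpr hx, rfl⟩
  have hperf : ⁅Cfsg.Omega F ⇑Q, Cfsg.Omega F ⇑Q⁆ = Cfsg.Omega F ⇑Q := by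
    apply Subgroup.map_injective (f := ψ.toMonoidHom) ψ.injective
    rw [Subgroup.map_commutator, hmap, eichGroup_perfect' hQ h5]
  let inc : Cfsg.Omega F ⇑Q →* G :=
    ((Cfsg.isometryGroup F ⇑Q).subtype.comp (Cfsg.Omega F ⇑Q).subtype).codRestrict G
      fun x => hle ⟨x.1, x.2, rfl⟩
  let ρ := φ.comp inc
  have htop : commutator (Cfsg.Omega F ⇑Q) = ⊤ := by
    refine Subgroup.map_injective (f := (Cfsg.Omega F ⇑Q).subtype) (Cfsg.Omega F ⇑Q).subtype_injective ?_
    rw [commutator_def, Subgroup.map_commutator, ← MonoidHom.range_eq_map, Subgroup.range_subtype, hperf]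
  have hker : commutator (Cfsg.Omega F ⇑Q) ≤ ρ.ker := by
    rw [commutator_def, Subgroup.commutator_le]
    intro x _ y _
    rw [MonoidHom.mem_ker, map_commutatorElement]
    exact commutatorElement_eq_one_iff_mul_comm.mpr (hA _ _)
  exact MonoidHom.mem_ker.mp (hker (htop ▸ Subgroup.mem_top (⟨g₀, hg₀⟩ : Cfsg.Omega F ⇑Q)))

/-- A matrix commuting with Ω is a scalar. -/
theorem eq_smul_of_commute {X : Matrix ι ι F}
    (hX : ∀ g ∈ Geo.omegaGL ⇑Q, X * (g : Matrix ι ι F) = (g : Matrix ι ι F) * X) : ∃ c : F, X = c • 1 := by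
  classical
  have hpair : ∀ u z, Q u = 0 → Q z = 0 → polar Q u z = 0 → z ∉ Submodule.span F {u} →
      ∃ r t : F, X *ᵥ u = r • u + t • z := by
    intro u z hu hz huz hzu
    obtain ⟨c, hcz, hcu⟩ := OrthStab.exists_dual_vec hQ hzu
    obtain ⟨g, hg, hgx⟩ := NotMax.exists_omega_eich hQ (by omega) hu huz
    have huc : polar Q u c = 0 := by rw [polar_comm]; exact hcu u (Submodule.mem_span_singleton_self u)
    have hzc : polar Q z c = 1 := by rw [polar_comm]; exact hcz
    have h1 := congrArg (· *ᵥ c) (hX g hg)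
    simp only [← Matrix.mulVec_mulVec] at h1
    rw [hgx, hgx, hz, huc, hzc] at h1
    simp only [zero_smul, zero_mul, add_zero, sub_zero, one_smul, Matrix.mulVec_sub] at h1
    refine ⟨polar Q z (X *ᵥ c), -polar Q u (X *ᵥ c), ?_⟩
    rw [neg_smul, ← sub_eq_add_neg]
    linear_combination (norm := abel) -h1
  have heig : ∀ u, u ≠ 0 → Q u = 0 → ∃ r : F, X *ᵥ u = r • u := by
    intro u hu0 hu
    obtain ⟨z, hz, hzu, -, hz0, hind⟩ := exists_perp hQ hn u u
    have hzs : z ∉ Submodule.span F {u} := fun h => by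
      obtain ⟨r, hr⟩ := Submodule.mem_span_singleton.mp h
      exact hind r 0 (by rw [zero_smul, add_zero]; exact hr.symm)
    obtain ⟨z', hz', hz'u, -, hz'0, hind'⟩ := exists_perp hQ hn u z
    have hz's : z' ∉ Submodule.span F {u} := fun h => by
      obtain ⟨r, hr⟩ := Submodule.mem_span_singleton.mp h
      exact hind' r 0 (by rw [zero_smul, add_zero]; exact hr.symm)
    obtain ⟨r, t, h1⟩ := hpair u z hu hz (by rw [polar_comm]; exact hzu) hzs
    obtain ⟨r', t', h2⟩ := hpair u z' hu hz' (by rw [polar_comm]; exact hz'u) hz's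
    by_cases ht : t' = 0
    · exact ⟨r', by rw [h2, ht, zero_smul, add_zero]⟩
    · exfalso
      refine hind' (t'⁻¹ * (r - r')) (t'⁻¹ * t) ?_
      rw [← smul_smul, ← smul_smul, ← smul_add, sub_smul]
      rw [h1] at h2
      have h3 : (r • u - r' • u) + t • z = t' • z' := by linear_combination (norm := abel) h2
      rw [h3, inv_smul_smul₀ ht]
  obtain ⟨u₀, hu₀, -, -, hu₀0, -⟩ := exists_perp hQ hn 0 0
  obtain ⟨r₀, hr₀⟩ := heig u₀ hu₀0 hu₀
  have horth : ∀ (u v : ι → F) (r : F), u ≠ 0 → v ≠ 0 → Q u = 0 → Q v = 0 → polar Q u v = 0 →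
      v ∉ Submodule.span F {u} → X *ᵥ u = r • u → X *ᵥ v = r • v := by
    intro u v r hu0 hv0 hu hv huv hvu hr
    obtain ⟨s, hs⟩ := heig v hv0 hv
    have hne : u + v ≠ 0 := fun e => hvu (by
      rw [eq_neg_of_add_eq_zero_right e]; exact Submodule.neg_mem _ (Submodule.mem_span_singleton_self u))
    obtain ⟨s', hs'⟩ := heig _ hne (by rw [form_add, hu, hv, huv, add_zero, add_zero])
    rw [Matrix.mulVec_add, hr, hs, smul_add] at hs'
    have h : (r - s') • u = (s' - s) • v := by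
      rw [sub_smul, sub_smul]; linear_combination (norm := abel) hs'
    have hss : s' = s := by
      by_contra hne'
      refine hvu (Submodule.mem_span_singleton.mpr ⟨(s' - s)⁻¹ * (r - s'), ?_⟩)
      rw [← smul_smul, h, inv_smul_smul₀ (sub_ne_zero.mpr hne')]
    rw [hss, sub_self, zero_smul, smul_eq_zero, sub_eq_zero] at h
    rw [hs, h.resolve_right hu0]
  refine ⟨r₀, ?_⟩
  let S : Submodule F (ι → F) := LinearMap.ker (Matrix.toLin' (X - r₀ • 1))
  have hS : ∀ v, v ∈ S ↔ X *ᵥ v = r₀ • v := fun v => by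
    simp [S, Matrix.sub_mulVec, Matrix.smul_mulVec, sub_eq_zero]
  have htop : S = ⊤ := singular_span hQ hn fun x hx0 hx => by
    rw [hS]
    obtain ⟨w, hw, hwu, hwx, hw0, hind⟩ := exists_perp hQ hn u₀ x
    have hwu₀ : w ∉ Submodule.span F {u₀} := fun h => by
      obtain ⟨r, hr⟩ := Submodule.mem_span_singleton.mp h
      exact hind r 0 (by rw [zero_smul, add_zero]; exact hr.symm)
    have hxw : x ∉ Submodule.span F {w} := fun h => by
      obtain ⟨r, hr⟩ := Submodule.mem_span_singleton.mp h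
      have hr0 : r ≠ 0 := fun e => hx0 (by rw [← hr, e, zero_smul])
      exact hind 0 r⁻¹ (by rw [zero_smul, zero_add, ← hr, inv_smul_smul₀ hr0])
    exact horth w x r₀ hw0 hx0 hw hx hwx hxw
      (horth u₀ w r₀ hu₀0 hw0 hu₀ hw (by rw [polar_comm]; exact hwu) hwu₀ hr₀)
  refine Matrix.ext_of_mulVec_single fun i => ?_
  rw [(hS _).mp (htop ▸ Submodule.mem_top), Matrix.smul_mulVec, Matrix.one_mulVec]

/-- Ω normalises no field of matrices other than the scalars. -/
theorem not_le_subalgebraNormalizer {r : ℕ} {K : Subalgebra F (Matrix ι ι F)}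
    (hK : Geo.IsFieldSubalgebra r K) (hr : 2 ≤ r) : ¬ Geo.omegaGL ⇑Q ≤ Geo.subalgebraNormalizer K := by
  classical
  intro hle
  haveI : Finite (Matrix ι ι F) := Pi.finite
  haveI : Finite K := Subtype.finite
  haveI : Nontrivial K := Module.nontrivial_of_finrank_pos (R := F) (by rw [hK.finrank_eq]; omega)
  have hfld : IsField K :=
    { exists_pair_ne := exists_pair_ne K
      mul_comm := fun x y => Subtype.ext (hK.comm x x.2 y y.2)
      mul_inv_cancel := fun {x} hx => by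
        obtain ⟨y, hy, hxy⟩ := hK.inv x x.2 fun h => hx (Subtype.ext h)
        exact ⟨⟨y, hy⟩, Subtype.ext hxy⟩ }
  letI : Field K := hfld.toField
  let f : Geo.subalgebraNormalizer K → (K →ₐ[F] K) := fun g =>
    ((MaxSub.Asch.conjHom (g : GL ι F)).comp K.val).codRestrict K fun k => (g.2 k).mp k.2
  have hf : ∀ g k, ((f g k : K) : Matrix ι ι F) = MaxSub.Asch.conjHom (g : GL ι F) (k : Matrix ι ι F) := fun _ _ => rfl
  let φ : Geo.subalgebraNormalizer K →* (K ≃ₐ[F] K) :=
    { toFun := fun g => AlgEquiv.ofBijective (f g) (Finite.injective_iff_bijective.mp (RingHom.injective (f g).toRingHom))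
      map_one' := by
        ext k : 2
        show ((f 1 k : K) : Matrix ι ι F) = k
        simp [hf, MaxSub.Asch.conjHom_apply]
      map_mul' := fun a b => by
        ext k : 2
        show ((f (a * b) k : K) : Matrix ι ι F) = (f a (f b k) : K)
        simp [hf, MaxSub.Asch.conjHom_apply, mul_assoc] }
  have hcomm : ∀ a b : K ≃ₐ[F] K, a * b = b * a := by
    haveI : Fintype K := Fintype.ofFinite K
    haveI : IsCyclic (K ≃ₐ[F] K) := inferInstance
    exact fun a b => (IsMulCommutative.is_comm).comm a b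
  have hKs : ∀ k ∈ K, ∃ c : F, k = c • (1 : Matrix ι ι F) := fun k hk => eq_smul_of_commute hQ hn fun g hg => by
    have h1 := omega_le_ker hQ hn hcomm hle φ hg
    have h2 : ((f ⟨g, hle hg⟩ ⟨k, hk⟩ : K) : Matrix ι ι F) = k :=
      congrArg Subtype.val (DFunLike.congr_fun h1 ⟨k, hk⟩)
    rw [hf, MaxSub.Asch.conjHom_apply] at h2
    calc k * (g : Matrix ι ι F) = (g : Matrix ι ι F) * k * ((g⁻¹ : GL ι F) : Matrix ι ι F) * (g : Matrix ι ι F) := by
          rw [show (g : Matrix ι ι F) * k * ((g⁻¹ : GL ι F) : Matrix ι ι F) = k from h2]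
      _ = (g : Matrix ι ι F) * k := by rw [mul_assoc _ _ (g : Matrix ι ι F), Units.inv_mul, mul_one]
  have : finrank F K ≤ 1 := finrank_le_one (1 : K) fun w => by
    obtain ⟨c, hc⟩ := hKs w w.2
    exact ⟨c, Subtype.ext hc.symm⟩
  rw [hK.finrank_eq] at this
  omega

/-- Ω lies in no subfield group. -/
theorem not_le_subfieldSubgroup {F₁ : Subfield F} (hF₁ : F₁ ≠ ⊤) (P : GL ι F) :
    ¬ Geo.omegaGL ⇑Q ≤ Geo.subfieldSubgroup F₁ P := by
  classical
  intro hle
  haveI : Nonempty ι := Fintype.card_pos_iff.mp (by omega)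
  obtain ⟨u, hu, -, -, hu0, -⟩ := exists_perp hQ hn 0 0
  obtain ⟨v, hv, hvu, -, hv0, hind⟩ := exists_perp hQ hn u u
  have huv : polar Q u v = 0 := by rw [polar_comm]; exact hvu
  have hus : u ∉ Submodule.span F {v} := fun h => by
    obtain ⟨r, hr⟩ := Submodule.mem_span_singleton.mp h
    have hr0 : r ≠ 0 := fun e => hu0 (by rw [← hr, e, zero_smul])
    exact hind r⁻¹ 0 (by rw [zero_smul, add_zero, ← hr, inv_smul_smul₀ hr0])
  obtain ⟨x, hxu, hxv⟩ := OrthStab.exists_dual_vec hQ hus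
  set E := LinearMap.toMatrix' ((polarBilin Q u).smulRight v - (polarBilin Q v).smulRight u) with hE
  have hEv : ∀ y, E *ᵥ y = polar Q u y • v - polar Q v y • u := fun y => by
    rw [hE, ← Matrix.toLin'_apply, Matrix.toLin'_toMatrix']; rfl
  have hE2 : E * E = 0 := by
    refine Matrix.ext_of_mulVec_single fun i => ?_
    rw [← Matrix.mulVec_mulVec, hEv, hEv, Matrix.zero_mulVec]
    simp only [polar_sub_right, polar_smul_right, huv, hvu, polar_self_eq, hu, hv]
    simp
  have hrat : ∀ c : F, Rational F₁ (c • (((P⁻¹ : GL ι F) : Matrix ι ι F) * E * (P : Matrix ι ι F))) := by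
    intro c
    obtain ⟨g, hg, hgx⟩ := NotMax.exists_omega_eich hQ (by omega) (z := c • v) hu
      (by rw [polar_smul_right, huv, smul_zero])
    have hgv : (g : Matrix ι ι F) = 1 + c • E := by
      refine Matrix.ext_of_mulVec_single fun i => ?_
      rw [hgx, form_smul, hv, Matrix.add_mulVec, Matrix.one_mulVec, Matrix.smul_mulVec, hEv, polar_smul_left,
        smul_eq_mul]
      simp only [mul_zero, zero_mul, zero_smul, sub_zero]
      module
    have h1 := rational_of_unipotent (hle hg) hgv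
      (by rw [Matrix.smul_mul, Matrix.mul_smul, hE2, smul_zero, smul_zero])
    rwa [Matrix.mul_smul, Matrix.smul_mul] at h1
  obtain ⟨i, j, hij⟩ : ∃ i j, (((P⁻¹ : GL ι F) : Matrix ι ι F) * E * (P : Matrix ι ι F)) i j ≠ 0 := by
    by_contra hcon
    push Not at hcon
    have hE0 : E = 0 := by
      have h3 := congrArg (fun A => (P : Matrix ι ι F) * A * ((P⁻¹ : GL ι F) : Matrix ι ι F))
        (Matrix.ext hcon : ((P⁻¹ : GL ι F) : Matrix ι ι F) * E * P = 0)
      simpa [← mul_assoc, mul_assoc E] using h3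
    have h4 := hEv x
    rw [hE0, Matrix.zero_mulVec, polar_comm Q u x, hxu, polar_comm Q v x,
      hxv v (Submodule.mem_span_singleton_self v), one_smul, zero_smul, sub_zero] at h4
    exact hv0 h4.symm
  refine hF₁ (eq_top_iff.mpr fun c _ => ?_)
  have h1 := hrat 1 i j
  have h3 := hrat c i j
  rw [Matrix.smul_apply, smul_eq_mul] at h1 h3
  rw [one_mul] at h1
  have h5 := F₁.mul_mem h3 (F₁.inv_mem h1)
  rwa [mul_assoc, mul_inv_cancel₀ hij, mul_one] at h5

omit hQ hn in
/-- A sum of two pure tensors is pure only if they share a factor. -/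
theorem exists_shared {a b : ℕ} {x₀ x x' : Fin a → F} {y₀ y y' : Fin b → F}
    (h : ∀ i j, x₀ i * y₀ j + x i * y j = x' i * y' j) (hx₀ : x₀ ≠ 0) (hy₀ : y₀ ≠ 0) :
    (∃ c : F, x = c • x₀) ∨ (∃ c : F, y = c • y₀) := by
  obtain ⟨i, hi⟩ := Function.ne_iff.mp hx₀
  obtain ⟨j, hj⟩ := Function.ne_iff.mp hy₀
  by_cases hx : ∀ k, x₀ i * x k = x₀ k * x i
  · refine Or.inl ⟨x i / x₀ i, funext fun k => ?_⟩
    rw [Pi.smul_apply, smul_eq_mul, div_mul_eq_mul_div, eq_div_iff hi]
    linear_combination hx k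
  push Not at hx
  obtain ⟨k, hk⟩ := hx
  refine Or.inr ⟨y j / y₀ j, funext fun l => ?_⟩
  rw [Pi.smul_apply, smul_eq_mul, div_mul_eq_mul_div, eq_div_iff hj]
  have hprod : (x₀ i * x k - x₀ k * x i) * (y₀ j * y l - y₀ l * y j) = 0 := by
    have hz : (x₀ i * y₀ j + x i * y j) * (x₀ k * y₀ l + x k * y l) -
        (x₀ i * y₀ l + x i * y l) * (x₀ k * y₀ j + x k * y j) = 0 := by
      rw [h i j, h k l, h i l, h k j]; ring
    linear_combination hz
  linear_combination (mul_eq_zero.mp hprod).resolve_left (sub_ne_zero.mpr hk)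

/-- Ω does not preserve the set of pure tensors. -/
theorem false_of_pure {a b : ℕ} (ha : 1 ≤ a) (hb : 3 ≤ b) (hab : a + b + 1 < Fintype.card ι)
    (e : ι ≃ Fin a × Fin b) (P : GL ι F)
    (hpres : ∀ g ∈ Geo.omegaGL ⇑Q, ∀ x y, ∃ x' y',
      (g : Matrix ι ι F) *ᵥ NotMax.ten e P x y = NotMax.ten e P x' y') : False := by
  classical
  set T := NotMax.ten e P
  have hTinj : ∀ x y x' y', T x y = T x' y' → ∀ i j, x i * y j = x' i * y' j := by
    intro x y x' y' h i j
    have h1 := congrFun (mulVec_gl_inj P h) (e.symm (i, j))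
    simpa using h1
  have hT0 : ∀ x y, T x y ≠ 0 → x ≠ 0 ∧ y ≠ 0 := fun x y h =>
    ⟨fun e => h (by rw [e, map_zero, LinearMap.zero_apply]), fun e => h (by rw [e, map_zero])⟩
  obtain ⟨s, hs, hs0, hsp⟩ : ∃ s, Q s = 0 ∧ s ≠ 0 ∧ ∃ x y, T x y = s := by
    let x₁ : Fin a → F := Pi.single ⟨0, by omega⟩ 1
    have hinj : Function.Injective (T x₁) := fun y y' h => funext fun j => by
      simpa [x₁] using hTinj x₁ y x₁ y' h ⟨0, by omega⟩ j
    obtain ⟨s, ⟨y, rfl⟩, hs0, hs⟩ := OrthStab.exists_singular_mem (Q := Q) (LinearMap.range (T x₁))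
      (by rw [LinearMap.finrank_range_of_inj hinj, Module.finrank_pi, Fintype.card_fin]; exact hb)
    exact ⟨_, hs, hs0, x₁, y, rfl⟩
  obtain ⟨x₀, y₀, rfl⟩ := hsp
  obtain ⟨hx₀, hy₀⟩ := hT0 _ _ hs0
  set u := T x₀ y₀
  have hpure : ∀ v, v ≠ 0 → Q v = 0 → ∃ x y, T x y = v := fun v hv0 hv => by
    obtain ⟨g, hg, rfl⟩ := exists_omega_map hQ hn hs0 hv0 (by rw [hs, hv])
    obtain ⟨x', y', h⟩ := hpres g hg x₀ y₀
    exact ⟨x', y', h.symm⟩
  set W := LinearMap.range (T x₀) ⊔ LinearMap.range (T.flip y₀) with hW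
  have hmem : ∀ v, Q v = 0 → polar Q u v = 0 → v ∈ W := by
    intro v hv huv
    by_cases hv0 : v = 0
    · rw [hv0]; exact W.zero_mem
    by_cases he : u + v = 0
    · rw [eq_neg_of_add_eq_zero_right he]
      exact W.neg_mem (Submodule.mem_sup_left ⟨y₀, rfl⟩)
    obtain ⟨x, y, rfl⟩ := hpure v hv0 hv
    obtain ⟨x', y', h⟩ := hpure _ he (by rw [form_add, hs, hv, huv, add_zero, add_zero])
    have h' : ∀ i j, x₀ i * y₀ j + x i * y j = x' i * y' j := fun i j => by
      have h1 := congrFun (mulVec_gl_inj P (a₁ := (fun p : Fin a × Fin b => x' p.1 * y' p.2) ∘ e)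
        (a₂ := (fun p : Fin a × Fin b => x₀ p.1 * y₀ p.2 + x p.1 * y p.2) ∘ e) (by
          show T x' y' = _
          rw [h]
          exact (Matrix.mulVec_add (P : Matrix ι ι F) _ _).symm)) (e.symm (i, j))
      simpa using h1.symm
    rcases exists_shared h' hx₀ hy₀ with ⟨c, rfl⟩ | ⟨c, rfl⟩
    · exact Submodule.mem_sup_left ⟨c • y, by rw [map_smul, map_smul, LinearMap.smul_apply]⟩
    · exact Submodule.mem_sup_right ⟨c • x, by simp⟩
  obtain ⟨d, hd, hdu, -, hd0, hind⟩ := exists_perp hQ hn u u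
  have hds : d ∉ Submodule.span F {u} := fun h => by
    obtain ⟨r, hr⟩ := Submodule.mem_span_singleton.mp h
    exact hind r 0 (by rw [zero_smul, add_zero]; exact hr.symm)
  obtain ⟨f, hf, hdf, hfu⟩ := OrthStab.exists_partner hQ hds hd fun w hw => by
    obtain ⟨r, rfl⟩ := Submodule.mem_span_singleton.mp hw
    rw [polar_smul_right, hdu, smul_zero]
  have hle : OrthStab.perpOf Q (Submodule.span F {u}) ≤ W := fun w hw => by
    have h : polar Q u w = 0 := by
      rw [polar_comm]; exact OrthStab.mem_perpOf.mp hw u (Submodule.mem_span_singleton_self u)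
    refine Submodule.span_le.mpr (fun y hy => hmem y hy.1 hy.2) (Reflections.mem_span_singular Q hd hf hdf
      (e := u) (by rw [polar_comm]; exact hdu)
      (by rw [polar_comm]; exact hfu u (Submodule.mem_span_singleton_self u)) h)
  have h1 := Submodule.finrank_mono hle
  have h2 := OrthStab.finrank_perpOf hQ (Submodule.span F {u})
  have h3 := Submodule.finrank_sup_add_finrank_inf_eq (LinearMap.range (T x₀)) (LinearMap.range (T.flip y₀))
  have h4 := LinearMap.finrank_range_le (T x₀)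
  have h5 := LinearMap.finrank_range_le (T.flip y₀)
  rw [Module.finrank_pi, Fintype.card_fin] at h4 h5
  rw [finrank_span_singleton hs0, Module.finrank_pi] at h2
  rw [← hW] at h3
  omega

theorem not_le_tensorProductSubgroup {a b : ℕ} (ha : 1 ≤ a) (hb : 3 ≤ b) (hab : a + b + 1 < Fintype.card ι)
    (e : ι ≃ Fin a × Fin b) (P : GL ι F) : ¬ Geo.omegaGL ⇑Q ≤ Geo.tensorProductSubgroup a b e P := fun hle =>
  false_of_pure hQ hn ha hb hab e P fun g hg x y => by
    obtain ⟨A, B, h⟩ := NotMax.exists_of_mem_tensorProductSubgroup (hle hg)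
    exact ⟨_, _, h x y⟩

theorem not_le_tensorWreathSubgroup {k : ℕ} (hk : 3 ≤ k) (hkn : k + k + 1 < Fintype.card ι)
    (e : ι ≃ (Fin 2 → Fin k)) (P : GL ι F) : ¬ Geo.omegaGL ⇑Q ≤ Geo.tensorWreathSubgroup k 2 e P := by
  intro hle
  let π : (Fin 2 → Fin k) ≃ Fin k × Fin k := finTwoArrowEquiv (Fin k)
  refine false_of_pure hQ hn (by omega) hk hkn (e.trans π) P fun g hg x y => ?_
  obtain ⟨_, ⟨h, hh, rfl⟩, hge⟩ := hle hg
  obtain ⟨u', hu'⟩ := MaxSub.Asch.exists_ptens_image hh ![x, y]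
  have hp : ∀ f : Fin 2 → Fin k → F, NotMax.ten (e.trans π) P (f 0) (f 1) =
      (P : Matrix ι ι F) *ᵥ (MaxSub.Asch.ptens f ∘ e) := fun f => by
    rw [NotMax.ten_apply]
    congr 1
    funext i
    simp [MaxSub.Asch.ptens, π, Fin.prod_univ_two]
  refine ⟨u' 0, u' 1, ?_⟩
  have hxy := hp ![x, y]
  simp only [Matrix.cons_val_zero, Matrix.cons_val_one, Matrix.cons_val_fin_one] at hxy
  rw [hxy, hp u', ← hge, show ((MulAut.conj P).toMonoidHom ((Geo.glReindex e.symm).toMonoidHom h) : Matrix ι ι F) =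
    MaxSub.Asch.tr e P (h : Matrix (Fin 2 → Fin k) (Fin 2 → Fin k) F) from MaxSub.Asch.tr_eq_conj_glReindex e P h,
    MaxSub.Asch.tr_mulVec, hu']

end Cfsg.Agent.Aschbacher.Orth
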