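import Cfsg.Agent.Aschbacher.Orth.Types
import Cfsg.Agent.Aschbacher.Orth.NotLe

/-!
Maximal subgroups of Ω which leave a subspace invariant.
-/

set_option autoImplicit false
set_option linter.unusedSectionVars false
set_option linter.style.haveILetI false

namespace Cfsg.Agent.Aschbacher.Orth

open scoped MatrixGroups Matrix
open Module QuadraticMap
open Cfsg.Agent.UnitaryOrthogonal
open Cfsg.Agent.Aschbacher (Inv Irr)
open Cfsg.Agent.OrthFix (chi sig Sig SigOn NDOn exists_sig)

variable {ι : Type} [Fintype ι] [DecidableEq ι] {F : Type*} [Field F] [Fintype F]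
variable {Q : QuadraticForm F (ι → F)}

/-- The three kinds of invariant subspace. -/
theorem reducible_cases (hQ : PolarND Q) (hn : 7 ≤ Fintype.card ι) {H : Subgroup (GL ι F)}
    (hH : Geo.IsMaximalIn (Geo.omegaGL ⇑Q) H) (hred : ¬ Irr H) :
    (∃ W : Submodule F (ι → F), W ≠ ⊥ ∧ Geo.IsTotallySingularQuad ⇑Q W ∧
      H = Geo.subspaceStabilizer W ⊓ Geo.omegaGL ⇑Q ∧
      (Geo.IsPlusTypeOn ⇑Q ⊤ → 2 * (finrank F W + 1) ≠ Fintype.card ι)) ∨
    (¬ Odd (Fintype.card F) ∧ ∃ v : ι → F, Q v ≠ 0 ∧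
      H = Geo.subspaceStabilizer (Submodule.span F {v}) ⊓ Geo.omegaGL ⇑Q) ∨
    (∃ W : Submodule F (ι → F), W ≠ ⊥ ∧ W ≠ ⊤ ∧ 2 * finrank F W ≤ Fintype.card ι ∧
      Geo.IsNondegenerateOn (polar ⇑Q) W ∧ (Odd (finrank F W) → Odd (Fintype.card F)) ∧
      H = Geo.subspaceStabilizer W ⊓ Geo.omegaGL ⇑Q ∧
      (finrank F W = 2 → Geo.IsPlusTypeOn ⇑Q W → 4 ≤ Fintype.card F)) := by
  classical
  have hiso : H ≤ isometryGroup F ⇑Q := hH.1.le.trans omega_le_isometry
  have hfin : finrank F (ι → F) = Fintype.card ι := by rw [Module.finrank_pi]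
  rw [Irr] at hred
  push Not at hred
  obtain ⟨W, hWi, hWb, hWt⟩ := hred
  have hWle : H ≤ Geo.subspaceStabilizer W := Aschbacher.inv_le_subspaceStabilizer hWi
  have hPle : H ≤ Geo.subspaceStabilizer (OrthStab.perpOf Q W) := (le_inf hWle hiso).trans (perp_stab W)
  have hPd := OrthStab.finrank_perpOf hQ W
  rw [hfin] at hPd
  by_cases hR : W ⊓ (OrthStab.perpOf Q W) = ⊥
  swap
  · have hpol : ∀ x ∈ W ⊓ (OrthStab.perpOf Q W), ∀ y ∈ W ⊓ (OrthStab.perpOf Q W), polar Q x y = 0 := fun x hx y hy => by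
      rw [polar_comm]; exact OrthStab.mem_perpOf.mp hy.2 x hx.1 ▸ by rw [polar_comm]
    let S : Submodule F (ι → F) :=
      { carrier := {x | x ∈ W ⊓ (OrthStab.perpOf Q W) ∧ Q x = 0}
        add_mem' := fun {a b} ha hb => ⟨add_mem ha.1 hb.1, by
          rw [form_add, ha.2, hb.2, hpol a ha.1 b hb.1, add_zero, add_zero]⟩
        zero_mem' := ⟨zero_mem _, QuadraticMap.map_zero Q⟩
        smul_mem' := fun c a ha => ⟨Submodule.smul_mem _ _ ha.1, by rw [form_smul, ha.2, mul_zero]⟩ }
    by_cases hS : S = ⊥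
    · -- one non-singular point
      have hne : ∀ x ∈ W ⊓ (OrthStab.perpOf Q W), x ≠ 0 → Q x ≠ 0 := fun x hx hx0 h =>
        hx0 ((Submodule.eq_bot_iff S).mp hS x ⟨hx, h⟩)
      obtain ⟨v, hv, hv0⟩ := (Submodule.ne_bot_iff _).mp hR
      have h2 : (2 : F) = 0 := by
        by_contra h2
        refine hne v hv hv0 ?_
        have h := hpol v hv v hv
        rw [polar_self, nsmul_eq_mul, Nat.cast_ofNat] at h
        exact (mul_eq_zero.mp h).resolve_left h2
      have hnodd : ¬ Odd (Fintype.card F) := fun ho => Aschbacher.two_ne_zero_of_odd ho h2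
      have hspan : W ⊓ (OrthStab.perpOf Q W) = Submodule.span F {v} := by
        refine le_antisymm (fun w hw => ?_) ((Submodule.span_singleton_le_iff_mem _ _).mpr hv)
        by_contra hwv
        obtain ⟨s, hs⟩ := Aschbacher.exists_sq_of_even (Nat.not_odd_iff_even.mp hnodd) (Q w / Q v)
        refine hne (s • v + w) (add_mem (Submodule.smul_mem _ _ hv) hw) (fun e => hwv ?_) ?_
        · rw [eq_neg_of_add_eq_zero_right e]
          exact neg_mem (Submodule.smul_mem _ _ (Submodule.mem_span_singleton_self v))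
        · rw [form_add, form_smul, polar_smul_left, hpol v hv w hw, smul_zero, ← pow_two, hs,
            div_mul_cancel₀ _ (hne v hv hv0), add_zero, ← two_mul, h2, zero_mul]
      refine Or.inr (Or.inl ⟨hnodd, v, hne v hv hv0, Aschbacher.eq_inf_of_maximal hH ?_
        (not_le_subspaceStabilizer hQ hn (by simpa using hv0) fun e => ?_)⟩)
      · rw [← hspan]
        exact Aschbacher.inv_le_subspaceStabilizer fun g hg x hx =>
          ⟨(hWle hg x).mp hx.1, (hPle hg x).mp hx.2⟩
      · have h1 := congrArg (fun U : Submodule F (ι → F) => finrank F U) e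
        simp only [finrank_span_singleton hv0, finrank_top, hfin] at h1
        omega
    · have hts : Geo.IsTotallySingularQuad ⇑Q S := fun x hx => hx.2
      have hSle : H ≤ Geo.subspaceStabilizer S := Aschbacher.inv_le_subspaceStabilizer fun g hg x hx =>
        ⟨⟨(hWle hg x).mp hx.1.1, (hPle hg x).mp hx.1.2⟩, by rw [iso_map (hiso hg)]; exact hx.2⟩
      have heq := Aschbacher.eq_inf_of_maximal hH hSle (not_le_subspaceStabilizer hQ hn hS fun e => hWt
        (top_le_iff.mp (e ▸ fun x hx => hx.1.1)))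
      refine Or.inl ⟨S, hS, hts, heq, fun hplus hdim => ?_⟩
      obtain ⟨K, hK1, hK2⟩ := OrthStab.submaximal_not_maximal hQ (by omega) hplus hts (by omega)
      rcases hH.2 K (heq ▸ hK1.le) hK2.le with h | h
      · exact hK1.ne (h ▸ heq.symm)
      · exact hK2.ne h
  -- a non-degenerate subspace
  have hWn : Geo.IsNondegenerateOn (polar ⇑Q) W := by
    intro w hw hw0
    obtain ⟨x, hx, hwx⟩ : ∃ x ∈ W, polar Q w x ≠ 0 := by
      by_contra hcon
      push Not at hcon
      exact hw0 ((Submodule.eq_bot_iff _).mp hR w ⟨hw, OrthStab.mem_perpOf.mpr fun y hy => hcon y hy⟩)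
    exact ⟨⟨x, hx, by rwa [polar_comm]⟩, x, hx, hwx⟩
  obtain ⟨U, hUb, hUt, hUd, hUn, hUle⟩ : ∃ U : Submodule F (ι → F), U ≠ ⊥ ∧ U ≠ ⊤ ∧
      2 * finrank F U ≤ Fintype.card ι ∧ Geo.IsNondegenerateOn (polar ⇑Q) U ∧ H ≤ Geo.subspaceStabilizer U := by
    by_cases hd : 2 * finrank F W ≤ Fintype.card ι
    · exact ⟨W, hWb, hWt, hd, hWn, hWle⟩
    · have hlt : finrank F W < Fintype.card ι := hfin ▸ Submodule.finrank_lt hWt
      refine ⟨(OrthStab.perpOf Q W), ne_bot_of_finrank (by omega), fun e => ?_, by omega, perp_nondeg hQ hWn, hPle⟩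
      rw [e, finrank_top, hfin] at hPd
      exact hWb (Submodule.finrank_eq_zero.mp (by omega))
  have heq := Aschbacher.eq_inf_of_maximal hH hUle (not_le_subspaceStabilizer hQ hn hUb hUt)
  refine Or.inr (Or.inr ⟨U, hUb, hUt, hUd, hUn, fun ho => ?_, heq, fun h2d hplus => ?_⟩)
  · exact odd_card_of_two_ne_zero (two_ne_zero_of_odd_piece hUn ho)
  · by_contra hq
    obtain ⟨K, hK1, hK2⟩ := OrthStab.plane_not_maximal hQ (by rw [hfin]; exact hn)
      (by rw [Nat.card_eq_fintype_card]; omega) h2d hUn hplus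
    rcases hH.2 K (heq ▸ hK1.le) hK2.le with h | h
    · exact hK1.ne (h ▸ heq.symm)
    · exact hK2.ne h

/-- A non-degenerate subspace of half the dimension, with its complement, is a decomposition. -/
theorem half_pair (hQ : PolarND Q) (hn : 7 ≤ Fintype.card ι) {H : Subgroup (GL ι F)}
    (hH : Geo.IsMaximalIn (Geo.omegaGL ⇑Q) H) {W : Submodule F (ι → F)}
    (hW : Geo.IsNondegenerateOn (polar ⇑Q) W) {k : ℕ} (hk : finrank F W = k) (h2k : 2 * k = Fintype.card ι)
    (hle : H ≤ Geo.subspaceStabilizer W) :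
    ∃ D : Fin 2 → Submodule F (ι → F), Geo.IsNondegenerateMDecomposition (polar ⇑Q) k D ∧ D 0 = W ∧
      D 1 = OrthStab.perpOf Q W ∧ H = Geo.decompositionStabilizer D ⊓ Geo.omegaGL ⇑Q := by
  classical
  have hiso : H ≤ isometryGroup F ⇑Q := hH.1.le.trans omega_le_isometry
  have hPd : finrank F W + finrank F (OrthStab.perpOf Q W) = Fintype.card ι := by
    have := OrthStab.finrank_perpOf hQ W
    rw [Module.finrank_pi] at this
    omega
  have hc := isCompl_perp hQ hW
  have hD : Geo.IsMDecomposition k ![W, (OrthStab.perpOf Q W)] := by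
    refine ⟨le_rfl, by omega, fun i => ?_, ?_, ?_⟩
    · fin_cases i
      · exact hk
      · show finrank F (OrthStab.perpOf Q W) = k
        omega
    · refine (iSupIndep_pair (show (0 : Fin 2) ≠ 1 by decide) fun i => ?_).mpr hc.disjoint
      fin_cases i <;> simp
    · rw [eq_top_iff, ← hc.sup_eq_top]
      exact sup_le (le_iSup (fun i => ![W, (OrthStab.perpOf Q W)] i) 0) (le_iSup (fun i => ![W, (OrthStab.perpOf Q W)] i) 1)
  refine ⟨![W, (OrthStab.perpOf Q W)], ⟨hD, fun i => ?_, fun i j hij u hu v hv => ?_⟩, rfl, rfl,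
    Aschbacher.eq_inf_of_maximal hH (fun g hg => ⟨Equiv.refl _, fun i => ?_⟩)
      (not_le_decompositionStabilizer hQ hn hD)⟩
  · fin_cases i
    · exact hW
    · exact perp_nondeg hQ hW
  · fin_cases i <;> fin_cases j
    · exact absurd rfl hij
    · rw [polar_comm]; exact OrthStab.mem_perpOf.mp hv u hu
    · exact OrthStab.mem_perpOf.mp hu v hv
    · exact absurd rfl hij
  · have hmap : ∀ U : Submodule F (ι → F), g ∈ Geo.subspaceStabilizer U →
        U.map (Matrix.toLin' (g : Matrix ι ι F)) = U := by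
      intro U hU
      refine le_antisymm ?_ fun x hx => ?_
      · rintro _ ⟨x, hx, rfl⟩
        rw [Matrix.toLin'_apply]
        exact (hU x).mp hx
      · refine ⟨((g⁻¹ : GL ι F) : Matrix ι ι F) *ᵥ x, ((inv_mem hU : g⁻¹ ∈ Geo.subspaceStabilizer U) x).mp hx, ?_⟩
        rw [Matrix.toLin'_apply, Matrix.mulVec_mulVec, Units.mul_inv, Matrix.one_mulVec]
    fin_cases i
    · exact hmap W (hle hg)
    · exact hmap (OrthStab.perpOf Q W) ((le_inf hle hiso).trans (perp_stab W) hg)

end Cfsg.Agent.Aschbacher.Orth
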