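import Cfsg.Agent.Aschbacher.Orth.Types
import Cfsg.Agent.Aschbacher.Orth.Frame

/-!
Decompositions over small fields, and monomial groups as subfield groups.
-/

set_option autoImplicit false
set_option linter.unusedSectionVars false
set_option linter.style.haveILetI false

namespace Cfsg.Agent.Aschbacher.Orth

open scoped MatrixGroups Matrix
open Module QuadraticMap
open Cfsg.Agent.UnitaryOrthogonal
open Cfsg.Agent.Aschbacher (Inv Irr RationalOn)
open Cfsg.Agent.OrthFix (chi sig Sig SigOn NDOn exists_sig)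

variable {n : ℕ} {F : Type*} [Field F] [Fintype F] {Q : QuadraticForm F (Fin n → F)}

/-- A rational basis gives a subfield structure. -/
theorem le_subfield_of_rational {H : Subgroup (GL (Fin n) F)} {F₁ : Subfield F}
    (b : Basis (Fin n) F (Fin n → F)) {ζ : F} (hb : ∀ i, ζ * Q (b i) ∈ F₁)
    (hbp : ∀ i j, ζ * polar Q (b i) (b j) ∈ F₁) (hrat : ∀ g ∈ H, RationalOn F₁ b (g : Matrix (Fin n) (Fin n) F)) :
    ∃ P : GL (Fin n) F, Geo.IsQuadFormRationalStructure (fun v => ζ * Q v) F₁ P ∧
      H ≤ Geo.subfieldSubgroup F₁ P := by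
  classical
  refine ⟨(Aschbacher.coordGL b)⁻¹, fun u hu => ?_,
    fun g hg => Aschbacher.mem_subfieldSubgroup one_ne_zero ?_⟩
  · have hx : (((Aschbacher.coordGL b)⁻¹ : GL (Fin n) F) : Matrix (Fin n) (Fin n) F) *ᵥ u = ∑ i, u i • b i := by
      refine Aschbacher.mulVec_gl_inj (Aschbacher.coordGL b) ?_
      show _ *ᵥ _ = _ *ᵥ _
      rw [Aschbacher.mulVec_inv_mulVec, Aschbacher.coordGL_mulVec, ← b.equivFun_symm_apply, LinearEquiv.apply_symm_apply]
    show ζ * Q _ ∈ F₁
    rw [hx]
    suffices h : ∀ s : Finset (Fin n), ζ * Q (∑ i ∈ s, u i • b i) ∈ F₁ from h Finset.univ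
    intro s
    induction s using Finset.induction with
    | empty => simp
    | insert a s ha ih =>
      rw [Finset.sum_insert ha, form_add, form_smul, mul_add, mul_add]
      refine add_mem (add_mem ?_ ih) ?_
      · rw [mul_left_comm]
        exact mul_mem (mul_mem (hu a) (hu a)) (hb a)
      · rw [← polarBilin_apply_apply, map_sum, Finset.mul_sum]
        refine sum_mem fun i _ => ?_
        rw [polarBilin_apply_apply, polar_smul_left, polar_smul_right, smul_eq_mul, smul_eq_mul,
          show ζ * (u a * (u i * polar Q (b a) (b i))) = u a * (u i * (ζ * polar Q (b a) (b i))) by ring]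
        exact mul_mem (hu a) (mul_mem (hu i) (hbp a i))
  · rw [one_smul, inv_inv]
    exact Aschbacher.rational_of_rationalOn (hrat g hg)

/-- A group permuting orthogonal lines of a common value is defined over every subfield. -/
theorem lines_subfield {H : Subgroup (GL (Fin n) F)} (hH : H ≤ isometryGroup F ⇑Q) {t : ℕ}
    {D : Fin t → Submodule F (Fin n → F)} (hD : Geo.IsOrthogonalMDecomposition ⇑Q 1 D)
    (hle : H ≤ Geo.decompositionStabilizer D) (F₁ : Subfield F) :
    ∃ (P : GL (Fin n) F) (ζ : F), ζ ≠ 0 ∧ Geo.IsQuadFormRationalStructure (fun v => ζ * Q v) F₁ P ∧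
      H ≤ Geo.subfieldSubgroup F₁ P := by
  classical
  have h2 : (2 : F) ≠ 0 := two_ne_zero_of_odd_piece (hD.decomp.nondegenerate ⟨0, by
    have := hD.decomp.decomp.two_le; omega⟩) (by rw [hD.decomp.decomp.finrank_eq]; decide)
  let i₀ : Fin t := ⟨0, by have := hD.decomp.decomp.two_le; omega⟩
  obtain ⟨v₀, hv₀, hv₀0⟩ := (Submodule.ne_bot_iff _).mp
    (ne_bot_of_finrank (W := D i₀) (by rw [hD.decomp.decomp.finrank_eq]; norm_num))
  choose e he using fun j => hD.isometric i₀ j
  let v : Fin t → (Fin n → F) := fun j => (e j ⟨v₀, hv₀⟩ : Fin n → F)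
  have hvD : ∀ j, v j ∈ D j := fun j => (e j _).2
  have hQv : ∀ j, Q (v j) = Q v₀ := fun j => he j ⟨v₀, hv₀⟩
  have hv0 : ∀ j, v j ≠ 0 := fun j h => hv₀0 (by
    have h1 : e j ⟨v₀, hv₀⟩ = 0 := Subtype.ext h
    exact congrArg Subtype.val ((e j).map_eq_zero_iff.mp h1))
  have hspan : ∀ j, ∀ x ∈ D j, ∃ a : F, x = a • v j := fun j x hx => by
    obtain ⟨a, ha⟩ := exists_smul_eq_of_finrank_eq_one (hD.decomp.decomp.finrank_eq j)
      (x := ⟨v j, hvD j⟩) (fun h => hv0 j (congrArg Subtype.val h)) ⟨x, hx⟩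
    exact ⟨a, (congrArg Subtype.val ha).symm⟩
  have ha0 : Q v₀ ≠ 0 := by
    intro h0
    obtain ⟨x, hx, hxv⟩ := (hD.decomp.nondegenerate i₀ (v i₀) (hvD i₀) (hv0 i₀)).2
    obtain ⟨s, rfl⟩ := hspan i₀ x hx
    refine hxv ?_
    rw [polar_smul_right, polar_self, hQv, h0, smul_zero, smul_zero]
  have hli : LinearIndependent F v := hD.decomp.decomp.indep.linearIndependent D hvD hv0
  have htn : t = n := by
    have := dec_card hD.decomp.decomp
    rwa [Fintype.card_fin, mul_one] at this
  subst htn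
  haveI : Nonempty (Fin t) := ⟨i₀⟩
  let b : Basis (Fin t) F (Fin t → F) :=
    basisOfLinearIndependentOfCardEqFinrank hli (by rw [Fintype.card_fin, Module.finrank_pi, Fintype.card_fin])
  have hb : ∀ j, b j = v j := fun j => by simp [b]
  refine (le_subfield_of_rational (H := H) (F₁ := F₁) b (ζ := (Q v₀)⁻¹) (fun j => ?_) (fun i j => ?_)
    fun g hg k i => ?_).elim fun P hP => ⟨P, (Q v₀)⁻¹, inv_ne_zero ha0, hP⟩
  · rw [hb, hQv, inv_mul_cancel₀ ha0]; exact one_mem _
  · rw [hb, hb]
    rcases eq_or_ne i j with rfl | hij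
    · rw [polar_self, hQv, nsmul_eq_mul, Nat.cast_ofNat, mul_left_comm, inv_mul_cancel₀ ha0, mul_one,
        ← one_add_one_eq_two]
      exact add_mem (one_mem _) (one_mem _)
    · rw [hD.decomp.orthogonal i j hij _ (hvD i) _ (hvD j), mul_zero]
      exact zero_mem _
  · obtain ⟨σ, hσ⟩ := hle hg
    obtain ⟨s, hs⟩ := hspan (σ k) ((g : Matrix (Fin t) (Fin t) F) *ᵥ v k)
      (hσ k ▸ ⟨v k, hvD k, Matrix.toLin'_apply _ _⟩)
    have hs2 : s * s = 1 := by
      have h1 := iso_map (hH hg) (v k)
      rw [hs, form_smul, hQv, hQv] at h1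
      exact mul_right_cancel₀ ha0 (h1.trans (one_mul _).symm)
    rw [hb, hs, ← hb, map_smul, Pi.smul_apply, smul_eq_mul, Module.Basis.equivFun_self]
    rcases mul_self_eq_one_iff.mp hs2 with rfl | rfl <;> split_ifs <;> simp [one_mem, zero_mem, neg_mem]

/-- A hyperbolic basis of a plane of plus type. -/
theorem plus_plane {W : Submodule F (Fin n → F)} (hd : finrank F W = 2)
    (hW : Geo.IsNondegenerateOn (polar ⇑Q) W) (hp : Geo.IsPlusTypeOn ⇑Q W) :
    ∃ u w, u ∈ W ∧ w ∈ W ∧ Q u = 0 ∧ Q w = 0 ∧ polar Q u w = 1 ∧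
      (∀ a b : F, Q (a • u + b • w) = a * b) ∧ ∀ x ∈ W, ∃ a b : F, x = a • u + b • w := by
  classical
  obtain ⟨L, hLW, hLs, hL⟩ := hp
  obtain ⟨u, huL, hu0⟩ := L.ne_bot_iff.mp fun e => by rw [e, finrank_bot] at hL; omega
  have hu := hLW huL
  have huQ := hLs u huL
  obtain ⟨c, hc, hne⟩ := (hW u hu hu0).2
  obtain ⟨c₁, hc₁W, hc₁⟩ : ∃ c₁ ∈ W, polar Q u c₁ = 1 :=
    ⟨(polar Q u c)⁻¹ • c, W.smul_mem _ hc, by rw [polar_smul_right, smul_eq_mul, inv_mul_cancel₀ hne]⟩
  have huu : polar Q u u = 0 := by rw [polar_self, huQ, smul_zero]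
  set w := c₁ + (-Q c₁) • u with hwdef
  have hwQ : Q w = 0 := by
    rw [hwdef, form_add, form_smul, huQ, polar_smul_right, polar_comm Q c₁ u, hc₁, smul_eq_mul]
    ring
  have huw : polar Q u w = 1 := by
    rw [hwdef, polar_add_right, polar_smul_right, huu, hc₁, smul_zero, add_zero]
  have hw : w ∈ W := add_mem hc₁W (W.smul_mem _ hu)
  have hli : LinearIndependent F ![u, w] := by
    rw [LinearIndependent.pair_iff' hu0]
    intro a ha
    rw [← ha, polar_smul_right, huu, smul_zero] at huw
    exact zero_ne_one huw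
  have hspan : W = Submodule.span F (Set.range ![u, w]) := by
    refine (Submodule.eq_of_le_of_finrank_le (Submodule.span_le.mpr ?_) ?_).symm
    · rintro _ ⟨i, rfl⟩
      fin_cases i
      · exact hu
      · exact hw
    · rw [hd, finrank_span_eq_card hli, Fintype.card_fin]
  refine ⟨u, w, hu, hw, huQ, hwQ, huw, fun a b => ?_, fun x hx => ?_⟩
  · rw [form_add, form_smul, form_smul, huQ, hwQ, polar_smul_left, polar_smul_right, huw, smul_eq_mul, smul_eq_mul]
    ring
  · rw [hspan] at hx
    obtain ⟨cf, hcf⟩ := (Submodule.mem_span_range_iff_exists_fun F).mp hx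
    exact ⟨cf 0, cf 1, by rw [← hcf, Fin.sum_univ_two]; rfl⟩

/-- A plane of minus type has no singular point. -/
theorem minus_plane_anisotropic {W : Submodule F (Fin n → F)} (hd : finrank F W = 2)
    (hm : ¬ Geo.IsPlusTypeOn ⇑Q W) {x : Fin n → F} (hx : x ∈ W) (h0 : Q x = 0) : x = 0 := by
  by_contra hx0
  refine hm ⟨Submodule.span F {x}, (Submodule.span_singleton_le_iff_mem _ _).mpr hx, fun y hy => ?_, ?_⟩
  · obtain ⟨c, rfl⟩ := Submodule.mem_span_singleton.mp hy
    rw [form_smul, h0, mul_zero]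
  · rw [finrank_span_singleton hx0, hd]

/-- Over at most three elements a decomposition into planes of plus type fixes the span of their points of value one. -/
theorem planes_plus_false {H : Subgroup (GL (Fin n) F)} (hH : H ≤ isometryGroup F ⇑Q) (hirr : Irr H) {t : ℕ}
    {D : Fin t → Submodule F (Fin n → F)} (hD : Geo.IsOrthogonalMDecomposition ⇑Q 2 D)
    (hp : ∀ i, Geo.IsPlusTypeOn ⇑Q (D i)) (hle : H ≤ Geo.decompositionStabilizer D) (hq : Fintype.card F ≤ 3) :
    False := by
  classical
  choose u w hu hw hQu hQw huw hval hspan using fun i =>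
    plus_plane (hD.decomp.decomp.finrank_eq i) (hD.decomp.nondegenerate i) (hp i)
  have hone : ∀ a b : F, a * b = 1 → b = a := by
    intro a b hab
    have ha : a ≠ 0 := fun e => by rw [e, zero_mul] at hab; exact zero_ne_one hab
    have hpow := FiniteField.pow_card_sub_one_eq_one a ha
    have h1 := Fintype.one_lt_card (α := F)
    have hsq : a * a = 1 := by
      obtain h | h : Fintype.card F = 2 ∨ Fintype.card F = 3 := by omega
      · rw [h, pow_one] at hpow; rw [hpow, mul_one]
      · rw [h, pow_two] at hpow; exact hpow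
    exact mul_left_cancel₀ ha (hab.trans hsq.symm)
  let p : Fin t → (Fin n → F) := fun i => u i + w i
  have hQp : ∀ i, Q (p i) = 1 := fun i => by
    have := hval i 1 1
    rwa [one_smul, one_smul, one_mul] at this
  let S : Submodule F (Fin n → F) := Submodule.span F (Set.range p)
  have hS : Inv H S := by
    intro g hg x hx
    have hsub : S ≤ S.comap (Matrix.toLin' (g : Matrix (Fin n) (Fin n) F)) := by
      refine Submodule.span_le.mpr ?_
      rintro _ ⟨i, rfl⟩
      rw [SetLike.mem_coe, Submodule.mem_comap, Matrix.toLin'_apply]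
      obtain ⟨σ, hσ⟩ := hle hg
      obtain ⟨a, b, hab⟩ := hspan (σ i) _
        (hσ i ▸ ⟨p i, add_mem (hu i) (hw i), Matrix.toLin'_apply _ _⟩ :
          (g : Matrix (Fin n) (Fin n) F) *ᵥ p i ∈ D (σ i))
      have h1 := iso_map (hH hg) (p i)
      rw [hab, hval, hQp] at h1
      rw [hab, hone a b h1, ← smul_add]
      exact Submodule.smul_mem _ _ (Submodule.subset_span ⟨σ i, rfl⟩)
    exact hsub hx
  have hcard : finrank F S ≤ t := (finrank_range_le_card p).trans (by rw [Fintype.card_fin])
  have htn : t * 2 = n := by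
    have := dec_card hD.decomp.decomp
    rwa [Fintype.card_fin] at this
  have ht := hD.decomp.decomp.two_le
  rcases hirr S hS with h | h
  · have hz : p ⟨0, by omega⟩ = 0 :=
      (Submodule.eq_bot_iff S).mp h _ (Submodule.subset_span ⟨_, rfl⟩)
    have := hQp ⟨0, by omega⟩
    rw [hz, QuadraticMap.map_zero] at this
    exact zero_ne_one this
  · rw [h, finrank_top, Module.finrank_pi, Fintype.card_fin] at hcard
    omega

/-- Over five elements planes of plus type refine to lines. -/
theorem planes_five {t : ℕ} {D : Fin t → Submodule F (Fin n → F)} (hD : Geo.IsOrthogonalMDecomposition ⇑Q 2 D)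
    (hp : ∀ i, Geo.IsPlusTypeOn ⇑Q (D i)) (h5 : Fintype.card F = 5) :
    ∃ D' : Fin (t * 2) → Submodule F (Fin n → F), Geo.IsOrthogonalMDecomposition ⇑Q 1 D' ∧
      Geo.decompositionStabilizer D ⊓ isometryGroup F ⇑Q ≤ Geo.decompositionStabilizer D' := by
  classical
  have h2 : (2 : F) ≠ 0 := Aschbacher.two_ne_zero_of_odd (by rw [h5]; decide)
  have h50 : (5 : F) = 0 := by
    have := Nat.cast_card_eq_zero F
    rw [h5] at this
    exact_mod_cast this
  refine lines_of_frames h2 hD.decomp (a := 1) one_ne_zero fun i => ?_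
  obtain ⟨u, w, hu, hw, hQu, hQw, huw, hval, hspan⟩ :=
    plus_plane (hD.decomp.decomp.finrank_eq i) (hD.decomp.nondegenerate i) (hp i)
  refine ⟨![u + w, (2 : F) • u + (-2 : F) • w], fun l => ?_, fun l => ?_, fun l m hlm => ?_, fun x hx hx1 => ?_⟩
  · fin_cases l
    · exact add_mem hu hw
    · exact add_mem (Submodule.smul_mem _ _ hu) (Submodule.smul_mem _ _ hw)
  · fin_cases l
    · show Q (u + w) = 1
      have := hval 1 1
      rwa [one_smul, one_smul, one_mul] at this
    · show Q ((2 : F) • u + (-2 : F) • w) = 1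
      rw [hval]
      linear_combination -h50
  · have key : polar Q (u + w) ((2 : F) • u + (-2 : F) • w) = 0 := by
      simp only [polar_add_left, polar_add_right, polar_smul_right, polar_self, hQu, hQw, huw, polar_comm Q w u,
        smul_eq_mul]
      ring
    fin_cases l <;> fin_cases m
    · exact absurd rfl hlm
    · exact key
    · rw [polar_comm]; exact key
    · exact absurd rfl hlm
  · obtain ⟨a, b, rfl⟩ := hspan x hx
    rw [hval] at hx1
    have ha : a ≠ 0 := fun e => by rw [e, zero_mul] at hx1; exact zero_ne_one hx1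
    have hpow := FiniteField.pow_card_sub_one_eq_one a ha
    rw [h5] at hpow
    rcases mul_eq_zero.mp (show (a * a - 1) * (a * a + 1) = 0 by linear_combination hpow) with h | h
    · refine ⟨0, a, ?_⟩
      show _ = a • (u + w)
      rw [smul_add, show b = a from mul_left_cancel₀ ha (hx1.trans (sub_eq_zero.mp h).symm)]
    · refine ⟨1, a * 2⁻¹, ?_⟩
      show _ = (a * 2⁻¹) • ((2 : F) • u + (-2 : F) • w)
      rw [smul_add, smul_smul, smul_smul,
        show b = -a from mul_left_cancel₀ ha (hx1.trans (by linear_combination h)), mul_neg,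
        mul_assoc, inv_mul_cancel₀ h2, mul_one]

/-- Over three elements planes of minus type refine to lines. -/
theorem planes_three {t : ℕ} {D : Fin t → Submodule F (Fin n → F)} (hD : Geo.IsOrthogonalMDecomposition ⇑Q 2 D)
    (hm : ∀ i, ¬ Geo.IsPlusTypeOn ⇑Q (D i)) (h3 : Fintype.card F = 3) :
    ∃ D' : Fin (t * 2) → Submodule F (Fin n → F), Geo.IsOrthogonalMDecomposition ⇑Q 1 D' ∧
      Geo.decompositionStabilizer D ⊓ isometryGroup F ⇑Q ≤ Geo.decompositionStabilizer D' := by
  classical
  have h2 : (2 : F) ≠ 0 := Aschbacher.two_ne_zero_of_odd (by rw [h3]; decide)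
  have h30 : (3 : F) = 0 := by
    have := Nat.cast_card_eq_zero F
    rw [h3] at this
    exact_mod_cast this
  have hsq : ∀ x : F, x ≠ 0 → x * x = 1 := fun x hx => by
    have := FiniteField.pow_card_sub_one_eq_one x hx
    rwa [h3, show 3 - 1 = 2 from rfl, pow_two] at this
  refine lines_of_frames h2 hD.decomp (a := 1) one_ne_zero fun i => ?_
  have hd := hD.decomp.decomp.finrank_eq i
  have hne : ∀ x ∈ D i, x ≠ 0 → Q x ≠ 0 := fun x hx h0 h => h0 (minus_plane_anisotropic hd (hm i) hx h)
  -- an orthogonal pair of a common value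
  obtain ⟨v, w, hv, hw, hv0, hw0, hvw⟩ : ∃ v w, v ∈ D i ∧ w ∈ D i ∧ v ≠ 0 ∧ w ≠ 0 ∧ polar Q v w = 0 := by
    obtain ⟨v, hv, hv0⟩ := (Submodule.ne_bot_iff _).mp (ne_bot_of_finrank (W := D i) (by rw [hd]; norm_num))
    obtain ⟨y, hy, hyv⟩ : ∃ y ∈ D i, y ∉ Submodule.span F {v} := by
      by_contra hcon
      push Not at hcon
      have := Submodule.finrank_mono (show D i ≤ Submodule.span F {v} from hcon)
      rw [finrank_span_singleton hv0, hd] at this
      omega
    have hvv : polar Q v v ≠ 0 := by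
      rw [polar_self, nsmul_eq_mul, Nat.cast_ofNat]; exact mul_ne_zero h2 (hne v hv hv0)
    refine ⟨v, y + (-(polar Q v y / polar Q v v)) • v, hv, add_mem hy (Submodule.smul_mem _ _ hv), hv0,
      fun e => hyv ?_, ?_⟩
    · rw [eq_neg_of_add_eq_zero_left e]
      exact neg_mem (Submodule.smul_mem _ _ (Submodule.mem_span_singleton_self v))
    · rw [polar_add_right, polar_smul_right, smul_eq_mul, neg_mul, div_mul_cancel₀ _ hvv, add_neg_cancel]
  have hli : ∀ a b : F, a • v + b • w = 0 → a = 0 ∧ b = 0 := fun a b h => by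
    have h1 := congrArg (polar Q v) h
    have h2' := congrArg (polar Q w) h
    rw [polar_add_right, polar_smul_right, polar_smul_right, hvw, smul_zero, add_zero, polar_zero_right,
      polar_self, nsmul_eq_mul, Nat.cast_ofNat, smul_eq_mul] at h1
    rw [polar_add_right, polar_smul_right, polar_smul_right, polar_comm Q w v, hvw, smul_zero, zero_add,
      polar_zero_right, polar_self, nsmul_eq_mul, Nat.cast_ofNat, smul_eq_mul] at h2'
    exact ⟨(mul_eq_zero.mp h1).resolve_right (mul_ne_zero h2 (hne v hv hv0)),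
      (mul_eq_zero.mp h2').resolve_right (mul_ne_zero h2 (hne w hw hw0))⟩
  have heq : Q w = Q v := by
    by_contra h
    have h1 : v + w ≠ 0 := fun e => one_ne_zero (hli 1 1 (by rwa [one_smul, one_smul])).1
    refine hne _ (add_mem hv hw) h1 ?_
    rw [form_add, hvw, add_zero]
    have hvn := hsq _ (hne v hv hv0)
    have hwn := hsq _ (hne w hw hw0)
    rcases mul_eq_zero.mp (show (Q w - Q v) * (Q w + Q v) = 0 by linear_combination hwn - hvn) with h' | h'
    · exact absurd (sub_eq_zero.mp h') h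
    · linear_combination h'
  -- value one
  obtain ⟨x, y, hx, hy, hQx, hQy, hxy, hspan⟩ : ∃ x y, x ∈ D i ∧ y ∈ D i ∧ Q x = 1 ∧ Q y = 1 ∧
      polar Q x y = 0 ∧ ∀ z ∈ D i, ∃ a b : F, z = a • x + b • y := by
    have hspan0 : ∀ z ∈ D i, ∃ a b : F, z = a • v + b • w := by
      have hl : LinearIndependent F ![v, w] := by
        rw [LinearIndependent.pair_iff]
        exact hli
      have hs : Submodule.span F (Set.range ![v, w]) = D i := by
        refine Submodule.eq_of_le_of_finrank_le (Submodule.span_le.mpr ?_) ?_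
        · rintro _ ⟨j, rfl⟩
          fin_cases j
          · exact hv
          · exact hw
        · rw [hd, finrank_span_eq_card hl, Fintype.card_fin]
      intro z hz
      rw [← hs] at hz
      obtain ⟨cf, hcf⟩ := (Submodule.mem_span_range_iff_exists_fun F).mp hz
      exact ⟨cf 0, cf 1, by rw [← hcf, Fin.sum_univ_two]; rfl⟩
    rcases mul_self_eq_one_iff.mp (hsq _ (hne v hv hv0)) with h | h
    · exact ⟨v, w, hv, hw, h, heq.trans h, hvw, hspan0⟩
    · refine ⟨v + w, v + (-1 : F) • w, add_mem hv hw, add_mem hv (Submodule.smul_mem _ _ hw), ?_, ?_, ?_,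
        fun z hz => ?_⟩
      · rw [form_add, hvw, heq, h]; linear_combination -h30
      · rw [form_add, form_smul, polar_smul_right, hvw, smul_zero, heq, h]; linear_combination -h30
      · simp only [polar_add_left, polar_add_right, polar_smul_right, polar_self, hvw, polar_comm Q w v, heq,
          smul_eq_mul, nsmul_eq_mul, Nat.cast_ofNat]
        ring
      · obtain ⟨a, b, rfl⟩ := hspan0 z hz
        refine ⟨(a + b) * 2⁻¹, (a - b) * 2⁻¹, ?_⟩
        match_scalars <;> field_simp <;> ring
  refine ⟨![x, y], fun l => ?_, fun l => ?_, fun l m hlm => ?_, fun z hz hz1 => ?_⟩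
  · fin_cases l
    · exact hx
    · exact hy
  · fin_cases l
    · exact hQx
    · exact hQy
  · fin_cases l <;> fin_cases m
    · exact absurd rfl hlm
    · exact hxy
    · rw [polar_comm]; exact hxy
    · exact absurd rfl hlm
  · obtain ⟨a, b, rfl⟩ := hspan z hz
    rw [form_add, form_smul, form_smul, hQx, hQy, polar_smul_left, polar_smul_right, hxy, smul_zero, smul_zero,
      mul_one, mul_one, add_zero] at hz1
    rcases eq_or_ne a 0 with rfl | ha
    · exact ⟨1, b, by simp⟩
    rcases eq_or_ne b 0 with rfl | hb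
    · exact ⟨0, a, by simp⟩
    rw [hsq a ha, hsq b hb] at hz1
    exact absurd (show (1 : F) = 0 by linear_combination hz1) one_ne_zero

/-- Over four elements planes of plus type have a structure over two elements. -/
theorem planes_four {H : Subgroup (GL (Fin n) F)} (hH : H ≤ isometryGroup F ⇑Q) {t : ℕ}
    {D : Fin t → Submodule F (Fin n → F)} (hD : Geo.IsOrthogonalMDecomposition ⇑Q 2 D)
    (hp : ∀ i, Geo.IsPlusTypeOn ⇑Q (D i)) (hle : H ≤ Geo.decompositionStabilizer D)
    (h4 : Fintype.card F = 4) :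
    ∃ (F₁ : Subfield F) (P : GL (Fin n) F), Nat.card F₁ = 2 ∧
      Geo.IsQuadFormRationalStructure (fun v => 1 * Q v) F₁ P ∧ H ≤ Geo.subfieldSubgroup F₁ P := by
  classical
  obtain ⟨F₁, hF₁, -⟩ := Aschbacher.exists_subfield_card (F := F) (q₁ := 2) (r := 2) two_pos (by rw [h4]; norm_num)
  have h2 : (2 : F) = 0 := Aschbacher.two_eq_zero_of_not_odd (by rw [h4]; decide)
  obtain ⟨ω, hω0, hω1⟩ : ∃ ω : F, ω ≠ 0 ∧ ω ≠ 1 := by
    by_contra hcon
    push Not at hcon
    have : Fintype.card F ≤ 2 := by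
      refine le_trans (Finset.card_le_card (t := ({0, 1} : Finset F)) fun x _ => ?_) Finset.card_le_two
      by_cases hx : x = 0
      · simp [hx]
      · simp [hcon x hx]
    omega
  have hpow : ∀ a : F, a ≠ 0 → a * a * a = 1 := fun a ha => by
    have := FiniteField.pow_card_sub_one_eq_one a ha
    rw [h4] at this
    rw [← this]; ring
  have hω : ω * ω + ω + 1 = 0 := by
    rcases mul_eq_zero.mp (show (ω - 1) * (ω * ω + ω + 1) = 0 by linear_combination hpow ω hω0) with h | h
    · exact absurd (sub_eq_zero.mp h) hω1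
    · exact h
  choose u w hu hw hQu hQw huw hval hspan using fun i =>
    plus_plane (hD.decomp.decomp.finrank_eq i) (hD.decomp.nondegenerate i) (hp i)
  let x : Fin t × Fin 2 → (Fin n → F) := fun p =>
    if p.2 = 0 then u p.1 + w p.1 else ω • u p.1 + (ω * ω) • w p.1
  have hxD : ∀ p, x p ∈ D p.1 := fun p => by
    simp only [x]
    split_ifs
    · exact add_mem (hu _) (hw _)
    · exact add_mem (Submodule.smul_mem _ _ (hu _)) (Submodule.smul_mem _ _ (hw _))
  have hQx : ∀ p, Q (x p) = 1 := fun p => by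
    simp only [x]
    split_ifs
    · have := hval p.1 1 1
      rwa [one_smul, one_smul, one_mul] at this
    · rw [hval, ← mul_assoc]
      exact hpow ω hω0
  have hpol : ∀ p p', polar Q (x p) (x p') = if p.1 = p'.1 ∧ p.2 ≠ p'.2 then 1 else 0 := by
    intro p p'
    by_cases h1 : p.1 = p'.1
    swap
    · rw [if_neg fun h => h1 h.1, hD.decomp.orthogonal _ _ h1 _ (hxD p) _ (hxD p')]
    obtain ⟨i, l⟩ := p
    obtain ⟨j, m⟩ := p'
    simp only at h1
    subst h1
    fin_cases l <;> fin_cases m <;>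
      simp [x, polar_add_left, polar_add_right, polar_smul_left, polar_smul_right, polar_self, hQu, hQw, huw,
        polar_comm Q (w i) (u i), h2] <;>
      first
        | linear_combination h2 | linear_combination hω - h2 | linear_combination hω | linear_combination (ω * ω * ω) * h2
        | linear_combination hω - (1 : F) * h2
  have hli : LinearIndependent F x := by
    rw [Fintype.linearIndependent_iff]
    intro g hg p
    have h := congrArg (fun y => polarBilin Q y (x (p.1, p.2 + 1))) hg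
    simp only [map_sum, map_smul, LinearMap.coe_sum, Finset.sum_apply, LinearMap.smul_apply,
      polarBilin_apply_apply, polar_zero_left, smul_eq_mul] at h
    rw [Finset.sum_eq_single p] at h
    · have hne2 : ∀ l : Fin 2, l ≠ l + 1 := by decide
      rw [hpol, if_pos ⟨rfl, hne2 p.2⟩, mul_one] at h
      exact h
    · intro p' _ hne
      rw [hpol, if_neg, mul_zero]
      rintro ⟨h1, h2'⟩
      refine hne (Prod.ext h1 ?_)
      obtain ⟨i, l⟩ := p
      obtain ⟨j, m⟩ := p'
      simp only at h2' ⊢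
      fin_cases l <;> fin_cases m <;> first | rfl | exact absurd rfl h2'
    · simp
  have htn : t * 2 = n := by
    have := dec_card hD.decomp.decomp
    rwa [Fintype.card_fin] at this
  let ef : Fin n ≃ Fin t × Fin 2 := (finCongr htn.symm).trans finProdFinEquiv.symm
  have hn0 : 0 < n := by have := hD.decomp.decomp.two_le; omega
  haveI : Nonempty (Fin n) := ⟨⟨0, hn0⟩⟩
  let b : Basis (Fin n) F (Fin n → F) := basisOfLinearIndependentOfCardEqFinrank (hli.comp ef ef.injective)
    (by rw [Fintype.card_fin, Module.finrank_pi, Fintype.card_fin])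
  have hb : ∀ k, b k = x (ef k) := fun k => by simp [b]
  obtain ⟨P, hP⟩ := le_subfield_of_rational (H := H) (F₁ := F₁) b (ζ := 1)
    (fun k => by rw [hb, hQx, mul_one]; exact one_mem _)
    (fun k k' => by rw [hb, hb, hpol, one_mul]; split_ifs <;> simp [one_mem, zero_mem])
    fun g hg k i => by
      obtain ⟨σ, hσ⟩ := hle hg
      obtain ⟨a, c, hac⟩ := hspan (σ (ef k).1) _
        (hσ _ ▸ ⟨x (ef k), hxD _, Matrix.toLin'_apply _ _⟩ :
          (g : Matrix (Fin n) (Fin n) F) *ᵥ x (ef k) ∈ D (σ (ef k).1))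
      have h1 := iso_map (hH hg) (x (ef k))
      rw [hac, hval, hQx] at h1
      have ha : a ≠ 0 := fun e => by rw [e, zero_mul] at h1; exact zero_ne_one h1
      have hc : c = a * a := mul_left_cancel₀ ha (h1.trans (by rw [← mul_assoc, hpow a ha]))
      set j := σ (ef k).1
      have hx0 : x (j, 0) = u j + w j := rfl
      have hx1 : x (j, 1) = ω • u j + (ω * ω) • w j := rfl
      have hco : ∃ c0 c1 : F, (c0 = 0 ∨ c0 = 1) ∧ (c1 = 0 ∨ c1 = 1) ∧
          (g : Matrix (Fin n) (Fin n) F) *ᵥ x (ef k) = c0 • x (j, 0) + c1 • x (j, 1) := by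
        rcases mul_eq_zero.mp (show (a - 1) * ((a - ω) * (a - ω * ω)) = 0 by
          linear_combination hpow a ha - hpow ω hω0 - (a * a) * hω + (a * ω) * hω) with h | h
        · refine ⟨1, 0, Or.inr rfl, Or.inl rfl, ?_⟩
          rw [hac, hc, sub_eq_zero.mp h, hx0]
          simp
        · rcases mul_eq_zero.mp h with h' | h'
          · refine ⟨0, 1, Or.inl rfl, Or.inr rfl, ?_⟩
            rw [hac, hc, sub_eq_zero.mp h', hx1, zero_smul, zero_add, one_smul]
          · refine ⟨1, 1, Or.inr rfl, Or.inr rfl, ?_⟩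
            rw [hac, hc, sub_eq_zero.mp h', hx0, hx1, one_smul, one_smul,
              show ω * ω * (ω * ω) = 1 + ω * ω by linear_combination ω * hpow ω hω0 + hω - (1 + ω * ω) * h2,
              show ω * ω = 1 + ω by linear_combination hω - (1 + ω) * h2]
            simp only [add_smul, one_smul]
            abel
      obtain ⟨c0, c1, hc0, hc1, hg'⟩ := hco
      rw [hb, hg', show x (j, 0) = b (ef.symm (j, 0)) by rw [hb, Equiv.apply_symm_apply],
        show x (j, 1) = b (ef.symm (j, 1)) by rw [hb, Equiv.apply_symm_apply], map_add, map_smul, map_smul,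
        Pi.add_apply, Pi.smul_apply, Pi.smul_apply, Module.Basis.equivFun_self, Module.Basis.equivFun_self]
      refine add_mem ?_ ?_
      · rcases hc0 with rfl | rfl <;> split_ifs <;> simp [one_mem, zero_mem]
      · rcases hc1 with rfl | rfl <;> split_ifs <;> simp [one_mem, zero_mem]
  exact ⟨F₁, P, hF₁, hP⟩

/-- Over two elements four-dimensional spaces of plus type refine to planes of minus type. -/
theorem quads_two {t : ℕ} {D : Fin t → Submodule F (Fin n → F)} (hD : Geo.IsOrthogonalMDecomposition ⇑Q 4 D)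
    (hp : ∀ i, Geo.IsPlusTypeOn ⇑Q (D i)) (hq : Fintype.card F = 2) :
    ∃ D' : Fin (t * 2) → Submodule F (Fin n → F), Geo.IsOrthogonalMDecomposition ⇑Q 2 D' ∧
      (∀ p, ¬ Geo.IsPlusTypeOn ⇑Q (D' p)) ∧
      Geo.decompositionStabilizer D ⊓ isometryGroup F ⇑Q ≤ Geo.decompositionStabilizer D' := by
  classical
  have h01 : ∀ c : F, c ≠ 0 → c = 1 := fun c hc => by
    have := FiniteField.pow_card_sub_one_eq_one c hc
    rwa [hq, pow_one] at this
  have h2 : (2 : F) = 0 := Aschbacher.two_eq_zero_of_not_odd (by rw [hq]; decide)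
  have hpiece : ∀ i, ∃ W W' : Submodule F (Fin n → F), W ⊔ W' = D i ∧ Disjoint W W' ∧
      (∀ U ∈ ({W, W'} : Set (Submodule F (Fin n → F))), finrank F U = 2 ∧ NDOn Q U ∧ SigOn Q U (-1)) ∧
      (∀ a ∈ W, ∀ b ∈ W', polar Q a b = 0) := by
    intro i
    have hd := hD.decomp.decomp.finrank_eq i
    have hn := ndOn_of _ (hD.decomp.nondegenerate i)
    have hs : SigOn Q (D i) 1 := (plus_iff hn (by rw [hd]; exact ⟨2, rfl⟩)).mp (hp i)
    obtain ⟨W, hWD, hWd, hWn, hWs⟩ := OrthFix.exists_sub (m := 2) (ε := -1) hn hs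
      ⟨by rw [hd]; norm_num, Or.inr rfl, fun h => absurd h (by norm_num), fun h => absurd h (by rw [hd]; norm_num),
        fun _ => even_two⟩
    obtain ⟨hn', hd', hs'⟩ := hn.inf_perp hWn hWD
    refine ⟨W, D i ⊓ OrthFix.perp Q W, (hWn.isCompl_within hWD).2, (hWn.isCompl_within hWD).1, ?_,
      fun a ha b hb => OrthFix.mem_perp.mp hb.2 a ha⟩
    rintro U (rfl | rfl)
    · exact ⟨hWd, hWn, hWs⟩
    · refine ⟨by omega, hn', ?_⟩
      have := hs' _ _ hs hWs
      rwa [hWd, OrthFix.sig_even_left even_two, mul_one, one_mul] at this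
  choose W W' hsup hdis hpc horth using hpiece
  let E : Fin t × Fin 2 → Submodule F (Fin n → F) := fun p => if p.2 = 0 then W p.1 else W' p.1
  have hE : ∀ p, finrank F (E p) = 2 ∧ NDOn Q (E p) ∧ SigOn Q (E p) (-1) := by
    rintro ⟨i, l⟩
    fin_cases l
    · exact hpc i _ (Or.inl rfl)
    · exact hpc i _ (Or.inr rfl)
  have hED : ∀ p, E p ≤ D p.1 := fun p => by
    simp only [E]
    split_ifs
    · exact (le_sup_left).trans (hsup _).le
    · exact (le_sup_right).trans (hsup _).le
  have hEne : ∀ p, E p ≠ ⊥ := fun p => ne_bot_of_finrank (by rw [(hE p).1]; norm_num)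
  have hEgeo : ∀ p, Geo.IsNondegenerateOn (polar ⇑Q) (E p) := fun p =>
    (OrthFix.isNondegenerateOn_iff rfl _).mpr (hE p).2.1
  have hEo : ∀ p p', p ≠ p' → ∀ a ∈ E p, ∀ b ∈ E p', polar Q a b = 0 := by
    rintro ⟨i, l⟩ ⟨j, m⟩ hne a ha b hb
    rcases eq_or_ne i j with rfl | hij
    swap
    · exact hD.decomp.orthogonal i j hij a (hED _ ha) b (hED _ hb)
    fin_cases l <;> fin_cases m
    · exact absurd rfl hne
    · exact horth i a ha b hb
    · rw [polar_comm]; exact horth i b hb a ha
    · exact absurd rfl hne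
  have hminus : ∀ p, ¬ Geo.IsPlusTypeOn ⇑Q (E p) := fun p h =>
    absurd ((hE p).2.2.unique ((plus_iff (hE p).2.1 (by rw [(hE p).1]; exact even_two)).mp h)) (by decide)
  have hone : ∀ p, ∀ a ∈ E p, a ≠ 0 → Q a = 1 := fun p a ha ha0 =>
    h01 _ fun h => ha0 (minus_plane_anisotropic (hE p).1 (hminus p) ha h)
  let D' : Fin (t * 2) → Submodule F (Fin n → F) := fun p => E (finProdFinEquiv.symm p)
  have hind : iSupIndep E := by
    intro p
    refine Submodule.disjoint_def.mpr fun a ha hb => by_contra fun ha0 => ?_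
    obtain ⟨c, hc, hac⟩ := (hEgeo p a ha ha0).2
    refine hac ?_
    have hsub : (⨆ (j) (_ : j ≠ p), E j) ≤ LinearMap.ker ((polarBilin Q).flip c) :=
      iSup₂_le fun j hj y hy => hEo j p hj y hy c hc
    exact hsub hb
  have htop : iSup E = ⊤ := by
    rw [eq_top_iff, ← hD.decomp.decomp.iSup_eq_top]
    refine iSup_le fun i => ?_
    rw [← hsup i]
    exact sup_le (le_iSup_of_le (i, 0) le_rfl) (le_iSup_of_le (i, 1) le_rfl)
  refine ⟨D', ⟨⟨⟨?_, two_pos, fun p => (hE _).1, hind.comp finProdFinEquiv.symm.injective, ?_⟩, fun p => hEgeo _,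
    fun p p' h => hEo _ _ fun e => h (finProdFinEquiv.symm.injective e)⟩,
    fun p p' => isometric_of_sig (hE _).2.1 (hE _).2.1 (hE _).2.2 (hE _).2.2 (by rw [(hE _).1, (hE _).1])⟩,
    fun p => hminus _, fun g hg => ?_⟩
  · have := hD.decomp.decomp.two_le; omega
  · rw [← htop]
    exact finProdFinEquiv.symm.iSup_comp (g := E)
  obtain ⟨σ, hσ⟩ := hg.1
  have hgU : ∀ p, ∃ p', (E p).map (Matrix.toLin' (g : Matrix (Fin n) (Fin n) F)) = E p' := by
    intro p
    set U := (E p).map (Matrix.toLin' (g : Matrix (Fin n) (Fin n) F)) with hU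
    have hUd : finrank F U = 2 :=
      (((Aschbacher.glEquiv g).submoduleMap (E p)).finrank_eq).symm.trans (hE p).1
    have hUD : U ≤ D (σ p.1) := hσ p.1 ▸ Submodule.map_mono (hED p)
    have hin : ∀ y ∈ U, y ∈ W (σ p.1) ∨ y ∈ W' (σ p.1) := by
      intro y hy
      obtain ⟨a, ha, b, hb, rfl⟩ := Submodule.mem_sup.mp (hsup (σ p.1) ▸ hUD hy :
        y ∈ W (σ p.1) ⊔ W' (σ p.1))
      by_cases ha0 : a = 0
      · rw [ha0, zero_add]; exact Or.inr hb
      by_cases hb0 : b = 0
      · rw [hb0, add_zero]; exact Or.inl ha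
      exfalso
      obtain ⟨z, hz, hzy⟩ := hy
      rw [Matrix.toLin'_apply] at hzy
      have hQ0 : Q (a + b) = 0 := by
        rw [form_add, horth _ a ha b hb, hone (σ p.1, 0) a ha ha0, hone (σ p.1, 1) b hb hb0, add_zero,
          one_add_one_eq_two, h2]
      have hz0 : Q z = 0 := by rw [← iso_map hg.2 z, hzy, hQ0]
      have hzz : z = 0 := minus_plane_anisotropic (hE p).1 (hminus p) hz hz0
      rw [hzz, Matrix.mulVec_zero] at hzy
      exact ha0 (Submodule.disjoint_def.mp (hdis _) a ha (by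
        rw [eq_neg_of_add_eq_zero_left hzy.symm]; exact neg_mem hb))
    have hcase : U ≤ W (σ p.1) ∨ U ≤ W' (σ p.1) := by
      by_contra hcon
      push Not at hcon
      obtain ⟨⟨y, hy, hyW⟩, ⟨z, hz, hzW⟩⟩ := And.intro (SetLike.not_le_iff_exists.mp hcon.1)
        (SetLike.not_le_iff_exists.mp hcon.2)
      have hy' := (hin y hy).resolve_left hyW
      have hz' := (hin z hz).resolve_right hzW
      rcases hin _ (add_mem hy hz) with h | h
      · exact hyW (by simpa using sub_mem h hz')
      · exact hzW (by simpa using sub_mem h hy')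
    rcases hcase with h | h
    · exact ⟨(σ p.1, 0), Submodule.eq_of_le_of_finrank_le h (le_of_eq ((hE (σ p.1, 0)).1.trans hUd.symm))⟩
    · exact ⟨(σ p.1, 1), Submodule.eq_of_le_of_finrank_le h (le_of_eq ((hE (σ p.1, 1)).1.trans hUd.symm))⟩
  choose π hπ using hgU
  have hinj : Function.Injective π := by
    intro a b hab
    have h1 : E a = E b := Submodule.map_injective_of_injective
      (fun x y h => Aschbacher.mulVec_gl_inj g (by simpa using h)) ((hπ a).trans (hab ▸ (hπ b).symm))
    by_contra hne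
    exact hEne a ((hind.pairwiseDisjoint hne).eq_bot_of_le h1.le)
  refine ⟨Equiv.ofBijective (fun q => finProdFinEquiv (π (finProdFinEquiv.symm q)))
    (Finite.injective_iff_bijective.mp fun a b h =>
      finProdFinEquiv.symm.injective (hinj (finProdFinEquiv.injective h))), fun q => ?_⟩
  simp only [D', Equiv.ofBijective_apply, Equiv.symm_apply_apply, hπ]

end Cfsg.Agent.Aschbacher.Orth
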