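import Cfsg.Agent.MaxSub.Asch.SymplecticTensor

/-!
Tensor decompositions of a bilinear form: a symmetric factor of dimension two, and non-alternating factors in
characteristic two.
-/

set_option autoImplicit false
set_option linter.unusedSectionVars false
set_option linter.style.haveILetI false

namespace Cfsg.Agent.Aschbacher.Orth

open scoped MatrixGroups Matrix Kronecker
open Module
open Cfsg.Agent.Aschbacher (Inv Irr)
open Cfsg.Agent.MaxSub.Asch (FormData tr tr_apply tr_eq_conj_glReindex kronecker_eq_imp kronecker_left_cancel J2 J2_conj conjHom conjHom_apply smul_one_inj gramForm exists_diag_functional)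

variable {ι : Type} [Fintype ι] [DecidableEq ι] {F : Type*} [Field F] [Fintype F] (Φ : FormData ι F)
variable (hσ : Φ.σ = RingHom.id F) {H : Subgroup (GL ι F)}
variable (hiso : ∀ g ∈ H, (g : Matrix ι ι F)ᵀ * (Φ.gram : Matrix ι ι F) * (g : Matrix ι ι F) = (Φ.gram : Matrix ι ι F))

include hσ hiso

/-- The elements of a tensor product subgroup in coordinates. -/
theorem exists_factors  {d k : ℕ} (hd : 0 < d) (hk : 0 < k)
    {e : ι ≃ Fin d × Fin k} {P : GL ι F} (hle : H ≤ Geo.tensorProductSubgroup d k e P)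
    {G₁ : GL (Fin d) F} {G₂ : GL (Fin k) F}
    (hgram : ((Φ.transport e P).gram : Matrix (Fin d × Fin k) (Fin d × Fin k) F) =
      (G₁ : Matrix (Fin d) (Fin d) F) ⊗ₖ (G₂ : Matrix (Fin k) (Fin k) F)) :
    ∀ g ∈ H, ∃ (a : GL (Fin d) F) (b : GL (Fin k) F) (c : F), c ≠ 0 ∧
      (g : Matrix ι ι F) =
        tr e P ((a : Matrix (Fin d) (Fin d) F) ⊗ₖ (b : Matrix (Fin k) (Fin k) F)) ∧
      (a : Matrix (Fin d) (Fin d) F)ᵀ * (G₁ : Matrix (Fin d) (Fin d) F) * (a : Matrix (Fin d) (Fin d) F) =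
        c • (G₁ : Matrix (Fin d) (Fin d) F) ∧
      (b : Matrix (Fin k) (Fin k) F)ᵀ * (G₂ : Matrix (Fin k) (Fin k) F) * (b : Matrix (Fin k) (Fin k) F) =
        c⁻¹ • (G₂ : Matrix (Fin k) (Fin k) F) := by
  haveI : Nonempty (Fin d) := ⟨⟨0, hd⟩⟩
  haveI : Nonempty (Fin k) := ⟨⟨0, hk⟩⟩
  intro g hg
  obtain ⟨_, ⟨h, ⟨a, b, hab⟩, rfl⟩, hge⟩ := hle hg
  have hgv : (g : Matrix ι ι F) = tr e P (h : Matrix (Fin d × Fin k) (Fin d × Fin k) F) := by
    rw [← hge, ← tr_eq_conj_glReindex]; rfl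
  have h1 := Φ.transport_sim e P hgv (c := 1) (by rw [one_smul, hσ]; exact hiso g hg)
  rw [one_smul, hgram, hab, show Φ.σ = RingHom.id F from hσ,
    show ((a : Matrix (Fin d) (Fin d) F) ⊗ₖ (b : Matrix (Fin k) (Fin k) F)).map (RingHom.id F) =
      (a : Matrix (Fin d) (Fin d) F) ⊗ₖ (b : Matrix (Fin k) (Fin k) F) from Matrix.ext fun _ _ => rfl,
    ← Matrix.kroneckerMap_transpose, ← Matrix.mul_kronecker_mul, ← Matrix.mul_kronecker_mul] at h1
  have hne : (b : Matrix (Fin k) (Fin k) F)ᵀ * (G₂ : Matrix (Fin k) (Fin k) F) * (b : Matrix (Fin k) (Fin k) F) ≠ 0 := by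
    intro h0
    rw [h0] at h1
    exact ((Φ.transport e P).gram.ne_zero) (by rw [hgram, ← h1]; exact Matrix.kronecker_zero _)
  obtain ⟨c, hc⟩ := kronecker_eq_imp h1 hne
  have hc0 : c ≠ 0 := by
    rintro rfl
    rw [zero_smul] at hc
    have hu : IsUnit ((a : Matrix (Fin d) (Fin d) F)ᵀ * (G₁ : Matrix (Fin d) (Fin d) F) * (a : Matrix (Fin d) (Fin d) F)) :=
      (((Matrix.isUnit_transpose (A := (a : Matrix (Fin d) (Fin d) F))).mpr a.isUnit).mul G₁.isUnit).mul a.isUnit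
    rw [hc] at hu
    exact not_isUnit_zero hu
  refine ⟨a, b, c, hc0, by rw [hgv, hab], hc, ?_⟩
  rw [hc, Matrix.smul_kronecker, ← Matrix.kronecker_smul] at h1
  conv_rhs => rw [← kronecker_left_cancel h1 G₁.ne_zero, smul_smul, inv_mul_cancel₀ hc0, one_smul]

/-- A two-dimensional symmetric tensor factor gives a normalised algebra. -/
theorem tensor_two (hodd : Odd (Fintype.card F)) {d : ℕ}
    (hd : 0 < d) {e : ι ≃ Fin d × Fin 2} {P : GL ι F}
    (hle : H ≤ Geo.tensorProductSubgroup d 2 e P) {G₁ : GL (Fin d) F} {G₂ : GL (Fin 2) F}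
    (hgram : ((Φ.transport e P).gram : Matrix (Fin d × Fin 2) (Fin d × Fin 2) F) =
      (G₁ : Matrix (Fin d) (Fin d) F) ⊗ₖ (G₂ : Matrix (Fin 2) (Fin 2) F))
    (hT2 : (G₂ : Matrix (Fin 2) (Fin 2) F)ᵀ = (G₂ : Matrix (Fin 2) (Fin 2) F)) : ∃ Z : Subalgebra F (Matrix ι ι F), (∀ x ∈ Z, ∀ y ∈ Z, x * y = y * x) ∧ (∀ z ∈ Z, IsNilpotent z → z = 0) ∧
      (∀ z ∈ Z, Φ.adj z ∈ Z) ∧ (∀ g ∈ H, ∀ z ∈ Z, conjHom g z ∈ Z) ∧ finrank F Z ≠ 1 ∧ ∃ z ∈ Z, Φ.adj z ≠ z := by
  classical
  haveI : Nonempty (Fin d) := ⟨⟨0, hd⟩⟩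
  haveI : Nonempty ι := ⟨e.symm (⟨0, hd⟩, 0)⟩
  have h2 := Aschbacher.two_ne_zero_of_odd hodd
  set g₂ := (G₂ : Matrix (Fin 2) (Fin 2) F) with hg₂
  set g₂' := ((G₂⁻¹ : GL (Fin 2) F) : Matrix (Fin 2) (Fin 2) F) with hg₂'
  have hinv : g₂ * g₂' = 1 := G₂.mul_inv
  have hinv' : g₂' * g₂ = 1 := G₂.inv_mul
  set A := g₂' * J2 with hA
  set X := tr e P ((1 : Matrix (Fin d) (Fin d) F) ⊗ₖ A) with hX
  have hJT : (J2 : Matrix (Fin 2) (Fin 2) F)ᵀ = -J2 := by
    ext i j; fin_cases i <;> fin_cases j <;> simp [J2]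
  have hsymm' : g₂'ᵀ = g₂' := by
    refine left_inv_eq_right_inv (a := g₂) ?_ hinv
    rw [← hT2, ← Matrix.transpose_mul, hinv, Matrix.transpose_one]
  -- the square of the generator
  obtain ⟨s, hs0, hss⟩ : ∃ s : F, s ≠ 0 ∧ A * A = s • 1 := by
    have h10 : g₂' 1 0 = g₂' 0 1 := congrFun (congrFun hsymm' 0) 1
    refine ⟨g₂' 0 1 ^ 2 - g₂' 0 0 * g₂' 1 1, ?_, ?_⟩
    · have hu := (Matrix.isUnit_iff_isUnit_det _).mp (G₂⁻¹).isUnit
      rw [Matrix.det_fin_two, ← hg₂', h10] at hu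
      intro h0
      exact hu.ne_zero (by linear_combination -h0)
    · ext i j
      fin_cases i <;> fin_cases j <;> simp [hA, J2, Matrix.mul_apply, Fin.sum_univ_two, h10] <;> ring
  have hXX : X * X = s • 1 := by
    rw [hX, ← map_mul, ← Matrix.mul_kronecker_mul, one_mul, hss, Matrix.kronecker_smul, Matrix.one_kronecker_one,
      map_smul, map_one]
  have hadjX : Φ.adj X = -X := by
    rw [hX, ← FormData.transport_adj, ← map_neg]
    congr 1
    rw [FormData.adj, show (Φ.transport e P).σ = RingHom.id F from hσ]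
    have hgi : (((Φ.transport e P).gram⁻¹ : GL (Fin d × Fin 2) F) : Matrix (Fin d × Fin 2) (Fin d × Fin 2) F) =
        ((G₁⁻¹ : GL (Fin d) F) : Matrix (Fin d) (Fin d) F) ⊗ₖ g₂' := by
      refine Units.inv_eq_of_mul_eq_one_right ?_
      rw [hgram, ← Matrix.mul_kronecker_mul, Units.mul_inv, hinv, Matrix.one_kronecker_one]
    rw [hgi, hgram, ← Matrix.kroneckerMap_transpose, Matrix.transpose_one, ← Matrix.mul_kronecker_mul,
      ← Matrix.mul_kronecker_mul, mul_one, Units.inv_mul, hA, Matrix.transpose_mul, hsymm', hJT]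
    rw [show g₂' * (-J2 * g₂') * g₂ = -(g₂' * J2) by simp [mul_assoc, hinv']]
    ext ⟨a, i⟩ ⟨b, j⟩
    simp
  let Z : Subalgebra F (Matrix ι ι F) := Algebra.adjoin F {X}
  have hZmem : ∀ z ∈ Z, ∃ a b : F, z = a • 1 + b • X := by
    intro z hz
    induction hz using Algebra.adjoin_induction with
    | mem y hy => exact ⟨0, 1, by rw [Set.mem_singleton_iff.mp hy]; simp⟩
    | algebraMap r => exact ⟨r, 0, by simp [Algebra.algebraMap_eq_smul_one]⟩
    | add a b _ _ ha hb =>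
      obtain ⟨a₁, a₂, rfl⟩ := ha; obtain ⟨b₁, b₂, rfl⟩ := hb
      exact ⟨a₁ + b₁, a₂ + b₂, by simp [add_smul]; abel⟩
    | mul a b _ _ ha hb =>
      obtain ⟨a₁, a₂, rfl⟩ := ha; obtain ⟨b₁, b₂, rfl⟩ := hb
      refine ⟨a₁ * b₁ + a₂ * b₂ * s, a₁ * b₂ + a₂ * b₁, ?_⟩
      simp only [add_mul, mul_add, smul_mul_smul_comm, one_mul, mul_one, hXX, smul_smul, add_smul]
      abel
  have hXZ : X ∈ Z := Algebra.self_mem_adjoin_singleton F X
  refine ⟨Z, fun x hx y hy => ?_, fun z hz hn => ?_, fun z hz => ?_, fun g hg z hz => ?_, ?_, X, hXZ, fun h => ?_⟩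
  · obtain ⟨a₁, a₂, rfl⟩ := hZmem x hx; obtain ⟨b₁, b₂, rfl⟩ := hZmem y hy
    simp only [add_mul, mul_add, smul_mul_smul_comm, one_mul, mul_one, mul_comm b₁, mul_comm b₂]
    abel
  · obtain ⟨a, b, rfl⟩ := hZmem z hz
    have hcomm : Commute (a • 1 + b • X) (a • 1 - b • X) := by
      refine Commute.add_left ?_ ?_
      · exact ((Commute.one_left _).smul_left _)
      · exact ((Commute.sub_right ((Commute.one_right _).smul_right _) ((Commute.refl X).smul_right _)).smul_left _)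
    have h1 : (a • 1 + b • X) * (a • 1 - b • X) = (a * a - b * b * s) • 1 := by
      simp only [add_mul, mul_sub, smul_mul_smul_comm, one_mul, mul_one, hXX, smul_smul, sub_smul, mul_comm b a]
      abel
    have h3 : a * a = b * b * s := by
      obtain ⟨j, hj⟩ := hcomm.isNilpotent_mul_right hn
      rw [h1, smul_pow, one_pow] at hj
      have := smul_one_inj (ι := ι) (hj.trans (zero_smul F _).symm)
      exact sub_eq_zero.mp ((pow_eq_zero_iff fun e => by subst e; simp at this).mp this)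
    have h4 : (a • 1 + b • X) * (a • 1 + b • X) = (2 * a) • (a • 1 + b • X) := by
      simp only [add_mul, mul_add, smul_mul_smul_comm, one_mul, mul_one, hXX, smul_smul, smul_add, ← h3, mul_comm b a,
        two_mul, add_mul, add_smul]
      abel
    by_cases ha : a = 0
    · have hb : b = 0 := by
        rw [ha, zero_mul] at h3
        rcases mul_eq_zero.mp h3.symm with h | h
        · exact mul_self_eq_zero.mp h
        · exact absurd h hs0
      simp [ha, hb]
    · obtain ⟨j, hj⟩ := hn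
      have hpow : ∀ i : ℕ, (a • 1 + b • X) ^ (i + 1) = (2 * a) ^ i • (a • 1 + b • X) := by
        intro i
        induction i with
        | zero => simp
        | succ i ih => rw [pow_succ, ih, Matrix.smul_mul, h4, smul_smul, ← pow_succ]
      have h5 := hpow j
      rw [pow_succ, hj, zero_mul] at h5
      exact (smul_eq_zero.mp h5.symm).resolve_left (pow_ne_zero _ (mul_ne_zero h2 ha))
  · obtain ⟨a, b, rfl⟩ := hZmem z hz
    rw [Φ.adj_add, Φ.adj_smul, Φ.adj_smul, Φ.adj_one, hadjX]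
    exact add_mem (Subalgebra.smul_mem _ (one_mem _) _) (Subalgebra.smul_mem _ (neg_mem hXZ) _)
  · obtain ⟨a, b, rfl⟩ := hZmem z hz
    rw [map_add, map_smul, map_smul, map_one]
    refine add_mem (Subalgebra.smul_mem _ (one_mem _) _) (Subalgebra.smul_mem _ ?_ _)
    obtain ⟨u, v, c, hc0, hgv, -, hv⟩ := exists_factors Φ hσ hiso hd two_pos hle hgram g⁻¹ (inv_mem hg)
    have hgv' : (g : Matrix ι ι F) = tr e P (((u⁻¹ : GL (Fin d) F) : Matrix (Fin d) (Fin d) F) ⊗ₖ
        ((v⁻¹ : GL (Fin 2) F) : Matrix (Fin 2) (Fin 2) F)) := by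
      refine left_inv_eq_right_inv (a := ((g⁻¹ : GL ι F) : Matrix ι ι F)) ?_ ?_
      · exact g.mul_inv
      · rw [hgv, ← map_mul, ← Matrix.mul_kronecker_mul, Units.mul_inv, Units.mul_inv, Matrix.one_kronecker_one, map_one]
    have hvA : ((v⁻¹ : GL (Fin 2) F) : Matrix (Fin 2) (Fin 2) F) * A * (v : Matrix (Fin 2) (Fin 2) F) =
        ((v : Matrix (Fin 2) (Fin 2) F).det * c) • A := by
      have h6 : ((v⁻¹ : GL (Fin 2) F) : Matrix (Fin 2) (Fin 2) F) * g₂' = c • (g₂' * (v : Matrix (Fin 2) (Fin 2) F)ᵀ) := by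
        have h7 := congrArg (fun M => g₂' * M * (((v⁻¹ : GL (Fin 2) F) : Matrix (Fin 2) (Fin 2) F) * g₂')) hv
        simp only [Matrix.mul_smul, Matrix.smul_mul] at h7
        rw [show g₂' * ((v : Matrix (Fin 2) (Fin 2) F)ᵀ * g₂ * (v : Matrix (Fin 2) (Fin 2) F)) *
            (((v⁻¹ : GL (Fin 2) F) : Matrix (Fin 2) (Fin 2) F) * g₂') = g₂' * (v : Matrix (Fin 2) (Fin 2) F)ᵀ *
            (g₂ * ((v : Matrix (Fin 2) (Fin 2) F) * ((v⁻¹ : GL (Fin 2) F) : Matrix (Fin 2) (Fin 2) F)) * g₂') by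
          simp only [mul_assoc], Units.mul_inv, mul_one, hinv, mul_one,
          show g₂' * g₂ = 1 from hinv', one_mul] at h7
        rw [h7, smul_smul, mul_inv_cancel₀ hc0, one_smul]
      rw [hA, ← mul_assoc, h6, Matrix.smul_mul, Matrix.smul_mul,
        show g₂' * (v : Matrix (Fin 2) (Fin 2) F)ᵀ * J2 * (v : Matrix (Fin 2) (Fin 2) F) =
          g₂' * ((v : Matrix (Fin 2) (Fin 2) F)ᵀ * J2 * (v : Matrix (Fin 2) (Fin 2) F)) by simp only [mul_assoc],
        J2_conj, Matrix.mul_smul, smul_smul, mul_comm]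
    rw [conjHom_apply, hgv', hgv, hX, ← map_mul, ← map_mul, ← Matrix.mul_kronecker_mul, ← Matrix.mul_kronecker_mul,
      mul_one, Units.inv_mul, hvA, Matrix.kronecker_smul, map_smul, ← hX]
    exact Subalgebra.smul_mem _ hXZ _
  · intro hdim
    obtain ⟨c, hc⟩ := Aschbacher.eq_smul_of_finrank_one hdim hXZ
    have h1 : c • (1 : Matrix ι ι F) = -(c • 1) := by
      conv_rhs => rw [← hc, ← hadjX]
      rw [hc, Φ.adj_smul, Φ.adj_one, hσ]; rfl
    rw [← neg_smul] at h1
    have hc0 : c = 0 := (mul_eq_zero.mp (show (2 : F) * c = 0 by linear_combination smul_one_inj h1)).resolve_left h2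
    rw [hc0, zero_smul] at hc
    rw [hc, mul_zero] at hXX
    exact hs0 (smul_one_inj ((zero_smul F _).trans hXX)).symm
  · rw [hadjX] at h
    have h0 : X = 0 := by
      refine (smul_eq_zero.mp (show (2 : F) • X = 0 from ?_)).resolve_left h2
      rw [two_smul]; nth_rw 2 [← h]; exact add_neg_cancel X
    rw [h0, mul_zero] at hXX
    exact hs0 (smul_one_inj ((zero_smul F _).trans hXX)).symm

/-- The invariant hyperplane of a non-alternating tensor factor in characteristic two. -/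
theorem false_of_nonalternating  (hirr : Irr H) (h2 : (2 : F) = 0) {d k : ℕ} (hd : 0 < d)
    (hk : 2 ≤ k) {e : ι ≃ Fin d × Fin k} {P : GL ι F}
    (hle : H ≤ Geo.tensorProductSubgroup d k e P) {G₁ : GL (Fin d) F} {G₂ : GL (Fin k) F}
    (hgram : ((Φ.transport e P).gram : Matrix (Fin d × Fin k) (Fin d × Fin k) F) =
      (G₁ : Matrix (Fin d) (Fin d) F) ⊗ₖ (G₂ : Matrix (Fin k) (Fin k) F))
    (hT2 : (G₂ : Matrix (Fin k) (Fin k) F)ᵀ = (G₂ : Matrix (Fin k) (Fin k) F))
    {l₀ : Fin k} (hl₀ : (G₂ : Matrix (Fin k) (Fin k) F) l₀ l₀ ≠ 0) : False := by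
  classical
  obtain ⟨r, hr, hrv⟩ := exists_diag_functional h2 hT2
  set Q := ((P⁻¹ : GL ι F) : Matrix ι ι F) with hQ
  let lf : Fin d → ((ι → F) →ₗ[F] F) := fun a =>
    ∑ j, r j • (LinearMap.proj (e.symm (a, j))).comp (Matrix.toLin' Q)
  have hlf : ∀ a v, lf a v = ∑ j, r j * (Q *ᵥ v) (e.symm (a, j)) := fun a v => by
    simp [lf, Matrix.toLin'_apply]
  let W : Submodule F (ι → F) := ⨅ a, LinearMap.ker (lf a)
  have hW : ∀ v, v ∈ W ↔ ∀ a, lf a v = 0 := fun v => by simp [W, LinearMap.mem_ker]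
  have hsq : ∀ x y : F, x ^ 2 = y ^ 2 → x = y := fun x y h => by
    have h1 : (x - y) * (x - y) = 0 := by linear_combination h - (x * y - y ^ 2) * h2
    exact sub_eq_zero.mp (mul_self_eq_zero.mp h1)
  have hinv : Inv H W := by
    intro g hg v hv
    rw [hW] at hv ⊢
    intro a
    obtain ⟨u, w, c, hc0, hgv, -, hw⟩ := exists_factors Φ hσ hiso hd (by omega) hle hgram g hg
    have hscal : ∃ t, ∀ l, ∑ j, r j * (w : Matrix (Fin k) (Fin k) F) j l = t * r l := by
      obtain ⟨t, ht⟩ : ∃ t, t * t = c⁻¹ := by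
        haveI : CharP F 2 := ringChar.of_eq (by
          have hd : ringChar F ∣ 2 := (ringChar.spec F 2).mp (by simpa using h2)
          rcases (Nat.dvd_prime Nat.prime_two).mp hd with h | h
          · exact absurd h (CharP.ringChar_ne_one)
          · exact h)
        have hs : Function.Surjective fun x : F => x * x :=
          Finite.injective_iff_surjective.mp fun x y hxy => hsq x y (by rw [pow_two, pow_two]; exact hxy)
        exact hs c⁻¹
      refine ⟨t, fun l => hsq _ _ ?_⟩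
      have h1 := congrFun (congrFun hw l) l
      have h3 : gramForm (G₂ : Matrix (Fin k) (Fin k) F) (fun j => (w : Matrix (Fin k) (Fin k) F) j l)
          (fun j => (w : Matrix (Fin k) (Fin k) F) j l) = c⁻¹ * (G₂ : Matrix (Fin k) (Fin k) F) l l := by
        rw [← smul_eq_mul, ← Matrix.smul_apply, ← h1]
        simp [gramForm, Matrix.mul_apply, Matrix.mulVec, dotProduct, Finset.mul_sum, Finset.sum_mul, mul_assoc]
        exact Finset.sum_comm
      rw [hrv] at h3
      rw [h3, mul_pow, pow_two, pow_two, ht, hr]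
    obtain ⟨t, ht⟩ := hscal
    have hQg : ∀ p, (Q *ᵥ ((g : Matrix ι ι F) *ᵥ v)) (e.symm p) =
        ∑ q, ((u : Matrix (Fin d) (Fin d) F) ⊗ₖ (w : Matrix (Fin k) (Fin k) F)) p q * (Q *ᵥ v) (e.symm q) := by
      intro p
      rw [Matrix.mulVec_mulVec, hgv, tr_apply, ← mul_assoc, ← mul_assoc, hQ, Units.inv_mul, one_mul,
        ← Matrix.mulVec_mulVec]
      rw [Matrix.mulVec, dotProduct, ← e.symm.sum_comp]
      simp
    rw [hlf]
    simp only [hQg, Matrix.kroneckerMap_apply, Fintype.sum_prod_type, Finset.mul_sum]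
    rw [Finset.sum_comm]
    refine Finset.sum_eq_zero fun a' _ => ?_
    rw [Finset.sum_comm]
    calc ∑ l, ∑ j, r j * ((u : Matrix (Fin d) (Fin d) F) a a' * (w : Matrix (Fin k) (Fin k) F) j l *
          (Q *ᵥ v) (e.symm (a', l)))
        = (u : Matrix (Fin d) (Fin d) F) a a' * t * ∑ l, r l * (Q *ᵥ v) (e.symm (a', l)) := by
          rw [Finset.mul_sum]
          refine Finset.sum_congr rfl fun l _ => ?_
          have := ht l
          calc _ = (u : Matrix (Fin d) (Fin d) F) a a' * (∑ j, r j * (w : Matrix (Fin k) (Fin k) F) j l) *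
                (Q *ᵥ v) (e.symm (a', l)) := by
                rw [Finset.mul_sum, Finset.sum_mul]
                exact Finset.sum_congr rfl fun j _ => by ring
            _ = _ := by rw [this]; ring
      _ = 0 := by rw [← hlf, hv a', mul_zero]
  have hrl : r l₀ ≠ 0 := fun h => hl₀ (by rw [← hr, h, mul_zero])
  obtain ⟨i₁, hi₁⟩ : ∃ i₁ : Fin k, i₁ ≠ l₀ := Fintype.exists_ne_of_one_lt_card (by simp; omega) l₀
  have hpre : ∀ y : Fin d × Fin k → F, ∀ a, lf a ((P : Matrix ι ι F) *ᵥ (y ∘ e)) =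
      ∑ j, r j * y (a, j) := fun y a => by
    rw [hlf, Matrix.mulVec_mulVec, hQ, Units.inv_mul, Matrix.one_mulVec]
    simp
  rcases hirr W hinv with hb | ht
  · let y : Fin d × Fin k → F := fun p => if p.1 = ⟨0, hd⟩ then
      (if p.2 = i₁ then r l₀ else if p.2 = l₀ then -r i₁ else 0) else 0
    have hy : (P : Matrix ι ι F) *ᵥ (y ∘ e) ∈ W := by
      rw [hW]
      intro a
      rw [hpre]
      by_cases ha : a = ⟨0, hd⟩
      · rw [← Finset.sum_subset (Finset.subset_univ {i₁, l₀}), Finset.sum_pair hi₁]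
        · simp [y, ha, hi₁, hi₁.symm]; ring
        · intro j _ hj
          simp only [Finset.mem_insert, Finset.mem_singleton, not_or] at hj
          simp [y, hj.1, hj.2]
      · simp [y, ha]
    rw [hb, Submodule.mem_bot] at hy
    have h0 := congrFun (Matrix.mulVec_injective_iff_isUnit.mpr P.isUnit (hy.trans (Matrix.mulVec_zero _).symm))
      (e.symm (⟨0, hd⟩, i₁))
    simp [y] at h0
    exact hrl h0
  · let y : Fin d × Fin k → F := fun p => if p = (⟨0, hd⟩, l₀) then 1 else 0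
    have hy : (P : Matrix ι ι F) *ᵥ (y ∘ e) ∈ W := ht ▸ Submodule.mem_top
    have h0 := (hW _).mp hy ⟨0, hd⟩
    rw [hpre] at h0
    simp [y] at h0
    exact hrl h0


end Cfsg.Agent.Aschbacher.Orth
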