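import Cfsg.Agent.Aschbacher.Orth.Types
import Cfsg.Agent.Aschbacher.Orth.TensorAlg
import Cfsg.Agent.Aschbacher.Symp.TensorFour

/-!
Tensor decompositions of orthogonal spaces of dimension twelve, and the tensor product of a plane over two elements.
-/

set_option autoImplicit false
set_option linter.unusedSectionVars false
set_option linter.style.haveILetI false

namespace Cfsg.Agent.Aschbacher.Orth

open scoped MatrixGroups Matrix Kronecker
open Module QuadraticMap
open Cfsg.Agent.UnitaryOrthogonal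
open Cfsg.Agent.Aschbacher (Inv Irr pvec)
open Cfsg.Agent.MaxSub.Asch (FormData tr tr_apply gramForm J2 J2_conj conjHom conjHom_apply)
open Cfsg.Agent.OrthFix (Sig SigOn NDOn exists_sig)

variable {n : ℕ} {F : Type*} [Field F] [Fintype F] {Q : QuadraticForm F (Fin n → F)}

/-- The pure tensor, as a bilinear map. -/
noncomputable def pureBil {a b : ℕ} (e : Fin n ≃ Fin a × Fin b) (P : GL (Fin n) F) :
    (Fin a → F) →ₗ[F] (Fin b → F) →ₗ[F] (Fin n → F) :=
  LinearMap.mk₂ F (pureVec e P)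
    (fun x x' y => by
      simp only [pureVec, ← Matrix.mulVec_add]; congr 1; funext p; simp [pvec, add_mul])
    (fun c x y => by
      simp only [pureVec, ← Matrix.mulVec_smul]; congr 1; funext p; simp [pvec, mul_assoc])
    (fun x y y' => by
      simp only [pureVec, ← Matrix.mulVec_add]; congr 1; funext p; simp [pvec, mul_add])
    (fun c x y => by
      simp only [pureVec, ← Matrix.mulVec_smul]; congr 1; funext p; simp [pvec, mul_left_comm])

/-- The pure tensors span. -/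
theorem pureBil_span {a b : ℕ} (e : Fin n ≃ Fin a × Fin b) (P : GL (Fin n) F) (v : Fin n → F) :
    v ∈ Submodule.span F (Set.range fun p : (Fin a → F) × (Fin b → F) => pureBil e P p.1 p.2) := by
  classical
  set z := ((P⁻¹ : GL (Fin n) F) : Matrix (Fin n) (Fin n) F) *ᵥ v
  have hv : v = ∑ p : Fin a × Fin b, z (e.symm p) • pureBil e P (Pi.single p.1 1) (Pi.single p.2 1) := by
    show v = ∑ p, z (e.symm p) • pureVec e P (Pi.single p.1 1) (Pi.single p.2 1)
    simp only [pureVec, ← Matrix.mulVec_smul, ← Matrix.mulVec_sum]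
    rw [show (∑ p : Fin a × Fin b, z (e.symm p) • (pvec (Pi.single p.1 (1 : F)) (Pi.single p.2 1) ∘ e)) = z from ?_]
    · rw [Matrix.mulVec_mulVec, Units.mul_inv, Matrix.one_mulVec]
    funext i
    rw [Finset.sum_apply, Finset.sum_eq_single (e i)]
    · simp [pvec]
    · rintro ⟨k, l⟩ - hne
      have h : k ≠ (e i).1 ∨ l ≠ (e i).2 := by
        by_contra hcon
        push Not at hcon
        exact hne (Prod.ext hcon.1 hcon.2)
      rcases h with h | h <;> simp [pvec, Ne.symm h]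
    · simp
  rw [hv]
  exact Submodule.sum_mem _ fun p _ => Submodule.smul_mem _ _ (Submodule.subset_span ⟨(_, _), rfl⟩)

variable (hQ : PolarND Q)

include hQ

/-- A tensor structure of two symmetric forms, in coordinates. -/
theorem sym_gram {a b : ℕ} (ha : 0 < a) (hb : 0 < b) {e : Fin n ≃ Fin a × Fin b} {P : GL (Fin n) F}
    {f₁ : (Fin a → F) → (Fin a → F) → F} {f₂ : (Fin b → F) → (Fin b → F) → F}
    (hf₁ : Geo.IsSymmetricForm f₁) (hf₂ : Geo.IsSymmetricForm f₂)
    (hS : Geo.IsTensorFormStructure id (polar ⇑Q) f₁ f₂ e P) :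
    ∃ (G₁ : GL (Fin a) F) (G₂ : GL (Fin b) F),
      (((pData hQ).transport e P).gram : Matrix (Fin a × Fin b) (Fin a × Fin b) F) =
        (G₁ : Matrix (Fin a) (Fin a) F) ⊗ₖ (G₂ : Matrix (Fin b) (Fin b) F) ∧
      (G₁ : Matrix (Fin a) (Fin a) F)ᵀ = (G₁ : Matrix (Fin a) (Fin a) F) ∧
      (∀ x y, gramForm (G₂ : Matrix (Fin b) (Fin b) F) x y = f₂ x y) ∧
      ∀ x y u w, polar Q (pureVec e P x u) (pureVec e P y w) =
        gramForm (G₁ : Matrix (Fin a) (Fin a) F) x y * f₂ u w := by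
  haveI : Nonempty (Fin n) := ⟨e.symm (⟨0, ha⟩, ⟨0, hb⟩)⟩
  haveI : Nonempty (Fin a) := ⟨⟨0, ha⟩⟩
  haveI : Nonempty (Fin b) := ⟨⟨0, hb⟩⟩
  obtain ⟨c, hc0, hc⟩ := hS
  have hg1 := Aschbacher.exists_gram (RingHom.id F) f₁ hf₁.bilinear.add_left hf₁.bilinear.smul_left
    hf₁.bilinear.add_right (fun c v x => hf₁.bilinear.smul_right c v x)
  have hg2 := Aschbacher.exists_gram (RingHom.id F) f₂ hf₂.bilinear.add_left hf₂.bilinear.smul_left
    hf₂.bilinear.add_right (fun c v x => hf₂.bilinear.smul_right c v x)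
  have hu1 := Aschbacher.gram_isUnit hg1 hf₁.nondegenerate
  obtain ⟨G₂, hG₂⟩ := Aschbacher.gram_isUnit hg2 hf₂.nondegenerate
  have hu1' : IsUnit (c • Geo.gramMatrix f₁) := by
    rw [← smul_one_mul c (Geo.gramMatrix f₁)]
    refine IsUnit.mul ?_ hu1
    rw [Matrix.isUnit_iff_isUnit_det, Matrix.det_smul, Matrix.det_one, mul_one]
    exact IsUnit.pow _ (IsUnit.mk0 c hc0)
  obtain ⟨G₁, hG₁⟩ := hu1'
  have hgram : (((pData hQ).transport e P).gram : Matrix (Fin a × Fin b) (Fin a × Fin b) F) =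
      (G₁ : Matrix (Fin a) (Fin a) F) ⊗ₖ (G₂ : Matrix (Fin b) (Fin b) F) := by
    ext p p'
    have h1 := hc (Pi.single p 1) (Pi.single p' 1)
    rw [← pData_form hQ, FormData.transport_form] at h1
    simp only [FormData.form, Geo.formOfGram] at h1
    rw [hG₁, hG₂]
    simpa [Matrix.kroneckerMap_apply, Pi.single_apply, apply_ite, Matrix.mulVec, dotProduct, mul_assoc] using h1
  have hf2' : ∀ x y, gramForm (G₂ : Matrix (Fin b) (Fin b) F) x y = f₂ x y := fun x y => by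
    rw [hg2 x y, hG₂]; rfl
  refine ⟨G₁, G₂, hgram, ?_, hf2', fun x y u w => ?_⟩
  · rw [hG₁, Matrix.transpose_smul]
    congr 1
    ext i j
    exact hf₁.symm _ _
  · rw [polar_pureVec hQ e P hgram, hf2']

/-- An orthogonal basis of the symmetric factor cuts the space into pieces. -/
theorem tensor_pieces (h2 : (2 : F) ≠ 0) {a b : ℕ} (ha : 2 ≤ a) (hb : 0 < b) {e : Fin n ≃ Fin a × Fin b}
    {P : GL (Fin n) F} {G₁ : GL (Fin a) F} {f₂ : (Fin b → F) → (Fin b → F) → F} (hf₂ : Geo.IsSymmetricForm f₂)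
    (hpol : ∀ x y u w, polar Q (pureVec e P x u) (pureVec e P y w) =
      gramForm (G₁ : Matrix (Fin a) (Fin a) F) x y * f₂ u w)
    (u : Basis (Fin a) F (Fin a → F))
    (hu : ∀ i j, i ≠ j → gramForm (G₁ : Matrix (Fin a) (Fin a) F) (u i) (u j) = 0) :
    Geo.IsNondegenerateMDecomposition (polar ⇑Q) b (fun i => LinearMap.range (pureBil e P (u i))) ∧
    (∀ i, gramForm (G₁ : Matrix (Fin a) (Fin a) F) (u i) (u i) ≠ 0) ∧
    (∀ i, Function.Injective (pureBil e P (u i))) ∧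
    ∀ i y, Q (pureBil e P (u i) y) = gramForm (G₁ : Matrix (Fin a) (Fin a) F) (u i) (u i) * f₂ y y / 2 := by
  classical
  set g₁ := gramForm (G₁ : Matrix (Fin a) (Fin a) F) with hg₁
  have hb₁ : Geo.IsBilinearForm g₁ := MaxSub.Asch.gramForm_bilinear _
  have hd : ∀ i, g₁ (u i) (u i) ≠ 0 := by
    intro i h0
    obtain ⟨-, x, hx⟩ := MaxSub.Asch.gramForm_nondegenerate G₁.isUnit (u i) (u.ne_zero i)
    refine hx ?_
    show g₁ (u i) x = 0
    rw [← u.sum_repr x, ← MaxSub.rmap_apply hb₁, map_sum]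
    refine Finset.sum_eq_zero fun j _ => ?_
    rw [MaxSub.rmap_apply, hb₁.smul_right]
    rcases eq_or_ne i j with rfl | hij
    · rw [h0, mul_zero]
    · rw [hu i j hij, mul_zero]
  have hL : ∀ i j y w, polar Q (pureBil e P (u i) y) (pureBil e P (u j) w) =
      if i = j then g₁ (u i) (u i) * f₂ y w else 0 := fun i j y w => by
    show polar Q (pureVec e P (u i) y) (pureVec e P (u j) w) = _
    rw [hpol]
    split_ifs with h
    · subst h; rfl
    · rw [show g₁ (u i) (u j) = 0 from hu i j h, zero_mul]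
  have hpair : ∀ i y, y ≠ 0 → ∃ w, polar Q (pureBil e P (u i) y) (pureBil e P (u i) w) ≠ 0 := fun i y hy => by
    obtain ⟨-, w, hw⟩ := hf₂.nondegenerate y hy
    exact ⟨w, by rw [hL, if_pos rfl]; exact mul_ne_zero (hd i) hw⟩
  have hinj : ∀ i, Function.Injective (pureBil e P (u i)) := fun i => by
    rw [injective_iff_map_eq_zero]
    intro y hy
    by_contra h0
    obtain ⟨w, hw⟩ := hpair i y h0
    exact hw (by rw [hy, polar_zero_left])
  refine ⟨⟨⟨ha, hb, fun i => ?_, fun i => ?_, ?_⟩, fun i => ?_, ?_⟩, hd, hinj, fun i y => ?_⟩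
  · rw [LinearMap.finrank_range_of_inj (hinj i), Module.finrank_pi, Fintype.card_fin]
  · refine Submodule.disjoint_def.mpr fun v hv hv' => ?_
    obtain ⟨y, rfl⟩ := hv
    by_contra h0
    have hy : y ≠ 0 := fun e => h0 (by rw [e, map_zero])
    obtain ⟨w, hw⟩ := hpair i y hy
    have h1 : (⨆ (j) (_ : j ≠ i), LinearMap.range (pureBil e P (u j))) ≤
        LinearMap.ker ((polarBilin Q).flip (pureBil e P (u i) w)) := by
      refine iSup₂_le fun j hj => ?_
      rintro _ ⟨z, rfl⟩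
      show polar Q _ _ = 0
      rw [hL, if_neg hj]
    exact hw (h1 hv')
  · refine eq_top_iff.mpr fun v _ => ?_
    refine (Submodule.span_le.mpr ?_) (pureBil_span e P v)
    rintro _ ⟨⟨x, y⟩, rfl⟩
    show pureBil e P x y ∈ _
    rw [← u.sum_repr x, map_sum, LinearMap.sum_apply]
    refine Submodule.sum_mem _ fun i _ => ?_
    rw [map_smul, LinearMap.smul_apply]
    exact Submodule.smul_mem _ _ (Submodule.mem_iSup_of_mem i ⟨y, rfl⟩)
  · rintro _ ⟨y, rfl⟩ h0
    have hy : y ≠ 0 := fun e => h0 (by rw [e, map_zero])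
    obtain ⟨w, hw⟩ := hpair i y hy
    exact ⟨⟨_, ⟨w, rfl⟩, by rwa [polar_comm]⟩, _, ⟨w, rfl⟩, hw⟩
  · rintro i j hij _ ⟨y, rfl⟩ _ ⟨w, rfl⟩
    rw [hL, if_neg hij]
  · have h := hL i i y y
    rw [if_pos rfl, polar_self, nsmul_eq_mul, Nat.cast_ofNat] at h
    rw [← h, mul_div_cancel_left₀ _ h2]

/-- The sign of the space is the sign of the four-dimensional factor. -/
theorem tensor_sign (h2 : (2 : F) ≠ 0) {e : Fin n ≃ Fin 3 × Fin 4} {P : GL (Fin n) F}
    {f₁ : (Fin 3 → F) → (Fin 3 → F) → F} {f₂ : (Fin 4 → F) → (Fin 4 → F) → F}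
    (hf₁ : Geo.IsSymmetricForm f₁) (hf₂ : Geo.IsSymmetricForm f₂)
    (hS : Geo.IsTensorFormStructure id (polar ⇑Q) f₁ f₂ e P) :
    Geo.IsPlusTypeOn (fun v : Fin 4 → F => f₂ v v) ⊤ ↔ Geo.IsPlusTypeOn ⇑Q ⊤ := by
  classical
  obtain ⟨G₁, G₂, -, hT, -, hpol⟩ := sym_gram hQ (by norm_num) (by norm_num) hf₁ hf₂ hS
  haveI : Invertible (2 : F) := invertibleOfNonzero h2
  let B : LinearMap.BilinForm F (Fin 3 → F) := Matrix.toLinearMap₂' F (G₁ : Matrix (Fin 3) (Fin 3) F)
  have hB : ∀ x y, B x y = gramForm (G₁ : Matrix (Fin 3) (Fin 3) F) x y := fun x y => Matrix.toLinearMap₂'_apply' _ x y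
  have hsymm : LinearMap.IsSymm B := LinearMap.isSymm_def.mpr fun x y => by
    rw [RingHom.id_apply, hB, hB]
    exact (MaxSub.Asch.gramForm_symmetric G₁ hT).symm x y
  obtain ⟨v₀, hv₀⟩ := LinearMap.BilinForm.exists_orthogonal_basis hsymm
  let u : Basis (Fin 3) F (Fin 3 → F) := v₀.reindex (finCongr (by simp))
  obtain ⟨hD, hd, hinj, hQL⟩ := tensor_pieces hQ h2 (by norm_num) (by norm_num) hf₂ hpol u fun i j hij => by
    rw [← hB]
    simp only [u, Module.Basis.reindex_apply]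
    exact hv₀ fun e => hij ((finCongr _).symm.injective e)
  have hpiece : ∀ i, Geo.IsPlusTypeOn ⇑Q (LinearMap.range (pureBil e P (u i))) ↔
      Geo.IsPlusTypeOn (fun v : Fin 4 → F => f₂ v v) ⊤ := by
    intro i
    have hiff : ∀ y, Q (pureBil e P (u i) y) = 0 ↔ f₂ y y = 0 := fun y => by
      rw [hQL]
      simp [hd i, h2]
    constructor
    · rintro ⟨U, hU, hUs, hUd⟩
      refine ⟨U.comap (pureBil e P (u i)), le_top, fun y hy => (hiff y).mp (hUs _ hy), ?_⟩
      rw [← (Submodule.equivMapOfInjective _ (hinj i) (U.comap (pureBil e P (u i)))).finrank_eq.symm,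
        Submodule.map_comap_eq, inf_eq_right.mpr hU, hUd, LinearMap.finrank_range_of_inj (hinj i), finrank_top]
    · rintro ⟨U, -, hUs, hUd⟩
      refine ⟨U.map (pureBil e P (u i)), LinearMap.map_le_range, ?_, ?_⟩
      · rintro _ ⟨y, hy, rfl⟩
        exact (hiff y).mpr (hUs y hy)
      · rw [← (Submodule.equivMapOfInjective _ (hinj i) U).finrank_eq, hUd,
          LinearMap.finrank_range_of_inj (hinj i), finrank_top]
  have hn : n = 12 := by simpa using Fintype.card_congr e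
  have hkey : ∀ ε : ℤ, (∀ i, SigOn Q (LinearMap.range (pureBil e P (u i))) ε) → Sig Q (ε ^ 3) := by
    intro ε hε
    have h := (dec_sigOn hD hε Finset.univ).2.2
    simp only [Finset.mem_univ, iSup_pos, hD.decomp.iSup_eq_top, Finset.card_univ, Fintype.card_fin] at h
    rw [decSign_even (show Even 4 from ⟨2, rfl⟩)] at h
    exact OrthFix.sig_of_sigOn_top h
  have hev : ∀ i, Even (finrank F (LinearMap.range (pureBil e P (u i)))) := fun i => by
    rw [hD.decomp.finrank_eq i]; exact ⟨2, rfl⟩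
  have hevn : Even (Fintype.card (Fin n)) := by rw [Fintype.card_fin, hn]; exact ⟨6, rfl⟩
  constructor
  · intro hp
    refine (plus_top_iff hQ hevn).mpr ?_
    have := hkey 1 fun i => (plus_iff (ndOn_of _ (hD.nondegenerate i)) (hev i)).mp ((hpiece i).mpr hp)
    rwa [one_pow] at this
  · intro hp
    by_contra hnp
    have := hkey (-1) fun i => (OrthFix.sigOn_neg_one_iff (ndOn_of _ (hD.nondegenerate i))).mpr fun h =>
      hnp ((hpiece i).mp ((plus_iff (ndOn_of _ (hD.nondegenerate i)) (hev i)).mpr h))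
    exact absurd (((plus_top_iff hQ hevn).mp hp).unique this) (by norm_num)

variable {H : Subgroup (GL (Fin n) F)} (hH : H ≤ isometryGroup F ⇑Q)

include hH

/-- Over three elements the three-dimensional factor gives a decomposition. -/
theorem tensor_three_dec (hq : Fintype.card F = 3) {e : Fin n ≃ Fin 3 × Fin 4} {P : GL (Fin n) F}
    {f₁ : (Fin 3 → F) → (Fin 3 → F) → F} {f₂ : (Fin 4 → F) → (Fin 4 → F) → F}
    (hf₁ : Geo.IsSymmetricForm f₁) (hf₂ : Geo.IsSymmetricForm f₂)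
    (hS : Geo.IsTensorFormStructure id (polar ⇑Q) f₁ f₂ e P) (hle : H ≤ Geo.tensorProductSubgroup 3 4 e P) :
    ∃ D : Fin 3 → Submodule F (Fin n → F), Geo.IsOrthogonalMDecomposition ⇑Q 4 D ∧
      H ≤ Geo.decompositionStabilizer D := by
  classical
  obtain ⟨G₁, G₂, hgram, hT, -, hpol⟩ := sym_gram hQ (by norm_num) (by norm_num) hf₁ hf₂ hS
  have h2 : (2 : F) ≠ 0 := Aschbacher.two_ne_zero_of_odd (by rw [hq]; decide)
  have hsym := MaxSub.Asch.gramForm_symmetric G₁ hT
  obtain ⟨u, κ, hκ, hu⟩ := Aschbacher.exists_equal_frame hq hsym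
  obtain ⟨hD, -, hinj, hQL⟩ := tensor_pieces hQ h2 (by norm_num) (by norm_num) hf₂ hpol u
    fun i j hij => by rw [hu, if_neg hij]
  refine ⟨_, ⟨hD, fun i j => ?_⟩, fun g hg => ?_⟩
  · refine ⟨(LinearEquiv.ofInjective _ (hinj i)).symm.trans (LinearEquiv.ofInjective _ (hinj j)), fun w => ?_⟩
    obtain ⟨y, rfl⟩ := (LinearEquiv.ofInjective _ (hinj i)).surjective w
    rw [LinearEquiv.trans_apply, LinearEquiv.symm_apply_apply]
    show Q (pureBil e P (u j) y) = Q (pureBil e P (u i) y)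
    rw [hQL, hQL, hu, hu, if_pos rfl, if_pos rfl]
  haveI : Nonempty (Fin n) := ⟨e.symm (0, 0)⟩
  obtain ⟨A, B, c, hc0, hgv, hA, -⟩ := exists_factors (pData hQ) rfl (fun g hg => gram_of_iso hQ (hH hg))
    (by norm_num) (by norm_num) hle hgram g hg
  have hsq : ∀ x : F, x ≠ 0 → x * x = 1 := fun x hx => by
    have h1 := FiniteField.pow_card_sub_one_eq_one x hx
    rw [hq] at h1
    rw [← h1, pow_two]
  have hAd : (A : Matrix (Fin 3) (Fin 3) F).det ≠ 0 := ((Matrix.isUnit_iff_isUnit_det _).mp A.isUnit).ne_zero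
  have hc1 : c = 1 := by
    have hGd : (G₁ : Matrix (Fin 3) (Fin 3) F).det ≠ 0 := ((Matrix.isUnit_iff_isUnit_det _).mp G₁.isUnit).ne_zero
    have h1 := congrArg Matrix.det hA
    rw [Matrix.det_mul, Matrix.det_mul, Matrix.det_transpose, Matrix.det_smul, Fintype.card_fin] at h1
    have h3 : c ^ 3 = 1 := mul_right_cancel₀ hGd (by rw [← h1, mul_right_comm, hsq _ hAd, one_mul])
    calc c = c * (c * c) := by rw [hsq _ hc0, mul_one]
      _ = c ^ 3 := by ring
      _ = 1 := h3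
  rw [hc1, one_smul] at hA
  have hAform : ∀ x y, gramForm (G₁ : Matrix (Fin 3) (Fin 3) F) ((A : Matrix (Fin 3) (Fin 3) F) *ᵥ x)
      ((A : Matrix (Fin 3) (Fin 3) F) *ᵥ y) = gramForm (G₁ : Matrix (Fin 3) (Fin 3) F) x y := fun x y => by
    rw [MaxSub.Asch.gramForm_comp, hA]
  have h30 : (3 : F) = 0 := by
    have := Nat.cast_card_eq_zero F
    rw [hq] at this
    exact_mod_cast this
  have hmono : ∀ j, ∃ (i : Fin 3) (s : F), (A : Matrix (Fin 3) (Fin 3) F) *ᵥ u j = s • u i := by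
    intro j
    set w := (A : Matrix (Fin 3) (Fin 3) F) *ᵥ u j with hw
    set x := u.equivFun w
    have hwx : w = ∑ i, x i • u i := (u.sum_equivFun w).symm
    have hnorm : x 0 * x 0 + x 1 * x 1 + x 2 * x 2 = 1 := by
      have h1 : gramForm (G₁ : Matrix (Fin 3) (Fin 3) F) w w = κ := by rw [hw, hAform, hu, if_pos rfl]
      rw [hwx, Fin.sum_univ_three] at h1
      simp [hsym.bilinear.add_left, hsym.bilinear.add_right, hsym.bilinear.smul_left, hsym.bilinear.smul_right,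
        hu] at h1
      exact mul_right_cancel₀ hκ (by linear_combination h1)
    rw [Fin.sum_univ_three] at hwx
    rcases eq_or_ne (x 0) 0 with z0 | z0 <;> rcases eq_or_ne (x 1) 0 with z1 | z1 <;>
      rcases eq_or_ne (x 2) 0 with z2 | z2
    · simp [z0, z1, z2] at hnorm
    · exact ⟨2, x 2, by rw [hwx, z0, z1]; simp⟩
    · exact ⟨1, x 1, by rw [hwx, z0, z2]; simp⟩
    · rw [hsq _ z1, hsq _ z2, z0] at hnorm
      exact absurd (show (1 : F) = 0 by linear_combination hnorm) one_ne_zero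
    · exact ⟨0, x 0, by rw [hwx, z1, z2]; simp⟩
    · rw [hsq _ z0, hsq _ z2, z1] at hnorm
      exact absurd (show (1 : F) = 0 by linear_combination hnorm) one_ne_zero
    · rw [hsq _ z0, hsq _ z1, z2] at hnorm
      exact absurd (show (1 : F) = 0 by linear_combination hnorm) one_ne_zero
    · rw [hsq _ z0, hsq _ z1, hsq _ z2] at hnorm
      exact absurd (show (1 : F) = 0 by linear_combination h30 - hnorm) one_ne_zero
  choose π s hπ using hmono
  have himg : ∀ j y, (g : Matrix (Fin n) (Fin n) F) *ᵥ pureBil e P (u j) y =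
      pureBil e P (u (π j)) (s j • ((B : Matrix (Fin 4) (Fin 4) F) *ᵥ y)) := fun j y => by
    rw [map_smul, ← LinearMap.smul_apply, ← map_smul, ← hπ]
    show (g : Matrix (Fin n) (Fin n) F) *ᵥ pureVec e P (u j) y = pureVec e P _ _
    rw [pureVec, hgv, MaxSub.Asch.tr_mulVec, Aschbacher.kron_mulVec_pvec]
    rfl
  have hmap : ∀ j, (LinearMap.range (pureBil e P (u j))).map (Matrix.toLin' (g : Matrix (Fin n) (Fin n) F)) =
      LinearMap.range (pureBil e P (u (π j))) := fun j => by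
    refine Submodule.eq_of_le_of_finrank_le ?_ ?_
    · rintro _ ⟨_, ⟨y, rfl⟩, rfl⟩
      exact ⟨_, ((Matrix.toLin'_apply _ _).trans (himg j y)).symm⟩
    · rw [hD.decomp.finrank_eq]
      exact ((((Aschbacher.glEquiv g).submoduleMap (LinearMap.range (pureBil e P (u j)))).finrank_eq).symm.trans
        (hD.decomp.finrank_eq j)).ge
  have hinjπ : Function.Injective π := fun i j hij => by
    have h1 : LinearMap.range (pureBil e P (u i)) = LinearMap.range (pureBil e P (u j)) :=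
      Submodule.map_injective_of_injective (fun x y h => Aschbacher.mulVec_gl_inj g (by simpa using h))
        ((hmap i).trans (hij ▸ (hmap j).symm))
    by_contra hne
    exact ne_bot_of_finrank (W := LinearMap.range (pureBil e P (u i))) (by rw [hD.decomp.finrank_eq]; norm_num)
      ((hD.decomp.indep.pairwiseDisjoint hne).eq_bot_of_le h1.le)
  exact ⟨Equiv.ofBijective π (Finite.injective_iff_bijective.mp hinjπ), fun j => hmap j⟩

/-- A four-dimensional factor of plus type splits, and the group fixes a product of a plane and a six-space. -/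
theorem tensor_plus_two_six (hS' : H ≤ Geo.specialLinear (Fin n) F) (h2 : (2 : F) ≠ 0) {e : Fin n ≃ Fin 3 × Fin 4}
    {P : GL (Fin n) F} {f₁ : (Fin 3 → F) → (Fin 3 → F) → F} {f₂ : (Fin 4 → F) → (Fin 4 → F) → F}
    (hf₁ : Geo.IsSymmetricForm f₁) (hf₂ : Geo.IsSymmetricForm f₂)
    (hS : Geo.IsTensorFormStructure id (polar ⇑Q) f₁ f₂ e P) (hle : H ≤ Geo.tensorProductSubgroup 3 4 e P)
    (hplus : Geo.IsPlusTypeOn (fun v : Fin 4 → F => f₂ v v) ⊤) :
    ∃ (e' : Fin n ≃ Fin 2 × Fin 6) (P' : GL (Fin n) F) (f₁' : (Fin 2 → F) → (Fin 2 → F) → F)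
      (f₂' : (Fin 6 → F) → (Fin 6 → F) → F), Geo.IsSymplecticForm f₁' ∧ Geo.IsSymplecticForm f₂' ∧
      Geo.IsTensorFormStructure id (polar ⇑Q) f₁' f₂' e' P' ∧
      (∀ (x₁ : Fin 2 → F) (x₂ : Fin 6 → F),
        Q ((P' : Matrix (Fin n) (Fin n) F) *ᵥ ((fun a : Fin 2 × Fin 6 => x₁ a.1 * x₂ a.2) ∘ e')) = 0) ∧
      H ≤ Geo.tensorProductSubgroup 2 6 e' P' := by
  classical
  obtain ⟨G₁, G₂, hgram, hT, hG₂, -⟩ := sym_gram hQ (by norm_num) (by norm_num) hf₁ hf₂ hS
  haveI : Nonempty (Fin n) := ⟨e.symm (0, 0)⟩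
  obtain ⟨v, hv⟩ := Aschbacher.exists_plus_frame h2 hf₂ hplus
  let τ : Fin 4 ≃ Fin 2 × Fin 2 := (finCongr (show 4 = 2 * 2 by norm_num)).trans finProdFinEquiv.symm
  let r : Fin 6 ≃ Fin 3 × Fin 2 := (finCongr (show 6 = 3 * 2 by norm_num)).trans finProdFinEquiv.symm
  let μ : Fin 3 × Fin 4 ≃ Fin 2 × Fin 6 :=
    { toFun := fun p => ((τ p.2).1, r.symm (p.1, (τ p.2).2))
      invFun := fun p => ((r p.2).1, τ.symm (p.1, (r p.2).2))
      left_inv := fun p => by simp
      right_inv := fun p => by simp }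
  have hJd : (J2 : Matrix (Fin 2) (Fin 2) F).det = 1 := by simp [J2, Matrix.det_fin_two]
  set J4 : Matrix (Fin 4) (Fin 4) F := ((J2 : Matrix (Fin 2) (Fin 2) F) ⊗ₖ J2).submatrix τ τ with hJ4
  let V₀ : Matrix (Fin 4) (Fin 4) F := Matrix.of fun k l => v (τ l) k
  have hV₀ : V₀ᵀ * (G₂ : Matrix (Fin 4) (Fin 4) F) * V₀ = J4 := by
    ext k l
    have h := hv (τ k) (τ l)
    rw [← hG₂] at h
    simp only [hJ4, Matrix.submatrix_apply, Matrix.kroneckerMap_apply]
    rw [← h]
    simp only [gramForm, Matrix.mul_apply, dotProduct, Matrix.mulVec, Matrix.transpose_apply, V₀, Matrix.of_apply,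
      Finset.sum_mul, Finset.mul_sum]
    rw [Finset.sum_comm]
    exact Finset.sum_congr rfl fun i _ => Finset.sum_congr rfl fun j _ => by ring
  have hVdet : V₀.det ≠ 0 := by
    intro h0
    have h := congrArg Matrix.det hV₀
    rw [Matrix.det_mul, h0, mul_zero, hJ4, Matrix.det_submatrix_equiv_self, Matrix.det_kronecker, hJd] at h
    simp at h
  set V := Matrix.GeneralLinearGroup.mkOfDetNeZero V₀ hVdet with hV
  have hVv : (V : Matrix (Fin 4) (Fin 4) F) = V₀ := rfl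
  let W : GL (Fin 3 × Fin 4) F :=
    ⟨(1 : Matrix (Fin 3) (Fin 3) F) ⊗ₖ (V : Matrix (Fin 4) (Fin 4) F),
      (1 : Matrix (Fin 3) (Fin 3) F) ⊗ₖ ((V⁻¹ : GL (Fin 4) F) : Matrix (Fin 4) (Fin 4) F),
      by rw [← Matrix.mul_kronecker_mul, one_mul, Units.mul_inv, Matrix.one_kronecker_one],
      by rw [← Matrix.mul_kronecker_mul, one_mul, Units.inv_mul, Matrix.one_kronecker_one]⟩
  let e' := e.trans μ
  let P' : GL (Fin n) F := P * Geo.glReindex e.symm W
  have hP' : (P' : Matrix (Fin n) (Fin n) F) =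
      (P : Matrix (Fin n) (Fin n) F) * Matrix.reindexAlgEquiv F F e.symm (W : Matrix _ _ F) := rfl
  have hP'i : ((P'⁻¹ : GL (Fin n) F) : Matrix (Fin n) (Fin n) F) =
      Matrix.reindexAlgEquiv F F e.symm ((W⁻¹ : GL (Fin 3 × Fin 4) F) : Matrix _ _ F) *
        ((P⁻¹ : GL (Fin n) F) : Matrix (Fin n) (Fin n) F) := by
    show (((P * Geo.glReindex e.symm W)⁻¹ : GL (Fin n) F) : Matrix (Fin n) (Fin n) F) = _
    rw [mul_inv_rev, Units.val_mul]
    rfl
  have htr : ∀ X : Matrix (Fin 2 × Fin 6) (Fin 2 × Fin 6) F, tr e' P' X =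
      tr e P ((W : Matrix _ _ F) * X.submatrix μ μ * ((W⁻¹ : GL (Fin 3 × Fin 4) F) : Matrix _ _ F)) := fun X => by
    have h1 : Matrix.reindexAlgEquiv F F e'.symm X = Matrix.reindexAlgEquiv F F e.symm (X.submatrix μ μ) := by
      ext i j; rfl
    rw [tr_apply, tr_apply, h1, hP', hP'i, map_mul, map_mul]
    simp only [mul_assoc]
  set K₂ : Matrix (Fin 6) (Fin 6) F :=
    ((G₁ : Matrix (Fin 3) (Fin 3) F) ⊗ₖ (J2 : Matrix (Fin 2) (Fin 2) F)).submatrix r r with hK₂
  have hK₂det : K₂.det ≠ 0 := by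
    rw [hK₂, Matrix.det_submatrix_equiv_self, Matrix.det_kronecker, hJd, one_pow, mul_one]
    exact pow_ne_zero _ ((Matrix.isUnit_iff_isUnit_det _).mp G₁.isUnit).ne_zero
  set H₂ := Matrix.GeneralLinearGroup.mkOfDetNeZero K₂ hK₂det with hH₂
  have hH₂v : (H₂ : Matrix (Fin 6) (Fin 6) F) = K₂ := rfl
  set H₁ := Matrix.GeneralLinearGroup.mkOfDetNeZero (J2 : Matrix (Fin 2) (Fin 2) F) (by rw [hJd]; exact one_ne_zero)
    with hH₁
  have hH₁v : (H₁ : Matrix (Fin 2) (Fin 2) F) = J2 := rfl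
  have hgram' : (((pData hQ).transport e' P').gram : Matrix (Fin 2 × Fin 6) (Fin 2 × Fin 6) F) =
      (H₁ : Matrix (Fin 2) (Fin 2) F) ⊗ₖ (H₂ : Matrix (Fin 6) (Fin 6) F) := by
    have hid : ∀ M : Matrix (Fin n) (Fin n) F, M.map (pData hQ).σ = M := fun M => Matrix.ext fun _ _ => rfl
    have h0 : ((P : Matrix (Fin n) (Fin n) F)ᵀ * ((pData hQ).gram : Matrix (Fin n) (Fin n) F) *
        (P : Matrix (Fin n) (Fin n) F)) = Matrix.reindexAlgEquiv F F e.symm
          ((G₁ : Matrix (Fin 3) (Fin 3) F) ⊗ₖ (G₂ : Matrix (Fin 4) (Fin 4) F)) := by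
      rw [← hgram, FormData.transport_gram, hid]
      ext i j; simp
    have h1 : (W : Matrix _ _ F)ᵀ * ((G₁ : Matrix (Fin 3) (Fin 3) F) ⊗ₖ (G₂ : Matrix (Fin 4) (Fin 4) F)) *
        (W : Matrix _ _ F) = (G₁ : Matrix (Fin 3) (Fin 3) F) ⊗ₖ J4 := by
      show ((1 : Matrix (Fin 3) (Fin 3) F) ⊗ₖ (V : Matrix (Fin 4) (Fin 4) F))ᵀ * _ *
        ((1 : Matrix (Fin 3) (Fin 3) F) ⊗ₖ (V : Matrix (Fin 4) (Fin 4) F)) = _
      rw [← Matrix.kroneckerMap_transpose, ← Matrix.mul_kronecker_mul, ← Matrix.mul_kronecker_mul,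
        Matrix.transpose_one, one_mul, mul_one, hVv, hV₀]
    rw [FormData.transport_gram, hid, hP', Matrix.transpose_mul,
      show Matrix.reindexAlgEquiv F F e'
        ((Matrix.reindexAlgEquiv F F e.symm (W : Matrix _ _ F))ᵀ * (P : Matrix (Fin n) (Fin n) F)ᵀ *
          ((pData hQ).gram : Matrix (Fin n) (Fin n) F) * ((P : Matrix (Fin n) (Fin n) F) *
            Matrix.reindexAlgEquiv F F e.symm (W : Matrix _ _ F))) =
        Matrix.reindexAlgEquiv F F e' (Matrix.reindexAlgEquiv F F e.symm (W : Matrix _ _ F)ᵀ *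
          ((P : Matrix (Fin n) (Fin n) F)ᵀ * ((pData hQ).gram : Matrix (Fin n) (Fin n) F) *
            (P : Matrix (Fin n) (Fin n) F)) * Matrix.reindexAlgEquiv F F e.symm (W : Matrix _ _ F)) by
        congr 1
        rw [show (Matrix.reindexAlgEquiv F F e.symm (W : Matrix _ _ F))ᵀ =
          Matrix.reindexAlgEquiv F F e.symm (W : Matrix _ _ F)ᵀ from rfl]
        simp only [mul_assoc],
      h0, ← map_mul, ← map_mul, h1, hH₁v, hH₂v]
    ext ⟨i, a⟩ ⟨j, b⟩
    simp [e', μ, hJ4, hK₂, Matrix.kroneckerMap_apply]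
    ring
  have halt : ∀ {l : ℕ} (G : GL (Fin l) F), (G : Matrix (Fin l) (Fin l) F)ᵀ = -(G : Matrix (Fin l) (Fin l) F) →
      (∀ x, gramForm (G : Matrix (Fin l) (Fin l) F) x x = 0) ∧
        Geo.IsSymplecticForm (gramForm (G : Matrix (Fin l) (Fin l) F)) := by
    intro l G hT'
    have hd : ∀ i, (G : Matrix (Fin l) (Fin l) F) i i = 0 := fun i => by
      have h := congrFun (congrFun hT' i) i
      simp only [Matrix.transpose_apply, Matrix.neg_apply] at h
      exact (mul_eq_zero.mp (show (2 : F) * (G : Matrix (Fin l) (Fin l) F) i i = 0 by linear_combination h)).resolve_left h2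
    refine ⟨MaxSub.Asch.gramForm_self_eq_zero hT' hd, MaxSub.Asch.gramForm_bilinear _, fun v w => ?_,
      MaxSub.Asch.gramForm_self_eq_zero hT' hd, MaxSub.Asch.gramForm_nondegenerate G.isUnit⟩
    rw [MaxSub.Asch.gramForm_swap _ v w, hT']
    simp [gramForm, Matrix.neg_mulVec]
  have hJT : (J2 : Matrix (Fin 2) (Fin 2) F)ᵀ = -J2 := by
    ext i j; fin_cases i <;> fin_cases j <;> simp [J2]
  obtain ⟨hH₁0, hH₁s⟩ := halt H₁ (by rw [hH₁v, hJT])
  obtain ⟨-, hH₂s⟩ := halt H₂ (by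
    rw [hH₂v, hK₂, Matrix.transpose_submatrix, ← Matrix.kroneckerMap_transpose, hT, hJT]
    ext i j; simp [Matrix.kroneckerMap_apply])
  refine ⟨e', P', _, _, hH₁s, hH₂s, tensorForm hQ e' P' hgram', fun x y => ?_, fun g hg => ?_⟩
  · have h := polar_pureVec hQ e' P' hgram' x x y y
    rw [hH₁0, zero_mul, polar_self, nsmul_eq_mul, Nat.cast_ofNat] at h
    exact (mul_eq_zero.mp h).resolve_left h2
  obtain ⟨A, B, c, hc0, hgv, hA, hB⟩ := exists_factors (pData hQ) rfl (fun g hg => gram_of_iso hQ (hH hg))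
    (by norm_num) (by norm_num) hle hgram g hg
  -- the second factor in the frame
  set C : Matrix (Fin 4) (Fin 4) F :=
    ((V⁻¹ : GL (Fin 4) F) : Matrix (Fin 4) (Fin 4) F) * (B : Matrix (Fin 4) (Fin 4) F) * V₀ with hC
  have hVC : V₀ * C = (B : Matrix (Fin 4) (Fin 4) F) * V₀ := by
    rw [hC, ← mul_assoc, ← mul_assoc, ← hVv, Units.mul_inv, one_mul]
  set Cm : Matrix (Fin 2 × Fin 2) (Fin 2 × Fin 2) F := C.submatrix τ.symm τ.symm with hCm
  have hCJ : Cmᵀ * ((J2 : Matrix (Fin 2) (Fin 2) F) ⊗ₖ J2) * Cm = c⁻¹ • ((J2 : Matrix (Fin 2) (Fin 2) F) ⊗ₖ J2) := by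
    have h : Cᵀ * J4 * C = c⁻¹ • J4 := by
      rw [← hV₀, show Cᵀ * (V₀ᵀ * (G₂ : Matrix (Fin 4) (Fin 4) F) * V₀) * C =
        (V₀ * C)ᵀ * (G₂ : Matrix (Fin 4) (Fin 4) F) * (V₀ * C) by
        simp only [Matrix.transpose_mul, mul_assoc], hVC,
        show ((B : Matrix (Fin 4) (Fin 4) F) * V₀)ᵀ * (G₂ : Matrix (Fin 4) (Fin 4) F) * ((B : Matrix (Fin 4) (Fin 4) F) * V₀) =
          V₀ᵀ * ((B : Matrix (Fin 4) (Fin 4) F)ᵀ * (G₂ : Matrix (Fin 4) (Fin 4) F) * (B : Matrix (Fin 4) (Fin 4) F)) * V₀ by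
        simp only [Matrix.transpose_mul, mul_assoc], hB, Matrix.mul_smul, Matrix.smul_mul]
    have h' : (Cᵀ * J4 * C).submatrix τ.symm τ.symm = (c⁻¹ • J4).submatrix τ.symm τ.symm :=
      congrArg (fun M : Matrix (Fin 4) (Fin 4) F => M.submatrix τ.symm τ.symm) h
    rw [← Matrix.submatrix_mul_equiv _ _ τ.symm τ.symm, ← Matrix.submatrix_mul_equiv _ _ τ.symm τ.symm] at h'
    rw [hCm, Matrix.transpose_submatrix]
    convert h' using 2
    · simp [hJ4]
    · rw [hJ4]
      ext p q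
      simp
  obtain ⟨a₁, a₂, hsplit⟩ := Aschbacher.similitude_J2_pair h2 (C := Cm) (inv_ne_zero hc0) fun x y => by
    rw [MaxSub.Asch.gramForm_comp, hCJ]
    simp [gramForm, Matrix.smul_mulVec]
  rcases hsplit with hsplit | hsplit
  · have hCm' : Cm = (a₁ : Matrix (Fin 2) (Fin 2) F) ⊗ₖ (a₂ : Matrix (Fin 2) (Fin 2) F) := by
      ext p q
      have h := congrFun (hsplit q) p
      simp [pvec] at h
      rw [h, Matrix.kroneckerMap_apply]
    set K : Matrix (Fin 6) (Fin 6) F :=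
      ((A : Matrix (Fin 3) (Fin 3) F) ⊗ₖ (a₂ : Matrix (Fin 2) (Fin 2) F)).submatrix r r with hK
    have hKdet : K.det ≠ 0 := by
      rw [hK, Matrix.det_submatrix_equiv_self, Matrix.det_kronecker]
      exact mul_ne_zero (pow_ne_zero _ ((Matrix.isUnit_iff_isUnit_det _).mp A.isUnit).ne_zero)
        (pow_ne_zero _ ((Matrix.isUnit_iff_isUnit_det _).mp a₂.isUnit).ne_zero)
    obtain ⟨h, hh⟩ := MaxSub.Asch.exists_tr_preimage e' P' g
    refine MaxSub.Asch.mem_transport e' P' (h := h)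
      ⟨a₁, Matrix.GeneralLinearGroup.mkOfDetNeZero K hKdet, (tr e' P').injective ?_⟩ hh
    rw [← hh, hgv, htr]
    congr 1
    have hμ : ((a₁ : Matrix (Fin 2) (Fin 2) F) ⊗ₖ K).submatrix μ μ = (A : Matrix (Fin 3) (Fin 3) F) ⊗ₖ C := by
      ext ⟨a, k⟩ ⟨a', l⟩
      have h1 := congrFun (congrFun hCm' (τ k)) (τ l)
      simp [hCm] at h1
      simp [μ, hK, Matrix.kroneckerMap_apply, h1]
      ring
    show _ = (W : Matrix _ _ F) * ((a₁ : Matrix (Fin 2) (Fin 2) F) ⊗ₖ K).submatrix μ μ *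
      ((W⁻¹ : GL (Fin 3 × Fin 4) F) : Matrix _ _ F)
    rw [hμ]
    show _ = ((1 : Matrix (Fin 3) (Fin 3) F) ⊗ₖ (V : Matrix (Fin 4) (Fin 4) F)) * _ *
      ((1 : Matrix (Fin 3) (Fin 3) F) ⊗ₖ ((V⁻¹ : GL (Fin 4) F) : Matrix (Fin 4) (Fin 4) F))
    rw [← Matrix.mul_kronecker_mul, ← Matrix.mul_kronecker_mul, one_mul, mul_one, hVv, hVC, mul_assoc, ← hVv,
      Units.mul_inv, mul_one]
  · -- the exchange has the wrong determinant
    exfalso
    set d₁ := (a₁ : Matrix (Fin 2) (Fin 2) F).det with hd₁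
    set d₂ := (a₂ : Matrix (Fin 2) (Fin 2) F).det with hd₂
    let sw : Equiv.Perm (Fin 2 × Fin 2) := Equiv.prodComm _ _
    have hCm' : Cm = ((a₁ : Matrix (Fin 2) (Fin 2) F) ⊗ₖ (a₂ : Matrix (Fin 2) (Fin 2) F)).submatrix id sw := by
      ext p q
      have h := congrFun (hsplit q) p
      simp [pvec] at h
      rw [h]
      simp [sw, Matrix.kroneckerMap_apply]
    have hμ : d₁ * d₂ = c⁻¹ := by
      have h : (((a₁ : Matrix (Fin 2) (Fin 2) F) ⊗ₖ (a₂ : Matrix (Fin 2) (Fin 2) F))ᵀ *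
          ((J2 : Matrix (Fin 2) (Fin 2) F) ⊗ₖ J2) *
          ((a₁ : Matrix (Fin 2) (Fin 2) F) ⊗ₖ (a₂ : Matrix (Fin 2) (Fin 2) F))).submatrix sw sw =
            c⁻¹ • ((J2 : Matrix (Fin 2) (Fin 2) F) ⊗ₖ J2) := by
        rw [← hCJ, hCm', Matrix.transpose_submatrix]
        ext p q
        simp [Matrix.mul_apply]
      rw [← Matrix.kroneckerMap_transpose, ← Matrix.mul_kronecker_mul, ← Matrix.mul_kronecker_mul, J2_conj,
        J2_conj, ← hd₁, ← hd₂] at h
      have h' := congrFun (congrFun h (0, 0)) (1, 1)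
      simpa [sw, J2, Matrix.kroneckerMap_apply, mul_comm d₂] using h'
    have hBd : (B : Matrix (Fin 4) (Fin 4) F).det = -(c⁻¹ * c⁻¹) := by
      have h1 : C.det = (B : Matrix (Fin 4) (Fin 4) F).det := by
        have h := congrArg Matrix.det hVC
        rw [Matrix.det_mul V₀ C, Matrix.det_mul (B : Matrix (Fin 4) (Fin 4) F) V₀, mul_comm] at h
        exact mul_right_cancel₀ hVdet h
      have hsw : ((Equiv.Perm.sign sw : ℤˣ) : ℤ) = -1 := by decide
      rw [← h1, ← Matrix.det_submatrix_equiv_self τ.symm C, ← hCm, hCm', Matrix.det_permute', hsw,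
        Matrix.det_kronecker, ← hd₁, ← hd₂, ← hμ, Fintype.card_fin]
      push_cast
      ring
    have hgd : (g : Matrix (Fin n) (Fin n) F).det = 1 := by
      have := congrArg Units.val (MonoidHom.mem_ker.mp (hS' hg))
      rwa [Matrix.GeneralLinearGroup.val_det_apply] at this
    rw [hgv, tr_apply, Matrix.det_units_conj, Matrix.reindexAlgEquiv_apply, Matrix.det_reindex_self,
      Matrix.det_kronecker, hBd, Fintype.card_fin, Fintype.card_fin] at hgd
    have hAd : (A : Matrix (Fin 3) (Fin 3) F).det ^ 2 = c ^ 3 := by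
      have h1 := congrArg Matrix.det hA
      rw [Matrix.det_mul, Matrix.det_mul, Matrix.det_transpose, Matrix.det_smul, Fintype.card_fin] at h1
      exact mul_right_cancel₀ ((Matrix.isUnit_iff_isUnit_det _).mp G₁.isUnit).ne_zero (by rw [← h1]; ring)
    rw [show (A : Matrix (Fin 3) (Fin 3) F).det ^ 4 = (c ^ 3) ^ 2 by rw [← hAd]; ring] at hgd
    have hne : (-1 : F) = 1 := by
      have h1 : (c ^ 3) ^ 2 * (-(c⁻¹ * c⁻¹)) ^ 3 = -1 := by field_simp
      exact h1.symm.trans hgd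
    exact h2 (by linear_combination -hne)

omit hH hQ in
/-- Over two elements the normaliser of a product with a plane normalises a field of four elements. -/
theorem tensor_two_field (hq : Fintype.card F = 2) {b : ℕ} (hb : 0 < b) (e : Fin n ≃ Fin 2 × Fin b)
    (P : GL (Fin n) F) :
    ∃ K : Subalgebra F (Matrix (Fin n) (Fin n) F), Geo.IsFieldSubalgebra 2 K ∧
      Geo.tensorProductSubgroup 2 b e P ≤ Geo.subalgebraNormalizer K := by
  classical
  haveI : Nonempty (Fin b) := ⟨⟨0, hb⟩⟩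
  haveI : Nonempty (Fin n) := ⟨e.symm (0, ⟨0, hb⟩)⟩
  have h2 : (2 : F) = 0 := Aschbacher.two_eq_zero_of_not_odd (by rw [hq]; decide)
  have h01 : ∀ c : F, c = 0 ∨ c = 1 := fun c => by
    rcases eq_or_ne c 0 with h | h
    · exact Or.inl h
    · have := FiniteField.pow_card_sub_one_eq_one c h
      rw [hq, pow_one] at this
      exact Or.inr this
  let w : Matrix (Fin 2) (Fin 2) F := !![0, 1; 1, 1]
  have hww : w * w = 1 + w := by
    ext i j
    fin_cases i <;> fin_cases j <;> simp [w, Matrix.mul_apply, Fin.sum_univ_two, h2, one_add_one_eq_two]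
  let φ : Matrix (Fin 2) (Fin 2) F →ₐ[F] Matrix (Fin n) (Fin n) F :=
    (tr e P).toAlgHom.comp
      { toFun := fun M => M ⊗ₖ (1 : Matrix (Fin b) (Fin b) F)
        map_one' := Matrix.one_kronecker_one
        map_mul' := fun A B => by rw [← Matrix.mul_kronecker_mul, one_mul]
        map_zero' := Matrix.zero_kronecker _
        map_add' := fun A B => Matrix.add_kronecker _ _ _
        commutes' := fun c => by
          show (algebraMap F (Matrix (Fin 2) (Fin 2) F) c) ⊗ₖ (1 : Matrix (Fin b) (Fin b) F) = _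
          rw [Algebra.algebraMap_eq_smul_one, Algebra.algebraMap_eq_smul_one, Matrix.smul_kronecker,
            Matrix.one_kronecker_one] }
  have hφ : ∀ M, φ M = tr e P (M ⊗ₖ (1 : Matrix (Fin b) (Fin b) F)) := fun _ => rfl
  have hinj : Function.Injective φ := φ.toRingHom.injective
  let K₂ : Subalgebra F (Matrix (Fin 2) (Fin 2) F) :=
    { carrier := {M | ∃ x y : F, M = x • 1 + y • w}
      mul_mem' := by
        rintro _ _ ⟨x, y, rfl⟩ ⟨x', y', rfl⟩
        refine ⟨x * x' + y * y', x * y' + y * x' + y * y', ?_⟩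
        simp only [add_mul, mul_add, Matrix.smul_mul, Matrix.mul_smul, one_mul, mul_one, hww, smul_smul]
        module
      one_mem' := ⟨1, 0, by simp⟩
      add_mem' := by
        rintro _ _ ⟨x, y, rfl⟩ ⟨x', y', rfl⟩
        exact ⟨x + x', y + y', by module⟩
      zero_mem' := ⟨0, 0, by simp⟩
      algebraMap_mem' := fun c => ⟨c, 0, by simp [Algebra.algebraMap_eq_smul_one]⟩ }
  have hK₂d : finrank F K₂ = 2 := by
    let f : (Fin 2 → F) →ₗ[F] Matrix (Fin 2) (Fin 2) F :=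
      (LinearMap.proj (R := F) (φ := fun _ : Fin 2 => F) 0).smulRight 1 +
        (LinearMap.proj (R := F) (φ := fun _ : Fin 2 => F) 1).smulRight w
    have hf : ∀ x, f x = x 0 • 1 + x 1 • w := fun x => rfl
    have hr : LinearMap.range f = Subalgebra.toSubmodule K₂ := by
      ext M
      constructor
      · rintro ⟨x, rfl⟩; exact ⟨x 0, x 1, hf x⟩
      · rintro ⟨x, y, rfl⟩; exact ⟨![x, y], by rw [hf]; rfl⟩
    have hfi : Function.Injective f := by
      rw [injective_iff_map_eq_zero]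
      intro x hx
      rw [hf] at hx
      have e00 := congrFun (congrFun hx 0) 0
      have e01 := congrFun (congrFun hx 0) 1
      simp [w] at e00 e01
      funext i; fin_cases i <;> assumption
    rw [← Subalgebra.finrank_toSubmodule, ← hr, LinearMap.finrank_range_of_inj hfi, Module.finrank_pi,
      Fintype.card_fin]
  refine ⟨K₂.map φ, ⟨?_, ?_, ?_⟩, ?_⟩
  · rintro _ ⟨_, ⟨x, y, rfl⟩, rfl⟩ _ ⟨_, ⟨x', y', rfl⟩, rfl⟩
    simp only [AlgHom.toRingHom_eq_coe, RingHom.coe_coe, ← map_mul]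
    congr 1
    simp only [add_mul, mul_add, Matrix.smul_mul, Matrix.mul_smul, one_mul, mul_one, hww, smul_smul]
    module
  · rintro _ ⟨_, ⟨x, y, rfl⟩, rfl⟩ h0
    rcases h01 x with rfl | rfl <;> rcases h01 y with rfl | rfl
    · simp at h0
    · refine ⟨φ (1 + w), ⟨1 + w, ⟨1, 1, by simp⟩, rfl⟩, ?_⟩
      simp only [AlgHom.toRingHom_eq_coe, RingHom.coe_coe, ← map_mul, zero_smul, one_smul, zero_add]
      rw [mul_add, mul_one, hww, ← map_one φ]
      congr 1
      rw [add_left_comm, ← two_smul F w, h2, zero_smul, add_zero]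
    · exact ⟨1, one_mem _, by simp⟩
    · refine ⟨φ w, ⟨w, ⟨0, 1, by simp⟩, rfl⟩, ?_⟩
      simp only [AlgHom.toRingHom_eq_coe, RingHom.coe_coe, ← map_mul, one_smul]
      rw [add_mul, one_mul, hww, ← map_one φ]
      congr 1
      rw [add_left_comm, ← two_smul F w, h2, zero_smul, add_zero]
  · exact ((K₂.equivMapOfInjective φ hinj).toLinearEquiv.finrank_eq).symm.trans hK₂d
  have key : ∀ g ∈ Geo.tensorProductSubgroup 2 b e P, ∀ k ∈ K₂.map φ, conjHom g k ∈ K₂.map φ := by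
    rintro g hg _ ⟨_, ⟨x, y, rfl⟩, rfl⟩
    obtain ⟨_, ⟨h, ⟨A, B, hab⟩, rfl⟩, hge⟩ := hg
    have hgv : (g : Matrix (Fin n) (Fin n) F) =
        tr e P ((A : Matrix (Fin 2) (Fin 2) F) ⊗ₖ (B : Matrix (Fin b) (Fin b) F)) := by
      rw [← hab, ← hge, ← MaxSub.Asch.tr_eq_conj_glReindex]; rfl
    obtain ⟨w', hw', hAw⟩ : ∃ w' ∈ K₂,
        (A : Matrix (Fin 2) (Fin 2) F) * w = w' * (A : Matrix (Fin 2) (Fin 2) F) := by
      have hA := ((Matrix.isUnit_iff_isUnit_det _).mp A.isUnit).ne_zero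
      rw [Matrix.det_fin_two] at hA
      by_cases h : (A : Matrix (Fin 2) (Fin 2) F) * w = w * (A : Matrix (Fin 2) (Fin 2) F)
      · exact ⟨w, ⟨0, 1, by simp⟩, h⟩
      · refine ⟨1 + w, ⟨1, 1, by simp⟩, ?_⟩
        revert hA h
        rcases h01 ((A : Matrix (Fin 2) (Fin 2) F) 0 0) with a00 | a00 <;>
          rcases h01 ((A : Matrix (Fin 2) (Fin 2) F) 0 1) with a01 | a01 <;>
          rcases h01 ((A : Matrix (Fin 2) (Fin 2) F) 1 0) with a10 | a10 <;>
          rcases h01 ((A : Matrix (Fin 2) (Fin 2) F) 1 1) with a11 | a11 <;>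
          intro hA h <;>
          (try (simp [a00, a01, a10, a11, h2, one_add_one_eq_two] at hA; done)) <;>
          (try (exfalso; refine h ?_; ext i j; fin_cases i <;> fin_cases j <;>
            simp [w, Matrix.mul_apply, Fin.sum_univ_two, a00, a01, a10, a11, h2, one_add_one_eq_two]; done)) <;>
          (ext i j; fin_cases i <;> fin_cases j <;>
            simp [w, Matrix.mul_apply, Fin.sum_univ_two, a00, a01, a10, a11, h2, one_add_one_eq_two])
    have hmem : x • 1 + y • w' ∈ K₂ := add_mem (K₂.smul_mem (one_mem _) x) (K₂.smul_mem hw' y)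
    refine ⟨x • 1 + y • w', hmem, ?_⟩
    have hsw : (g : Matrix (Fin n) (Fin n) F) * φ (x • 1 + y • w) =
        φ (x • 1 + y • w') * (g : Matrix (Fin n) (Fin n) F) := by
      rw [hgv, hφ, hφ, ← map_mul, ← map_mul, ← Matrix.mul_kronecker_mul, ← Matrix.mul_kronecker_mul, one_mul,
        mul_one]
      congr 2
      rw [mul_add, add_mul, Matrix.mul_smul, Matrix.mul_smul, Matrix.smul_mul, Matrix.smul_mul, hAw, mul_one, one_mul]
    show φ (x • 1 + y • w') = conjHom g (φ (x • 1 + y • w))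
    rw [conjHom_apply, hsw, mul_assoc, Units.mul_inv, mul_one]
  intro g hg k
  refine ⟨fun hk => key g hg k hk, fun hk => ?_⟩
  have := key g⁻¹ (inv_mem hg) _ hk
  simpa [conjHom_apply, mul_assoc] using this

end Cfsg.Agent.Aschbacher.Orth
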