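import Cfsg.Agent.Aschbacher.Orth.Main
import Cfsg.Agent.Aschbacher.Orth.Small
import Cfsg.Agent.Aschbacher.Orth.Reducible
import Cfsg.Agent.Aschbacher.Orth.Tensor34

/-!
Turning the conclusions for orthogonal groups of dimension eight, ten and twelve into lists of maximal subgroups.
-/

set_option autoImplicit false
set_option linter.unusedSectionVars false
set_option linter.style.haveILetI false

namespace Cfsg.Agent.Aschbacher.Orth

open scoped MatrixGroups Matrix Kronecker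
open Module QuadraticMap
open Cfsg.Agent.UnitaryOrthogonal
open Cfsg.Agent.Aschbacher (Inv Irr eq_inf_of_maximal)
open Cfsg.Agent.OrthFix (Sig SigOn NDOn chi sig)

variable {n : ℕ} {F : Type*} [Field F] [Fintype F] {Q : QuadraticForm F (Fin n → F)}

omit Q in
/-- In odd characteristic the character of minus one follows the residue of the order modulo four. -/
theorem chi_neg_one_or (h2 : (2 : F) ≠ 0) :
    (chi (-1 : F) = 1 ∧ Fintype.card F % 4 = 1) ∨ (chi (-1 : F) = -1 ∧ Fintype.card F % 4 = 3) := by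
  obtain ⟨j, hj⟩ := odd_card_of_two_ne_zero h2
  rcases Nat.even_or_odd j with ⟨i, hi⟩ | ⟨i, hi⟩
  · have h : Fintype.card F % 4 = 1 := by omega
    exact Or.inl ⟨(chi_neg_one h2).1.mpr h, h⟩
  · have h : Fintype.card F % 4 = 3 := by omega
    exact Or.inr ⟨(chi_neg_one h2).2.mpr h, h⟩

omit Q in
theorem card_ne_six : Fintype.card F ≠ 6 := by
  intro h
  obtain ⟨p, k, hp, -, hpk⟩ := (isPrimePow_nat_iff _).mp (FiniteField.isPrimePow_card F)
  rw [h] at hpk
  have h2 := (Nat.prime_two.dvd_of_dvd_pow (hpk ▸ (by norm_num : 2 ∣ 6)))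
  have h3 := (Nat.prime_three.dvd_of_dvd_pow (hpk ▸ (by norm_num : 3 ∣ 6)))
  have e2 := (Nat.prime_dvd_prime_iff_eq Nat.prime_two hp).mp h2
  have e3 := (Nat.prime_dvd_prime_iff_eq Nat.prime_three hp).mp h3
  omega

omit Q in
/-- The order is a prime or there is a subfield of prime index. -/
theorem prime_or_subfield :
    (Fintype.card F).Prime ∨ ∃ (F₁ : Subfield F) (r : ℕ), r.Prime ∧ Fintype.card F = Nat.card F₁ ^ r := by
  obtain ⟨p, hp⟩ := CharP.exists F
  haveI := hp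
  haveI : Fact p.Prime := ⟨CharP.char_is_prime F p⟩
  by_cases h : (⊥ : Subfield F) = ⊤
  · refine Or.inl ?_
    have h1 : Nat.card (⊥ : Subfield F) = p := Subfield.card_bot F p
    rw [h, Nat.card_congr (Subfield.topEquiv (K := F)).toEquiv, Nat.card_eq_fintype_card] at h1
    rw [h1]
    exact Fact.out
  · obtain ⟨F₁, r, hr, hc, -⟩ := exists_prime_index_above ⊥ h
    exact Or.inr ⟨F₁, r, hr, hc⟩

omit Q in
theorem subfield_ne_top {F₁ : Subfield F} {r : ℕ} (hr : r.Prime) (hc : Fintype.card F = Nat.card F₁ ^ r) :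
    F₁ ≠ ⊤ := by
  rintro rfl
  rw [Nat.card_congr (Subfield.topEquiv (K := F)).toEquiv, Nat.card_eq_fintype_card] at hc
  have h1 : 1 < Fintype.card F := Fintype.one_lt_card
  have h2 := Nat.pow_lt_pow_right h1 hr.one_lt
  rw [pow_one, ← hc] at h2
  exact lt_irrefl _ h2

theorem sigOn_cases {W : Submodule F (Fin n → F)} (hW : Geo.IsNondegenerateOn (polar ⇑Q) W) {ε : ℤ}
    (h : SigOn Q W ε) : ε = 1 ∨ ε = -1 := by
  by_cases h1 : SigOn Q W 1
  · exact Or.inl (h.unique h1)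
  · exact Or.inr (h.unique ((OrthFix.sigOn_neg_one_iff (ndOn_of _ hW)).mpr h1))

theorem dec_dims {t k : ℕ} {D : Fin t → Submodule F (Fin n → F)} (hD : Geo.IsMDecomposition k D) :
    t * k = n ∧ 2 ≤ t ∧ 0 < k :=
  ⟨(dec_card hD).trans (Fintype.card_fin n), hD.two_le, hD.pos⟩

/-- The pieces of even dimension are all of plus type or none is, and their type gives that of the space. -/
theorem dec_even (hQ : PolarND Q) {t k : ℕ} {D : Fin t → Submodule F (Fin n → F)}
    (hD : Geo.IsOrthogonalMDecomposition ⇑Q k D) (hk : Even k) :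
    ((∀ i, Geo.IsPlusTypeOn ⇑Q (D i)) ∧ Geo.IsPlusTypeOn ⇑Q ⊤) ∨
      ((∀ i, ¬ Geo.IsPlusTypeOn ⇑Q (D i)) ∧ (Geo.IsPlusTypeOn ⇑Q ⊤ ↔ Even t)) := by
  obtain ⟨ε, hε, hp, hs⟩ := dec_sig hD
  rw [decSign_even hk] at hs
  have hev : Even (Fintype.card (Fin n)) := by
    rw [← dec_card hD.decomp.decomp]; exact hk.mul_left t
  have hevi : ∀ i, Even (finrank F (D i)) := fun i => by rw [hD.decomp.decomp.finrank_eq i]; exact hk
  have key : ∀ i, Geo.IsPlusTypeOn ⇑Q (D i) ↔ ε = 1 := fun i => by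
    rw [plus_iff (ndOn_of _ (hD.decomp.nondegenerate i)) (hevi i)]
    exact ⟨fun h => (hp i).unique h, fun h => h ▸ hp i⟩
  rcases hε with rfl | rfl
  · refine Or.inl ⟨fun i => (key i).mpr rfl, (plus_top_iff hQ hev).mpr ?_⟩
    rwa [one_pow] at hs
  · refine Or.inr ⟨fun i h => absurd ((key i).mp h) (by norm_num), ?_⟩
    rw [plus_top_iff hQ hev]
    rcases Nat.even_or_odd t with ht | ht
    · rw [ht.neg_one_pow] at hs
      exact iff_of_true hs ht
    · rw [ht.neg_one_pow] at hs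
      exact iff_of_false (fun h => absurd (h.unique hs) (by norm_num)) (Nat.not_even_iff_odd.mpr ht)

/-- An even number of pieces of odd dimension. -/
theorem dec_odd (hQ : PolarND Q) {t k : ℕ} {D : Fin t → Submodule F (Fin n → F)}
    (hD : Geo.IsOrthogonalMDecomposition ⇑Q k D) (hk : Odd k) {j : ℕ} (ht : t = 2 * j) :
    Odd (Fintype.card F) ∧ (2 : F) ≠ 0 ∧ (Geo.IsPlusTypeOn ⇑Q ⊤ ↔ chi (-1 : F) ^ j = 1) := by
  obtain ⟨ε, hε, -, hs⟩ := dec_sig hD
  rw [ht, decSign_odd hk (by rcases hε with rfl | rfl <;> norm_num)] at hs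
  have hev : Even (Fintype.card (Fin n)) := by
    rw [← dec_card hD.decomp.decomp, ht]; exact (even_two_mul j).mul_right k
  have h2 : (2 : F) ≠ 0 := two_ne_zero_of_odd_piece (hD.decomp.nondegenerate ⟨0, hD.decomp.decomp.two_le.trans_lt'
    Nat.two_pos⟩) (by rw [hD.decomp.decomp.finrank_eq]; exact hk)
  refine ⟨odd_card_of_two_ne_zero h2, h2, ?_⟩
  rw [plus_top_iff hQ hev]
  exact ⟨fun h => hs.unique h, fun h => h ▸ hs⟩

/-- A subfield of index two forces plus type. -/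
theorem odd_index (hQ : PolarND Q) (hev : Even n) (hn0 : 0 < n) (hminus : ¬ Geo.IsPlusTypeOn ⇑Q ⊤) {F₀ : Subfield F} {r : ℕ}
    (hr : r.Prime) (hc : Fintype.card F = Nat.card F₀ ^ r) {P : GL (Fin n) F} {ζ : F} (hζ : ζ ≠ 0)
    (hP : Geo.IsQuadFormRationalStructure (fun v : Fin n → F => ζ * Q v) F₀ P) : Odd r := by
  rcases hr.eq_two_or_odd' with rfl | h
  · exact absurd (plus_of_rational hQ hev hn0 hc hζ hP) hminus
  · exact h

variable (hQ : PolarND Q) (hn : 7 ≤ n) {H : Subgroup (GL (Fin n) F)} (hH : Geo.IsMaximalIn (Geo.omegaGL ⇑Q) H)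

include hQ hn hH

theorem le_iso : H ≤ isometryGroup F ⇑Q := hH.1.le.trans omega_le_isometry

theorem le_special : H ≤ Geo.specialLinear (Fin n) F := hH.1.le.trans (Aschbacher.omegaGL_le_specialLinear _)

theorem eq_dec {t k : ℕ} {D : Fin t → Submodule F (Fin n → F)} (hD : Geo.IsMDecomposition k D)
    (hle : H ≤ Geo.decompositionStabilizer D) : H = Geo.decompositionStabilizer D ⊓ Geo.omegaGL ⇑Q :=
  eq_inf_of_maximal hH hle (not_le_decompositionStabilizer hQ ((Fintype.card_fin n).symm ▸ hn) hD)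

theorem eq_field {r : ℕ} {K : Subalgebra F (Matrix (Fin n) (Fin n) F)} (hK : Geo.IsFieldSubalgebra r K)
    (hr : 2 ≤ r) (hle : H ≤ Geo.subalgebraNormalizer K) : H = Geo.subalgebraNormalizer K ⊓ Geo.omegaGL ⇑Q :=
  eq_inf_of_maximal hH hle (not_le_subalgebraNormalizer hQ ((Fintype.card_fin n).symm ▸ hn) hK hr)

theorem eq_subfield {F₁ : Subfield F} {r : ℕ} (hr : r.Prime) (hc : Fintype.card F = Nat.card F₁ ^ r)
    {P : GL (Fin n) F} (hle : H ≤ Geo.subfieldSubgroup F₁ P) :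
    H = Geo.subfieldSubgroup F₁ P ⊓ Geo.omegaGL ⇑Q :=
  eq_inf_of_maximal hH hle (not_le_subfieldSubgroup hQ ((Fintype.card_fin n).symm ▸ hn) (subfield_ne_top hr hc) P)

theorem eq_tensor {a b : ℕ} (ha : 1 ≤ a) (hb : 3 ≤ b) (hab : a + b + 1 < n) {e : Fin n ≃ Fin a × Fin b}
    {P : GL (Fin n) F} (hle : H ≤ Geo.tensorProductSubgroup a b e P) :
    H = Geo.tensorProductSubgroup a b e P ⊓ Geo.omegaGL ⇑Q :=
  eq_inf_of_maximal hH hle (not_le_tensorProductSubgroup hQ ((Fintype.card_fin n).symm ▸ hn) ha hb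
    ((Fintype.card_fin n).symm ▸ hab) e P)

theorem le_refined {t t' : ℕ} {D : Fin t → Submodule F (Fin n → F)} {D' : Fin t' → Submodule F (Fin n → F)}
    (hle : H ≤ Geo.decompositionStabilizer D)
    (h : Geo.decompositionStabilizer D ⊓ isometryGroup F ⇑Q ≤ Geo.decompositionStabilizer D') :
    H ≤ Geo.decompositionStabilizer D' :=
  (le_inf hle (le_iso hQ hn hH)).trans h

/-- The subgroup is given by a subfield of prime index. -/
def SubfieldCase (Q : QuadraticForm F (Fin n → F)) (H : Subgroup (GL (Fin n) F)) : Prop :=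
  ∃ (F₀ : Subfield F) (r : ℕ) (P : GL (Fin n) F) (ζ : F), r.Prime ∧ Fintype.card F = Nat.card F₀ ^ r ∧ ζ ≠ 0 ∧
    Geo.IsQuadFormRationalStructure (fun v : Fin n → F => ζ * Q v) F₀ P ∧
    H = Geo.subfieldSubgroup F₀ P ⊓ Geo.omegaGL ⇑Q

/-- The subgroup is given by lines, over a prime field. -/
theorem lines_case {D : Fin n → Submodule F (Fin n → F)} (hD : Geo.IsOrthogonalMDecomposition ⇑Q 1 D)
    (hle : H ≤ Geo.decompositionStabilizer D) :
    ((Fintype.card F).Prime ∧ H = Geo.decompositionStabilizer D ⊓ Geo.omegaGL ⇑Q) ∨ SubfieldCase Q H := by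
  rcases prime_or_subfield (F := F) with hp | ⟨F₁, r, hr, hc⟩
  · exact Or.inl ⟨hp, eq_dec hQ hn hH hD.decomp.decomp hle⟩
  · obtain ⟨P, ζ, hζ, hP, hle'⟩ := lines_subfield (le_iso hQ hn hH) hD hle F₁
    exact Or.inr ⟨F₁, r, P, ζ, hr, hc, hζ, hP, eq_subfield hQ hn hH hr hc hle'⟩

/-- The subgroup is given by planes or by lines or by a subfield. -/
theorem planes_case (hirr : Irr H) {t : ℕ} {D : Fin t → Submodule F (Fin n → F)}
    (hD : Geo.IsOrthogonalMDecomposition ⇑Q 2 D) (hle : H ≤ Geo.decompositionStabilizer D) :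
    ((∀ i, Geo.IsPlusTypeOn ⇑Q (D i)) ∧ 7 ≤ Fintype.card F ∧
      H = Geo.decompositionStabilizer D ⊓ Geo.omegaGL ⇑Q) ∨
    ((∀ i, ¬ Geo.IsPlusTypeOn ⇑Q (D i)) ∧ Fintype.card F ≠ 3 ∧
      H = Geo.decompositionStabilizer D ⊓ Geo.omegaGL ⇑Q) ∨
    (∃ D' : Fin n → Submodule F (Fin n → F), Geo.IsOrthogonalMDecomposition ⇑Q 1 D' ∧
      H ≤ Geo.decompositionStabilizer D') ∨ SubfieldCase Q H := by
  have hiso := le_iso hQ hn hH
  obtain ⟨rfl, -, -⟩ := dec_dims hD.decomp.decomp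
  rcases dec_even hQ hD even_two with ⟨hp, -⟩ | ⟨hm, -⟩
  · have hq : 1 < Fintype.card F := Fintype.one_lt_card
    by_cases h3 : Fintype.card F ≤ 3
    · exact (planes_plus_false hiso hirr hD hp hle h3).elim
    by_cases h4 : Fintype.card F = 4
    · obtain ⟨F₁, P, hc, hP, hle'⟩ := planes_four hiso hD hp hle h4
      have hc' : Fintype.card F = Nat.card F₁ ^ 2 := by rw [hc, h4]; rfl
      exact Or.inr (Or.inr (Or.inr ⟨F₁, 2, P, 1, Nat.prime_two, hc', one_ne_zero, hP,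
        eq_subfield hQ hn hH Nat.prime_two hc' hle'⟩))
    by_cases h5 : Fintype.card F = 5
    · obtain ⟨D', hD', hle'⟩ := planes_five hD hp h5
      exact Or.inr (Or.inr (Or.inl ⟨D', hD', le_refined hQ hn hH hle hle'⟩))
    have h6 := card_ne_six (F := F)
    exact Or.inl ⟨hp, by omega, eq_dec hQ hn hH hD.decomp.decomp hle⟩
  · by_cases h3 : Fintype.card F = 3
    · obtain ⟨D', hD', hle'⟩ := planes_three hD hm h3
      exact Or.inr (Or.inr (Or.inl ⟨D', hD', le_refined hQ hn hH hle hle'⟩))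
    · exact Or.inr (Or.inl ⟨hm, h3, eq_dec hQ hn hH hD.decomp.decomp hle⟩)

/-- A stabiliser of a half-dimensional non-degenerate subspace. -/
theorem half_case {W : Submodule F (Fin n → F)} (hW : Geo.IsNondegenerateOn (polar ⇑Q) W) {k : ℕ}
    (hk : finrank F W = k) (h2k : 2 * k = n) (hle : H ≤ Geo.subspaceStabilizer W) :
    ∃ (D : Fin 2 → Submodule F (Fin n → F)) (ε ε' : ℤ), Geo.IsNondegenerateMDecomposition (polar ⇑Q) k D ∧
      (ε = 1 ∨ ε = -1) ∧ (ε' = 1 ∨ ε' = -1) ∧ Sig Q (ε * ε' * sig F k k) ∧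
      H = Geo.decompositionStabilizer D ⊓ Geo.omegaGL ⇑Q ∧
      (ε = ε' → Geo.IsOrthogonalMDecomposition ⇑Q k D) ∧
      (ε ≠ ε' → ¬ Geo.AreIsometricFor ⇑Q (D 0) (D 1)) := by
  obtain ⟨D, hD, h0, h1, heq⟩ := half_pair hQ ((Fintype.card_fin n).symm ▸ hn) hH hW hk
    ((Fintype.card_fin n).symm ▸ h2k) hle
  obtain ⟨ε, ε', hs, hs', hS⟩ := pair_sig hQ hW
  rw [← h1, hD.decomp.finrank_eq, hk] at hS
  rw [← h0] at hs
  rw [← h1] at hs'
  refine ⟨D, ε, ε', hD, sigOn_cases (hD.nondegenerate 0) hs, sigOn_cases (hD.nondegenerate 1) hs', hS, heq,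
    fun he => ⟨hD, fun i j => ?_⟩, fun hne hi => hne ((sigOn_of_isometric hi hs).unique hs')⟩
  have hsame : ∀ i, SigOn Q (D i) ε := Fin.forall_fin_two.mpr ⟨hs, he ▸ hs'⟩
  exact isometric_of_sig (ndOn_of _ (hD.nondegenerate i)) (ndOn_of _ (hD.nondegenerate j)) (hsame i) (hsame j)
    (by rw [hD.decomp.finrank_eq, hD.decomp.finrank_eq])

/-- In dimension twice an odd number an irreducible subgroup of Ω stabilises no pair of singular halves. -/
theorem false_of_ts_pair (hirr : Irr H) {m : ℕ} (hm : Odd m) (hn2 : n = 2 * m) {k : ℕ}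
    {D : Fin 2 → Submodule F (Fin n → F)} (hD : Geo.IsMDecomposition k D)
    (hts : ∀ i, Geo.IsTotallySingularQuad ⇑Q (D i)) (hle : H ≤ Geo.decompositionStabilizer D) : False := by
  obtain ⟨hk, -, hk0⟩ := dec_dims hD
  obtain rfl : k = m := by omega
  have hfix : ¬ ∀ g ∈ H, (D 0).map (Matrix.toLin' (g : Matrix (Fin n) (Fin n) F)) = D 0 := by
    intro hall
    rcases hirr (D 0) (fun g hg v hv => by
      rw [← hall g hg]
      exact ⟨v, hv, Matrix.toLin'_apply _ _⟩) with h | h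
    · have := hD.finrank_eq 0; rw [h, finrank_bot] at this; omega
    · have := hD.finrank_eq 0; rw [h, finrank_top, Module.finrank_pi, Fintype.card_fin] at this; omega
  push Not at hfix
  obtain ⟨g, hg, hne⟩ := hfix
  obtain ⟨σ, hσ⟩ := hle hg
  have h01 : σ 0 = 1 := by
    have hh : σ 0 ≠ 0 := fun h => hne (by rw [hσ, h])
    revert hh
    generalize σ 0 = x
    fin_cases x <;> simp
  refine no_swap hQ (by rw [Fintype.card_fin]; omega) (hts 0)
    (by rw [hD.finrank_eq, Fintype.card_fin]; omega) (by rw [hD.finrank_eq]; exact hm)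
    (disjoint_iff.mp (hD.indep.pairwiseDisjoint (show (0 : Fin 2) ≠ 1 by decide))) (hH.1.le hg) ?_
  rw [hσ, h01]

end Cfsg.Agent.Aschbacher.Orth
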