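import Cfsg.Agent.Aschbacher.Orth.Bad
import Cfsg.Agent.MaxSub.Asch.Rationality

/-!
A normal absolutely irreducible subgroup realisable over a subfield gives a rational structure carrying the form.
-/

set_option autoImplicit false
set_option linter.unusedSectionVars false
set_option linter.style.haveILetI false

namespace Cfsg.Agent.Aschbacher.Orth

open scoped MatrixGroups Matrix
open Module QuadraticMap
open Cfsg.Agent.UnitaryOrthogonal
open Cfsg.Agent.Aschbacher (Inv Irr NormalIn Rational irr_iff)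

variable {n : ℕ} {F : Type*} [Field F]

theorem rational_sum {F₁ : Subfield F} {M : Matrix (Fin n) (Fin n) F} (hM : Rational F₁ M) {u : Fin n → F}
    (hu : ∀ i, u i ∈ F₁) (i : Fin n) : (M *ᵥ u) i ∈ F₁ :=
  Subfield.sum_mem F₁ (t := Finset.univ) (f := fun j => M i j * u j) fun j _ => mul_mem (hM i j) (hu j)

variable [Fintype F] {Q : QuadraticForm F (Fin n → F)}

/-- A rational structure of the polar form under an irreducible rational group carries the form. -/
theorem quad_rational {F₁ : Subfield F} {B : GL (Fin n) F} {c : F} {P : Subgroup (GL (Fin n) F)}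
    (hP : P ≤ isometryGroup F ⇑Q) (hirr : Irr P) (hn : 2 ≤ n)
    (hrat : ∀ s ∈ P, Rational F₁ ((B * s * B⁻¹ : GL (Fin n) F) : Matrix (Fin n) (Fin n) F))
    (hpol : ∀ u v : Fin n → F, (∀ i, u i ∈ F₁) → (∀ i, v i ∈ F₁) →
      c * polar Q (((B⁻¹ : GL (Fin n) F) : Matrix (Fin n) (Fin n) F) *ᵥ u)
        (((B⁻¹ : GL (Fin n) F) : Matrix (Fin n) (Fin n) F) *ᵥ v) ∈ F₁) :
    Geo.IsQuadFormRationalStructure (fun v : Fin n → F => c * Q v) F₁ B⁻¹ := by
  classical
  haveI : Nonempty (Fin n) := ⟨⟨0, by omega⟩⟩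
  set Bi := ((B⁻¹ : GL (Fin n) F) : Matrix (Fin n) (Fin n) F) with hBi
  intro u hu
  show c * Q (Bi *ᵥ u) ∈ F₁
  by_cases h2 : (2 : F) = 0
  swap
  · have h := hpol u u hu hu
    rw [polar_self, nsmul_eq_mul, Nat.cast_ofNat] at h
    have h3 := mul_mem h (inv_mem (show (2 : F) ∈ F₁ by rw [← one_add_one_eq_two]; exact add_mem (one_mem _) (one_mem _)))
    rwa [show c * (2 * Q (Bi *ᵥ u)) * 2⁻¹ = c * Q (Bi *ᵥ u) by field_simp] at h3
  let S : Submodule F₁ (Fin n → F) :=
    { carrier := {w | (∀ i, w i ∈ F₁) ∧ c * Q (Bi *ᵥ w) ∈ F₁}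
      add_mem' := fun {a b} ha hb => ⟨fun i => add_mem (ha.1 i) (hb.1 i), by
        rw [Matrix.mulVec_add, form_add, mul_add, mul_add]
        exact add_mem (add_mem ha.2 hb.2) (hpol a b ha.1 hb.1)⟩
      zero_mem' := ⟨fun i => zero_mem _, by simp⟩
      smul_mem' := fun a w hw => ⟨fun i => by
        show (a : F) * w i ∈ F₁
        exact mul_mem a.2 (hw.1 i), by
        rw [show a • w = (a : F) • w from rfl, Matrix.mulVec_smul, form_smul,
          show c * ((a : F) * a * Q (Bi *ᵥ w)) = (a : F) * a * (c * Q (Bi *ᵥ w)) by ring]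
        exact mul_mem (mul_mem a.2 a.2) hw.2⟩ }
  let W : Submodule F (Fin n → F) := Submodule.span F (S : Set (Fin n → F))
  let U : Submodule F (Fin n → F) := W.map (Matrix.toLin' Bi)
  -- differences lie in the span
  have hdiff : ∀ s ∈ P, ∀ x, (s : Matrix (Fin n) (Fin n) F) *ᵥ x - x ∈ U := by
    intro s hs x
    set s' := ((B * s * B⁻¹ : GL (Fin n) F) : Matrix (Fin n) (Fin n) F) with hs'
    have he : ∀ w, Bi *ᵥ (s' *ᵥ w) = (s : Matrix (Fin n) (Fin n) F) *ᵥ (Bi *ᵥ w) := fun w => by
      rw [Matrix.mulVec_mulVec, Matrix.mulVec_mulVec, hBi, hs', ← Units.val_mul, ← Units.val_mul]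
      congr 2
      group
    have hkey : ∀ w : Fin n → F, s' *ᵥ w - w ∈ W := by
      intro w
      have hsingle : ∀ i, s' *ᵥ Pi.single i 1 - Pi.single i 1 ∈ W := fun i => by
        have hr : ∀ j, (Pi.single i (1 : F) : Fin n → F) j ∈ F₁ := fun j => by
          rcases eq_or_ne j i with rfl | h <;> simp [*, one_mem, zero_mem]
        refine Submodule.subset_span ⟨fun j => sub_mem (rational_sum (hrat s hs) hr j) (hr j), ?_⟩
        have hneg : ∀ v : Fin n → F, -v = v := fun v => neg_eq_of_add_eq_zero_left (by rw [← two_smul F v, h2, zero_smul])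
        rw [sub_eq_add_neg, hneg, Matrix.mulVec_add, form_add, he, iso_map (hP hs), ← two_mul, h2, zero_mul, zero_add,
          ← he]
        exact hpol _ _ (fun j => rational_sum (hrat s hs) hr j) hr
      have hlin : s' *ᵥ w - w = ∑ i, w i • (s' *ᵥ Pi.single i 1 - Pi.single i 1) := by
        conv_lhs => rw [pi_eq_sum_univ' w]
        simp [Matrix.mulVec_sum, Matrix.mulVec_smul, smul_sub, Finset.sum_sub_distrib]
      rw [hlin]
      exact Submodule.sum_mem _ fun i _ => Submodule.smul_mem _ _ (hsingle i)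
    refine ⟨_, hkey ((B : Matrix (Fin n) (Fin n) F) *ᵥ x), ?_⟩
    rw [Matrix.toLin'_apply, Matrix.mulVec_sub, he]
    simp [hBi, Matrix.mulVec_mulVec]
  have hU : U = ⊤ := by
    refine (hirr U fun s hs x hx => by simpa using add_mem (hdiff s hs x) hx).resolve_left fun hb => ?_
    refine Aschbacher.irr_not_le_scalars hirr (by rw [Fintype.card_fin]; omega) fun s hs =>
      Aschbacher.mem_scalars_of_smul (c := 1) ?_
    rw [one_smul]
    refine Matrix.ext_of_mulVec_single fun i => ?_
    rw [Matrix.one_mulVec]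
    exact sub_eq_zero.mp ((Submodule.eq_bot_iff U).mp hb _ (hdiff s hs _))
  have huW : u ∈ W := by
    have h : Bi *ᵥ u ∈ U := hU ▸ Submodule.mem_top
    obtain ⟨w, hw, hwe⟩ := h
    rw [Matrix.toLin'_apply] at hwe
    rwa [← Aschbacher.mulVec_gl_inj B⁻¹ (show Bi *ᵥ w = Bi *ᵥ u from hwe)]
  -- descend the coefficients to the subfield
  obtain ⟨π, hπ⟩ := LinearMap.exists_leftInverse_of_injective (Algebra.linearMap F₁ F)
    (LinearMap.ker_eq_bot.mpr (algebraMap F₁ F).injective)
  have hπ' : ∀ a : F₁, π (a : F) = a := fun a => LinearMap.congr_fun hπ a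
  have hdesc : ∀ w ∈ W, ∀ b : F, (fun i => ((π (b * w i) : F₁) : F)) ∈ S := by
    intro w hw
    induction hw using Submodule.span_induction with
    | mem x hx =>
      intro b
      have : (fun i => ((π (b * x i) : F₁) : F)) = (π b) • x := by
        funext i
        have h1 : b * x i = (⟨x i, hx.1 i⟩ : F₁) • b := mul_comm _ _
        rw [h1, map_smul]
        show ((⟨x i, hx.1 i⟩ * π b : F₁) : F) = (π b : F) * x i
        exact mul_comm _ _
      rw [this]
      exact S.smul_mem _ hx
    | zero => intro b; simp only [Pi.zero_apply, mul_zero, map_zero]; exact S.zero_mem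
    | add x y _ _ hx hy =>
      intro b
      have := S.add_mem (hx b) (hy b)
      convert this using 1
      funext i
      simp [mul_add]
    | smul a x _ hx =>
      intro b
      simpa [mul_assoc] using hx (b * a)
  have h := hdesc u huW 1
  have he : (fun i => ((π (1 * u i) : F₁) : F)) = u := funext fun i => by
    rw [one_mul, show u i = ((⟨u i, hu i⟩ : F₁) : F) from rfl, hπ']
  rw [he] at h
  exact h.2

/-- A realisable normal subgroup gives a subfield structure. -/
theorem conc_of_realisable (hQ : PolarND Q) {H : Subgroup (GL (Fin n) F)} (hn : 2 ≤ n) {P : Subgroup (GL (Fin n) F)}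
    (hPI : P ≤ isometryGroup F ⇑Q) (hnP : NormalIn P H) (habs : Geo.ActsAbsolutelyIrreducibly (Geo.matrixSet P))
    {F₀ : Subfield F} (hF₀ : F₀ ≠ ⊤) (hreal : Geo.RealisableOver F₀ (Geo.matrixSet P)) : Conc Q H := by
  classical
  haveI : Nonempty (Fin n) := ⟨⟨0, by omega⟩⟩
  obtain ⟨B, hB⟩ := hreal
  obtain ⟨F₁, r, hr, hcard, hle⟩ := Aschbacher.exists_prime_index_above F₀ hF₀
  have hrat : ∀ s ∈ P, Rational F₁ ((B * s * B⁻¹ : GL (Fin n) F) : Matrix (Fin n) (Fin n) F) :=
    fun s hs i j => hle (by simpa using hB _ ⟨s, hs, rfl⟩ i j)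
  obtain ⟨c, hc0, hc⟩ := MaxSub.Asch.exists_rational_gram (σ := RingHom.id F) (pData hQ).gram.isUnit habs
    (fun s hs => gram_of_iso hQ (hPI hs)) hrat
  refine Or.inr <| Or.inr <| Or.inr <| Or.inr <| Or.inr <| Or.inr ⟨F₁, r, B⁻¹, c, hr, hcard, hc0,
    quad_rational hPI (irr_iff.mpr habs.1) hn hrat fun u v hu hv => ?_, Aschbacher.le_subfieldSubgroup habs hnP hrat⟩
  have hg := (pData hQ).isGram.comp ((B⁻¹ : GL (Fin n) F) : Matrix (Fin n) (Fin n) F) u v
  simp only at hg
  rw [← pData_form hQ, hg]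
  simp only [pData_sigma, RingHom.id_apply, dotProduct, Matrix.mulVec, Finset.mul_sum]
  refine sum_mem fun i _ => sum_mem fun j _ => ?_
  have := mul_mem (mul_mem (hc i j) (hu i)) (hv j)
  simp only [Matrix.smul_apply, smul_eq_mul] at this
  convert this using 1
  ring

end Cfsg.Agent.Aschbacher.Orth
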