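import Cfsg.Agent.Aschbacher.Orth.Bad
import Cfsg.Agent.Aschbacher.Orth.Subfield
import Cfsg.Agent.MaxSub.Asch.SymplecticMain
import Cfsg.Agent.MaxSub.OrthStabGL

/-!
The subgroup structure theorem for the orthogonal groups of dimension eight (minus type), ten and twelve.
-/

set_option autoImplicit false
set_option linter.unusedSectionVars false
set_option linter.style.haveILetI false

namespace Cfsg.Agent.Aschbacher.Orth

open scoped MatrixGroups Matrix commutatorElement
open Module QuadraticMap
open Cfsg.Agent.UnitaryOrthogonal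
open Cfsg.Agent.Aschbacher (Inv Irr NormalIn Core irr_iff)
open Cfsg.Agent.MaxSub.Asch (FormData conjHom conjHom_apply alg tr slot tens gramForm PowerData PreTypeTwo ptens)

/-- Only scalars commute with every slot. -/
theorem slot_center {F : Type*} [Field F] [Fintype F] {d t : ℕ} [Nonempty (Fin d)]
    (T : Matrix (Fin t → Fin d) (Fin t → Fin d) F) (hT : ∀ i M, Commute T (slot i M)) : ∃ c : F, T = c • 1 := by
  classical
  obtain ⟨x₀⟩ : Nonempty (Fin t → Fin d) := inferInstance
  refine ⟨T x₀ x₀, ?_⟩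
  have key : ∀ x y i a, x i ≠ a → y i = a → T x y = 0 := fun x y i a hx hy => by
    have h1 := congrFun (congrFun (hT i (Matrix.single a a 1)).eq x) y
    simp only [Matrix.mul_apply] at h1
    rw [Finset.sum_eq_single y, Finset.sum_eq_zero] at h1
    · simpa [MaxSub.Asch.slot_apply, hy, Matrix.one_apply] using h1
    · intro z _
      simp [MaxSub.Asch.slot_apply, Matrix.single_apply, Ne.symm hx]
    · intro z _ hz
      rcases eq_or_ne (z i) (y i) with hzi | hzi
      · obtain ⟨j, hj⟩ := Function.ne_iff.mp hz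
        have hji : j ≠ i := fun h => hj (h ▸ hzi)
        rw [MaxSub.Asch.slot_apply_ne hji _ hj]
        simp
      · rw [MaxSub.Asch.slot_apply]; simp [Matrix.single_apply, hy ▸ hzi, Ne.symm (hy ▸ hzi)]
    · simp
  have hdiag : ∀ x (i : Fin t) (a : Fin d), T (Function.update x i a) (Function.update x i a) = T x x := by
    intro x i a
    have h1 := congrFun (congrFun (hT i (Matrix.single (x i) a 1)).eq x) (Function.update x i a)
    simp only [Matrix.mul_apply] at h1
    rw [Finset.sum_eq_single x, Finset.sum_eq_single (Function.update x i a)] at h1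
    · have e1 : slot i (Matrix.single (x i) a (1 : F)) x (Function.update x i a) = 1 := by
        rw [MaxSub.Asch.slot_apply, Function.update_self, Matrix.single_apply_same, one_mul]
        refine Finset.prod_eq_one fun j hj => ?_
        rw [Function.update_of_ne (by simpa using hj), Matrix.one_apply_eq]
      rw [e1, mul_one, one_mul] at h1
      exact h1.symm
    · intro z _ hz
      rcases eq_or_ne (z i) a with hzi | hzi
      · obtain ⟨j, hj⟩ := Function.ne_iff.mp hz
        have hji : j ≠ i := by rintro rfl; simp [hzi] at hj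
        rw [Function.update_of_ne hji] at hj
        rw [MaxSub.Asch.slot_apply_ne hji _ (Ne.symm hj)]
        simp
      · rw [MaxSub.Asch.slot_apply]; simp [Ne.symm hzi]
    · simp
    · intro z _ hz
      rcases eq_or_ne (z i) (x i) with hzi | hzi
      · obtain ⟨j, hj⟩ := Function.ne_iff.mp hz
        have hji : j ≠ i := fun h => hj (h ▸ hzi)
        have hj' : z j ≠ Function.update x i a j := by rwa [Function.update_of_ne hji]
        rw [MaxSub.Asch.slot_apply_ne hji _ hj']
        simp
      · rw [MaxSub.Asch.slot_apply, Function.update_self]; simp [Ne.symm hzi]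
    · simp
  ext x y
  rcases eq_or_ne x y with rfl | hxy
  · rw [Matrix.smul_apply, Matrix.one_apply_eq, smul_eq_mul, mul_one]
    suffices h : ∀ (s : Finset (Fin t)) z, (∀ i ∉ s, z i = x₀ i) → T z z = T x₀ x₀ from
      h Finset.univ x fun i hi => absurd (Finset.mem_univ i) hi
    intro s
    induction s using Finset.induction with
    | empty => intro z hz; rw [show z = x₀ from funext fun i => hz i (Finset.notMem_empty i)]
    | insert a s ha ih =>
      intro z hz
      rw [← hdiag z a (x₀ a)]
      refine ih _ fun i hi => ?_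
      rcases eq_or_ne i a with rfl | hia
      · simp
      · rw [Function.update_of_ne hia]; exact hz i (by simp [hia, hi])
  · obtain ⟨i, hi⟩ := Function.ne_iff.mp hxy
    rw [key x y i (y i) hi rfl, Matrix.smul_apply, Matrix.one_apply_ne hxy, smul_zero]

variable {n : ℕ} {F : Type*} [Field F] [Fintype F] {Q : QuadraticForm F (Fin n → F)} (hQ : PolarND Q)
variable {H : Subgroup (GL (Fin n) F)} (hH : H ≤ isometryGroup F ⇑Q)

include hQ hH

/-- The residual alternative for a core. -/
theorem conc_or_residual_core (hn : 2 ≤ n) {P : Subgroup (GL (Fin n) F)} (h : Core H P) :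
    Conc Q H ∨ Geo.InOrthogonalResidualClass H := by
  classical
  haveI : Nonempty (Fin n) := ⟨⟨0, by omega⟩⟩
  have hPI : P ≤ isometryGroup F ⇑Q := h.le.trans hH
  by_cases hreal : ∃ F₀ : Subfield F, F₀ ≠ ⊤ ∧ Geo.RealisableOver F₀ (Geo.matrixSet P)
  · obtain ⟨F₀, hF₀, hr⟩ := hreal
    exact Or.inl (conc_of_realisable hQ hn hPI h.normal h.absIrred hF₀ hr)
  push Not at hreal
  refine Or.inr ⟨P, h.toResidual hreal, ?_⟩
  rintro ⟨σ, f, hf, hfix⟩
  have hg := Aschbacher.exists_gram (σ : F →+* F) f hf.add_left hf.smul_left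
    (fun v x y => by rw [hf.herm, hf.add_left, map_add, ← hf.herm, ← hf.herm])
    (fun c v x => by rw [hf.herm, hf.smul_left, map_mul, ← hf.herm]; rfl)
  obtain ⟨G, hG⟩ := Aschbacher.gram_isUnit hg hf.nondegenerate
  obtain ⟨F₀, hF₀, hr⟩ := MaxSub.Asch.realisable_of_two_forms (σ := (σ : F →+* F))
    (fun e => hf.ne_refl (RingEquiv.ext fun a => DFunLike.congr_fun e a)) hf.involutive h.absIrred
    (J := (pData hQ).gram) (G := G) (fun s hs => gram_of_iso hQ (hPI hs))
    (fun s hs => by
      rw [hG]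
      exact (Aschbacher.preserves_iff_gram hg _).mp (hfix _ ⟨s, hs, rfl⟩))
  exact hreal F₀ hF₀ hr

/-- A normal absolutely irreducible subgroup abelian modulo scalars forces plus type in dimension eight. -/
theorem false_of_classTwo (hn : n = 8 ∨ n = 10 ∨ n = 12) (hn8 : n = 8 → ¬ Geo.IsPlusTypeOn ⇑Q ⊤)
    {L : Subgroup (GL (Fin n) F)} (hLG : L ≤ H ⊔ Geo.scalars (Fin n) F) (hZ : Geo.scalars (Fin n) F ≤ L)
    (habs : Geo.ActsAbsolutelyIrreducibly (Geo.matrixSet L)) (h2 : ⁅L, L⁆ ≤ Geo.scalars (Fin n) F) : False := by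
  classical
  haveI : Nonempty (Fin n) := ⟨⟨0, by omega⟩⟩
  have hn1 : 1 < Fintype.card (Fin n) := by rw [Fintype.card_fin]; omega
  set Z := Geo.scalars (Fin n) F with hZdef
  set R := L ⊓ isometryGroup F ⇑Q with hRdef
  have hscal : ∀ x ∈ Z ⊓ isometryGroup F ⇑Q, x = 1 ∨ x = -1 := by
    rintro x ⟨hx, hxI⟩
    obtain ⟨c, hc⟩ := (Geo.mem_scalars_iff x).mp hx
    have h1 := gram_of_iso hQ hxI
    rw [hc, Matrix.transpose_smul, Matrix.transpose_one, Matrix.smul_mul, one_mul, Matrix.mul_smul, mul_one,
      smul_smul] at h1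
    rcases mul_self_eq_one_iff.mp (smul_left_injective F (pData hQ).gram.ne_zero
      (h1.trans (one_smul F _).symm)) with h | h
    · exact Or.inl (Units.ext (by rw [hc, h, one_smul, Units.val_one]))
    · exact Or.inr (Units.ext (by rw [hc, h, neg_one_smul, Units.val_neg, Units.val_one]))
  have hRirr : Geo.ActsAbsolutelyIrreducibly (Geo.matrixSet R) := by
    refine MaxSub.Asch.absIrred_of_alg_eq_top
      (top_le_iff.mp (MaxSub.Asch.alg_eq_top habs ▸ Algebra.adjoin_le ?_))
    rintro _ ⟨x, hx, rfl⟩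
    obtain ⟨a, ha, z, hz, rfl⟩ := (Subgroup.mem_sup_of_normal_right (ht := Geo.scalars_normal)).mp (hLG hx)
    obtain ⟨c, hc⟩ := (Geo.mem_scalars_iff z).mp hz
    have haR : a ∈ R := ⟨by simpa using mul_mem hx (inv_mem (hZ hz)), hH ha⟩
    show ((a * z : GL (Fin n) F) : Matrix (Fin n) (Fin n) F) ∈ alg R
    rw [Units.val_mul, hc, Matrix.mul_smul, mul_one]
    exact Subalgebra.smul_mem _ (MaxSub.Asch.coe_mem_alg haR) _
  have hcomm : ∀ a ∈ R, ∀ b ∈ R, ⁅a, b⁆ = 1 ∨ ⁅a, b⁆ = -1 := fun a ha b hb =>
    hscal _ ⟨h2 (Subgroup.commutator_mem_commutator ha.1 hb.1),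
      (isometryGroup F ⇑Q).mul_mem ((isometryGroup F ⇑Q).mul_mem ((isometryGroup F ⇑Q).mul_mem ha.2 hb.2)
        ((isometryGroup F ⇑Q).inv_mem ha.2)) ((isometryGroup F ⇑Q).inv_mem hb.2)⟩
  have hnc : ¬ ∀ a ∈ R, ∀ b ∈ R, a * b = b * a := fun hab =>
    Aschbacher.irr_not_le_scalars (irr_iff.mpr hRirr.1) hn1 fun x hx =>
      Aschbacher.mem_scalars_of_commute hRirr fun y hy => hab x hx y hy
  have h2F : (2 : F) ≠ 0 := fun h0 => by
    refine hnc fun a ha b hb => commutatorElement_eq_one_iff_mul_comm.mp ?_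
    rcases hcomm a ha b hb with h | h
    · exact h
    · rw [h]
      refine Units.ext ?_
      rw [Units.val_neg, Units.val_one, ← neg_one_smul F, show (-1 : F) = 1 by linear_combination -h0, one_smul]
  have hanti : ∀ a ∈ R, ∀ b ∈ R, a * b ≠ b * a → a * b = -(b * a) := fun a ha b hb hne => by
    have e : a * b = ⁅a, b⁆ * (b * a) := by rw [commutatorElement_def]; group
    rcases hcomm a ha b hb with h | h
    · exact absurd (commutatorElement_eq_one_iff_mul_comm.mp h) hne
    · rw [e, h, neg_one_mul]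
  have hsqR : ∀ x ∈ R, x * x = 1 ∨ x * x = -1 := by
    intro x hx
    refine hscal _ ⟨Aschbacher.mem_scalars_of_commute hRirr fun y hy => ?_, mul_mem hx.2 hx.2⟩
    rcases eq_or_ne (x * y) (y * x) with h | h
    · rw [mul_assoc, h, ← mul_assoc, h, mul_assoc]
    · have h' := hanti x hx y hy h
      rw [mul_assoc, h', mul_neg, ← mul_assoc, h', neg_mul, neg_neg, mul_assoc]
  have hp : PreTypeTwo 2 R := by
    refine ⟨Nat.prime_two, hRirr, fun x hx => ?_,
      fun x hx y hy => h2 (Subgroup.commutator_mem_commutator hx.1 hy.1)⟩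
    rw [show 2 * Nat.gcd 2 2 = 2 * 2 from rfl, pow_mul, pow_two, pow_two]
    rcases hsqR x hx with h | h <;> simp [h]
  obtain ⟨m, -, hm⟩ := hp.exists_pow hn1
  rw [Fintype.card_fin] at hm
  have hn' : n = 8 := by
    rcases hn with rfl | rfl | rfl
    · rfl
    · have h3 : m ≤ 3 := by
        by_contra h
        have := Nat.pow_le_pow_right (show 0 < 2 by norm_num) (show 4 ≤ m by omega)
        omega
      interval_cases m <;> norm_num at hm
    · have h3 : m ≤ 3 := by
        by_contra h
        have := Nat.pow_le_pow_right (show 0 < 2 by norm_num) (show 4 ≤ m by omega)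
        omega
      interval_cases m <;> norm_num at hm
  -- a non-central involution
  obtain ⟨x, hxR, hxx, hx1, hx1'⟩ : ∃ x ∈ R, x * x = 1 ∧ x ≠ 1 ∧ x ≠ -1 := by
    by_contra hcon
    push Not at hcon
    push Not at hnc
    obtain ⟨a, haR, b, hbR, hab⟩ := hnc
    have haa : a * a = -1 := (hsqR a haR).resolve_left fun h => hab (by
      by_cases h1 : a = 1
      · rw [h1, one_mul, mul_one]
      · rw [hcon a haR h h1, neg_one_mul, mul_neg_one])
    have hcent : ∀ c ∈ R, a * c = c * a → c ∈ ({1, -1, a, -a} : Finset (GL (Fin n) F)) := by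
      intro c hc hac
      rcases hsqR c hc with h | h
      · by_cases h1 : c = 1
        · simp [h1]
        · simp [hcon c hc h h1]
      · have hsq : (a * c) * (a * c) = 1 := by
          rw [mul_assoc, ← mul_assoc c, ← hac, mul_assoc a c c, ← mul_assoc a a, haa, h, neg_mul_neg, mul_one]
        have hc' : c = -(a * (a * c)) := by rw [← mul_assoc, haa, neg_one_mul, neg_neg]
        by_cases h1 : a * c = 1
        · rw [h1, mul_one] at hc'
          simp [hc']
        · rw [hcon _ (mul_mem haR hc) hsq h1, mul_neg_one, neg_neg] at hc'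
          simp [hc']
    have hab' := hanti a haR b hbR hab
    have hcover : ∀ c ∈ R, c ∈ ({1, -1, a, -a} : Finset (GL (Fin n) F)) ∪
        ({1, -1, a, -a} : Finset (GL (Fin n) F)).image (· * b⁻¹) := by
      intro c hc
      rcases eq_or_ne (a * c) (c * a) with h | h
      · exact Finset.mem_union_left _ (hcent c hc h)
      · refine Finset.mem_union_right _ (Finset.mem_image.mpr
          ⟨c * b, hcent _ (mul_mem hc hbR) ?_, mul_inv_cancel_right c b⟩)
        rw [← mul_assoc, hanti a haR c hc h, neg_mul, mul_assoc, hab', mul_neg, neg_neg, mul_assoc]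
    haveI : Finite R := inferInstance
    haveI : Fintype R := Fintype.ofFinite R
    have hle : Nat.card R ≤ 8 := by
      rw [Nat.card_eq_fintype_card]
      refine le_trans (Finset.card_le_card_of_injOn (s := (Finset.univ : Finset R))
        (fun c : R => (c : GL (Fin n) F)) (fun c _ => hcover c c.2) Subtype.val_injective.injOn) ?_
      refine le_trans (Finset.card_union_le _ _) ?_
      have := Finset.card_le_four (a := (1 : GL (Fin n) F)) (b := -1) (c := a) (d := -a)
      have := Finset.card_image_le (s := ({1, -1, a, -a} : Finset (GL (Fin n) F))) (f := (· * b⁻¹))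
      omega
    rw [hp.card_eq, Fintype.card_fin, show n ^ 2 = 64 by rw [hn']; norm_num] at hle
    have : 0 < Nat.card (Subgroup.center R) := Nat.card_pos
    omega
  -- an element exchanging the eigenspaces
  obtain ⟨y, hyR, hxy⟩ : ∃ y ∈ R, x * y ≠ y * x := by
    by_contra hcon
    push Not at hcon
    rcases hscal x ⟨Aschbacher.mem_scalars_of_commute hRirr hcon, hxR.2⟩ with h | h
    exacts [hx1 h, hx1' h]
  set X := (x : Matrix (Fin n) (Fin n) F) with hX
  set Y := (y : Matrix (Fin n) (Fin n) F) with hY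
  have hXY : X * Y = -(Y * X) := by
    rw [hX, hY, ← Units.val_mul, hanti x hxR y hyR hxy, Units.val_neg, Units.val_mul]
  have hYX : Y * X = -(X * Y) := by rw [hXY, neg_neg]
  have hXX : ∀ v, X *ᵥ (X *ᵥ v) = v := fun v => by
    rw [Matrix.mulVec_mulVec, hX, ← Units.val_mul, hxx, Units.val_one, Matrix.one_mulVec]
  let W₁ : Submodule F (Fin n → F) := LinearMap.ker (Matrix.toLin' X - LinearMap.id)
  let W₂ : Submodule F (Fin n → F) := LinearMap.ker (Matrix.toLin' X + LinearMap.id)
  have hW₁ : ∀ v, v ∈ W₁ ↔ X *ᵥ v = v := fun v => by simp [W₁, sub_eq_zero]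
  have hW₂ : ∀ v, v ∈ W₂ ↔ X *ᵥ v = -v := fun v => by simp [W₂, add_eq_zero_iff_eq_neg]
  have horth : ∀ u ∈ W₁, ∀ w ∈ W₂, polar Q u w = 0 := fun u hu w hw => by
    have h1 := iso_map_polar hxR.2 u w
    rw [← hX, (hW₁ u).mp hu, (hW₂ w).mp hw, polar_neg_right] at h1
    exact (mul_eq_zero.mp (show (2 : F) * polar Q u w = 0 by linear_combination -h1)).resolve_left h2F
  have hcompl : IsCompl W₁ W₂ := by
    refine ⟨Submodule.disjoint_def.mpr fun v h1 h2' => ?_, codisjoint_iff.mpr (eq_top_iff.mpr fun v _ => ?_)⟩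
    · have h := (hW₁ v).mp h1
      rw [(hW₂ v).mp h2'] at h
      refine (smul_eq_zero.mp (show (2 : F) • v = 0 from ?_)).resolve_left h2F
      rw [two_smul]
      nth_rw 2 [← h]
      exact add_neg_cancel v
    · refine Submodule.mem_sup.mpr ⟨(2 : F)⁻¹ • (v + X *ᵥ v), (hW₁ _).mpr ?_, (2 : F)⁻¹ • (v - X *ᵥ v),
        (hW₂ _).mpr ?_, ?_⟩
      · rw [Matrix.mulVec_smul, Matrix.mulVec_add, hXX, add_comm]
      · rw [Matrix.mulVec_smul, Matrix.mulVec_sub, hXX, ← smul_neg, neg_sub]
      · rw [← smul_add, show v + X *ᵥ v + (v - X *ᵥ v) = (2 : F) • v by rw [two_smul]; abel, smul_smul,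
          inv_mul_cancel₀ h2F, one_smul]
  have hmapY : ∀ v, X *ᵥ (Y *ᵥ v) = -(Y *ᵥ (X *ᵥ v)) := fun v => by
    rw [Matrix.mulVec_mulVec, hXY, Matrix.neg_mulVec, ← Matrix.mulVec_mulVec]
  have himg : W₁.map (Matrix.toLin' Y) = W₂ := by
    refine le_antisymm ?_ fun v hv => ?_
    · rintro _ ⟨u, hu, rfl⟩
      rw [hW₂, Matrix.toLin'_apply, hmapY, (hW₁ u).mp hu]
    · set u := ((y⁻¹ : GL (Fin n) F) : Matrix (Fin n) (Fin n) F) *ᵥ v with hu
      have hYu : Y *ᵥ u = v := by rw [hu, hY, Matrix.mulVec_mulVec, Units.mul_inv, Matrix.one_mulVec]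
      refine ⟨u, (hW₁ u).mpr ?_, by rw [Matrix.toLin'_apply, hYu]⟩
      have h1 := hmapY u
      rw [hYu, (hW₂ v).mp hv, neg_inj] at h1
      exact (Aschbacher.mulVec_gl_inj y (hYu.trans h1)).symm
  have hiso : Geo.AreIsometricFor ⇑Q W₁ W₂ :=
    ⟨((Aschbacher.glEquiv y).submoduleMap W₁).trans (LinearEquiv.ofEq _ _ himg),
      fun w => iso_map hyR.2 (w : Fin n → F)⟩
  have h4 : finrank F W₁ = 4 := by
    have h := Submodule.finrank_add_eq_of_isCompl hcompl
    obtain ⟨e, -⟩ := hiso
    rw [← e.finrank_eq, Module.finrank_pi, Fintype.card_fin] at h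
    omega
  exact hn8 hn' (OrthStab.isPlusTypeOn_top ⟨hQ, hcompl, horth⟩ ⟨2, h4⟩ hiso)

set_option maxHeartbeats 400000 in
/-- Permuted tensor factors force plus type in dimension eight. -/
theorem false_of_wreath (hirr : Irr H) (hn : n = 8 ∨ n = 10 ∨ n = 12)
    (hn8 : n = 8 → ¬ Geo.IsPlusTypeOn ⇑Q ⊤) {d t : ℕ} {e : Fin n ≃ (Fin t → Fin d)} {P : GL (Fin n) F}
    {φ : Matrix (Fin d) (Fin d) F →ₐ[F] Matrix (Fin n) (Fin n) F} {M₀ : Subgroup (GL (Fin n) F)}
    {g : Fin t → GL (Fin n) F} (hw : PowerData (H ⊔ Geo.scalars (Fin n) F) d t e P φ M₀ g) : False := by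
  classical
  haveI : Nonempty (Fin n) := ⟨⟨0, by omega⟩⟩
  have hcard : n = d ^ t := by
    have := Fintype.card_congr e
    simpa using this
  have hd := hw.two_le_dim
  have ht := hw.two_le
  obtain ⟨rfl, rfl⟩ : d = 2 ∧ t = 3 := by
    have h1 : d ^ 2 ≤ d ^ t := Nat.pow_le_pow_right (by omega) ht
    have h2 : 2 ^ t ≤ d ^ t := Nat.pow_le_pow_left hd t
    have hd4 : d ≤ 3 := by
      by_contra h
      have : 16 ≤ d ^ 2 := Nat.pow_le_pow_left (show 4 ≤ d by omega) 2
      omega
    have ht4 : t ≤ 3 := by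
      by_contra h
      have := Nat.pow_le_pow_right (show 0 < 2 by norm_num) (show 4 ≤ t by omega)
      omega
    interval_cases d <;> interval_cases t <;> norm_num at hcard <;> omega
  have hn' : n = 8 := by rw [hcard]; norm_num
  refine hn8 hn' ?_
  have hle : H ≤ Geo.tensorWreathSubgroup 2 3 e P := le_sup_left.trans hw.le_wreath
  obtain ⟨c, G₁, hc0, hgram⟩ := (pData hQ).exists_power_gram (by omega) e P φ g
    (fun i => isSim_of_mem hQ hH (hw.conj_mem i)) (fun M => by
      rw [hw.range_eq]
      exact (pData hQ).adj_mem_alg (fun x hx => isSim_of_mem hQ hH (hw.base_le hx)) (hw.range_eq ▸ ⟨M, rfl⟩))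
    hw.slot_eq slot_center
  set g₁ := (G₁ : Matrix (Fin 2) (Fin 2) F) with hg₁
  have hsym : tens (fun _ : Fin 3 => g₁ᵀ) = (1 : F) • tens (fun _ : Fin 3 => g₁) := by
    have h := ((pData hQ).transport e P).herm
    rw [hgram, show ((pData hQ).transport e P).σ = RingHom.id F from rfl,
      show ((pData hQ).transport e P).ε = 1 from rfl, smul_comm, Matrix.transpose_smul,
      MaxSub.Asch.tens_transpose] at h
    have h' : c • tens (fun _ : Fin 3 => g₁ᵀ) = c • ((1 : F) • tens (fun _ : Fin 3 => g₁)) := by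
      rw [← h]; exact (Matrix.ext fun _ _ => rfl)
    exact (smul_right_injective _ hc0) h'
  obtain ⟨κ, hκ, hκt⟩ := MaxSub.Asch.tens_const_eq (by omega) hsym G₁.ne_zero one_ne_zero
  have hT : g₁ᵀ = g₁ := by
    have h := congrArg Matrix.transpose hκ
    rw [Matrix.transpose_transpose, Matrix.transpose_smul, hκ, smul_smul] at h
    have hκ2 : κ * κ = 1 := smul_left_injective F G₁.ne_zero (show (κ * κ) • g₁ = (1 : F) • g₁ by rw [one_smul, ← h])
    rcases mul_self_eq_one_iff.mp hκ2 with h1 | h1
    · rw [hκ, h1, one_smul]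
    · rw [hκ, h1]
      rw [h1] at hκt
      rw [show (-1 : F) = 1 by linear_combination hκt, one_smul]
  by_cases h2 : (2 : F) = 0
  swap
  · -- the base group would be abelian
    exfalso
    have hinj : Function.Injective φ := φ.toRingHom.injective
    have hMH : M₀ ≤ H := by
      rw [← hw.perfect]
      exact (Subgroup.commutator_mono hw.base_le hw.base_le).trans
        ((MaxSub.Asch.commutator_sup_scalars H).trans (Aschbacher.commutator_le_self H))
    have hmem : ∀ x ∈ M₀, ∃ A, φ A = (x : Matrix (Fin n) (Fin n) F) := fun x hx => by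
      have : (x : Matrix (Fin n) (Fin n) F) ∈ φ.range := hw.range_eq ▸ MaxSub.Asch.coe_mem_alg hx
      exact this
    choose A hA using hmem
    have hiso : ∀ x (hx : x ∈ M₀), (A x hx)ᵀ * g₁ * A x hx = g₁ := by
      intro x hx
      set y := g ⟨0, by omega⟩ * x * (g ⟨0, by omega⟩)⁻¹ with hy
      have hyH : y ∈ H := by
        have h1 : y ∈ ⁅H ⊔ Geo.scalars (Fin n) F, H ⊔ Geo.scalars (Fin n) F⁆ := by
          have hx' : x ∈ ⁅M₀, M₀⁆ := hw.perfect.symm ▸ hx
          have : ⁅M₀, M₀⁆.map (MulAut.conj (g ⟨0, by omega⟩)).toMonoidHom ≤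
              ⁅H ⊔ Geo.scalars (Fin n) F, H ⊔ Geo.scalars (Fin n) F⁆ := by
            rw [Subgroup.map_commutator]
            refine Subgroup.commutator_mono ?_ ?_ <;>
            · rintro _ ⟨z, hz, rfl⟩
              exact mul_mem (mul_mem (hw.conj_mem _) (hw.base_le hz)) (inv_mem (hw.conj_mem _))
          exact this ⟨x, hx', rfl⟩
        exact ((MaxSub.Asch.commutator_sup_scalars H).trans (Aschbacher.commutator_le_self H)) h1
      have hyv : (y : Matrix (Fin n) (Fin n) F) = tr e P (slot ⟨0, by omega⟩ (A x hx)) := by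
        rw [← hw.slot_eq, hA, hy]
        simp [conjHom_apply, mul_assoc]
      let hu : GL (Fin 3 → Fin 2) F :=
        Units.map ((tr e P).symm : Matrix (Fin n) (Fin n) F ≃ₐ[F] _).toAlgHom.toMonoidHom y
      have hue : (hu : Matrix (Fin 3 → Fin 2) (Fin 3 → Fin 2) F) = slot ⟨0, by omega⟩ (A x hx) := by
        show (tr e P).symm (y : Matrix (Fin n) (Fin n) F) = _
        rw [hyv, AlgEquiv.symm_apply_apply]
      have h1 := (pData hQ).transport_sim e P (g := y) (h := hu) (by rw [hue]; exact hyv) (c := 1) (by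
        rw [one_smul]; exact gram_of_iso hQ (hH hyH))
      rw [hue] at h1
      rw [one_smul, show (pData hQ).σ = RingHom.id F from rfl, show (slot (⟨0, by omega⟩ : Fin 3) (A x hx)).map
        (RingHom.id F) = slot (⟨0, by omega⟩ : Fin 3) (A x hx) from Matrix.ext fun _ _ => rfl, hgram, Matrix.mul_smul,
        Matrix.smul_mul, MaxSub.Asch.slot_transpose, slot, slot, MaxSub.Asch.tens_mul, MaxSub.Asch.tens_mul] at h1
      have h3 := smul_right_injective _ hc0 h1
      obtain ⟨i, j, hij⟩ : ∃ i j, g₁ i j ≠ 0 := by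
        by_contra hcon
        push Not at hcon
        exact G₁.ne_zero (Matrix.ext hcon)
      ext a b
      have h4 := congrFun (congrFun h3 ![a, i, i]) ![b, j, j]
      simp [MaxSub.Asch.tens_apply, Fin.prod_univ_three, Function.update] at h4
      exact h4.resolve_right hij
    have hAmul : ∀ x (hx : x ∈ M₀) y (hy : y ∈ M₀), A (x * y) (mul_mem hx hy) = A x hx * A y hy := fun x hx y hy =>
      hinj (by rw [map_mul, hA, hA, hA, Units.val_mul])
    -- the determinant is one on a perfect group
    let f₀ : M₀ →* Matrix (Fin 2) (Fin 2) F :=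
      { toFun := fun x => A x x.2
        map_one' := hinj (by rw [hA, map_one]; rfl)
        map_mul' := fun x y => hAmul x x.2 y y.2 }
    have hdet : ∀ x : M₀, (f₀ x).det = 1 := by
      intro x
      let δ : M₀ →* Fˣ := ((Matrix.detMonoidHom).comp f₀).toHomUnits
      have htop : commutator M₀ = ⊤ := by
        rw [commutator_def]
        refine Subgroup.map_injective (f := M₀.subtype) M₀.subtype_injective ?_
        rw [Subgroup.map_commutator, ← MonoidHom.range_eq_map, Subgroup.range_subtype, hw.perfect]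
      have hker : x ∈ δ.ker := Abelianization.commutator_subset_ker δ (htop ▸ Subgroup.mem_top x)
      exact congrArg Units.val hker
    let J : Matrix (Fin 2) (Fin 2) F := !![0, -1; 1, 0]
    set N := J * g₁ with hN
    have hcomN : ∀ x : M₀, f₀ x * N = N * f₀ x := by
      intro x
      have h1 : (f₀ x)ᵀ * g₁ * f₀ x = g₁ := hiso x x.2
      have h3 : f₀ x * J * (f₀ x)ᵀ = J := by
        have hd := hdet x
        rw [Matrix.det_fin_two] at hd
        ext a b
        fin_cases a <;> fin_cases b <;>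
          simp [J, Matrix.mul_apply, Fin.sum_univ_two, Matrix.vecMul, dotProduct] <;>
          first | linear_combination hd | linear_combination -hd | ring
      calc f₀ x * N = f₀ x * (J * ((f₀ x)ᵀ * g₁ * f₀ x)) := by rw [h1]
        _ = (f₀ x * J * (f₀ x)ᵀ) * g₁ * f₀ x := by simp only [mul_assoc]
        _ = N * f₀ x := by rw [h3]
    have hNs : ∀ s : F, N ≠ s • 1 := by
      intro s hs
      have e00 := congrFun (congrFun hs 0) 0
      have e11 := congrFun (congrFun hs 1) 1
      have e01 := congrFun (congrFun hs 0) 1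
      have e10 := congrFun (congrFun hs 1) 0
      have t10 := congrFun (congrFun hT 1) 0
      simp [hN, J, Matrix.mul_apply, Fin.sum_univ_two, Matrix.vecMul, dotProduct] at e00 e11 e01 e10 t10
      have hs0 : s = 0 := by
        refine (mul_eq_zero.mp (show (2 : F) * s = 0 by linear_combination -e00 - e11 + t10)).resolve_left h2
      refine G₁.ne_zero (Matrix.ext fun a b => ?_)
      fin_cases a <;> fin_cases b <;> simp <;>
        first
          | linear_combination e01 | linear_combination e10 | linear_combination -e01 | linear_combination -e10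
          | linear_combination e00 + hs0 | linear_combination -e00 - hs0
          | linear_combination e11 + hs0 | linear_combination -e11 - hs0
    have hcomm : ∀ x y : M₀, x * y = y * x := by
      intro x y
      have hc := commute_of_commute (K := F) (V := Fin 2 → F) (by simp)
        (X := Matrix.toLinAlgEquiv' N) (S := Matrix.toLinAlgEquiv' (f₀ x)) (T := Matrix.toLinAlgEquiv' (f₀ y))
        (fun s hs => hNs s (Matrix.toLinAlgEquiv'.injective (by rw [hs, map_smul, map_one])))
        (by rw [← map_mul, ← map_mul, hcomN]) (by rw [← map_mul, ← map_mul, hcomN])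
      rw [← map_mul, ← map_mul, ← map_mul, ← map_mul] at hc
      refine Subtype.ext (Units.ext ?_)
      rw [← hA _ (x * y).2, ← hA _ (y * x).2]
      exact congrArg φ (Matrix.toLinAlgEquiv'.injective hc)
    refine hw.nontrivial ?_
    have hbot : ⁅M₀, M₀⁆ = ⊥ := by
      rw [eq_bot_iff, Subgroup.commutator_le]
      intro a ha b hb
      rw [Subgroup.mem_bot, commutatorElement_eq_one_iff_mul_comm]
      exact congrArg Subtype.val (hcomm ⟨a, ha⟩ ⟨b, hb⟩)
    rw [← hw.perfect, hbot]
    exact bot_le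
  -- characteristic two: a totally singular half
  let bs : Basis (Fin 3 → Fin 2) F (Fin n → F) :=
    ((Pi.basisFun F (Fin 3 → Fin 2)).map (LinearEquiv.funCongrLeft F F e)).map (Aschbacher.glEquiv P)
  let pv : (Fin 3 → Fin 2 → F) → (Fin n → F) := fun u =>
    (P : Matrix (Fin n) (Fin n) F) *ᵥ (ptens u ∘ e)
  have hsingle : ∀ x : Fin 3 → Fin 2,
      (Pi.single x 1 : (Fin 3 → Fin 2) → F) = ptens fun i => Pi.single (x i) 1 := by
    intro x
    funext y
    rcases eq_or_ne y x with rfl | hne
    · simp [ptens]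
    · obtain ⟨j, hj⟩ := Function.ne_iff.mp hne
      rw [Pi.single_eq_of_ne hne, ptens, Finset.prod_eq_zero (Finset.mem_univ j)]
      exact Pi.single_eq_of_ne hj 1
  have hbs : ∀ x, bs x = pv fun i => Pi.single (x i) 1 := fun x => by
    simp only [bs, pv, Basis.map_apply, Pi.basisFun_apply, ← hsingle]
    rfl
  have hpol : ∀ u w, polar Q (pv u) (pv w) = c * ∏ i, gramForm g₁ (u i) (w i) := fun u w => by
    rw [← pData_form hQ, FormData.transport_form, FormData.form, hgram, ← MaxSub.Asch.gramForm_tens_ptens]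
    simp [gramForm, Matrix.smul_mulVec, show ((pData hQ).transport e P).σ = RingHom.id F from rfl]
  have hdiag : ∀ a, g₁ a a = 0 := by
    intro a
    have h := hpol (fun _ => Pi.single a 1) (fun _ => Pi.single a 1)
    rw [polar_self, nsmul_eq_mul, Nat.cast_ofNat, h2, zero_mul] at h
    simpa [gramForm, hc0, pow_eq_zero_iff] using h.symm
  have halt : ∀ v : Fin 2 → F, gramForm g₁ v v = 0 := fun v =>
    MaxSub.Asch.gramForm_self_eq_zero (by
      rw [hT]; ext a b
      show g₁ a b = -g₁ a b
      linear_combination g₁ a b * h2) hdiag v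
  set Q₀ := basisForm₀ Q bs with hQ₀
  have hQ₀pure : ∀ u, Q₀ (pv u) = 0 := by
    suffices h : ∀ (s : Finset (Fin 3)) u, (∀ i ∉ s, ∃ a, u i = Pi.single a 1) → Q₀ (pv u) = 0 from
      fun u => h Finset.univ u fun i hi => absurd (Finset.mem_univ i) hi
    intro s
    induction s using Finset.induction with
    | empty =>
      intro u hu
      choose x hx using fun i => hu i (Finset.notMem_empty i)
      rw [show u = fun i => Pi.single (x i) 1 from funext hx, ← hbs]
      exact basisForm₀_basis bs x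
    | insert a s ha ih =>
      intro u hu
      set u0 := Function.update u a (Pi.single (0 : Fin 2) (1 : F)) with hu0
      set u1 := Function.update u a (Pi.single (1 : Fin 2) (1 : F)) with hu1
      have hrest : ∀ i, i ≠ a → u0 i = u i ∧ u1 i = u i := fun i hi =>
        ⟨Function.update_of_ne hi _ _, Function.update_of_ne hi _ _⟩
      have hsplit : pv u = u a 0 • pv u0 + u a 1 • pv u1 := by
        simp only [pv, ← Matrix.mulVec_smul, ← Matrix.mulVec_add]
        congr 1
        funext p
        simp only [Function.comp_apply, Pi.add_apply, Pi.smul_apply, smul_eq_mul, ptens]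
        rw [Fintype.prod_eq_mul_prod_compl a, Fintype.prod_eq_mul_prod_compl a (fun i => u0 i (e p i)),
          Fintype.prod_eq_mul_prod_compl a (fun i => u1 i (e p i)),
          Finset.prod_congr rfl fun i hi => congrFun (hrest i (by simpa using hi)).1 (e p i),
          Finset.prod_congr rfl fun i hi => congrFun (hrest i (by simpa using hi)).2 (e p i),
          hu0, hu1, Function.update_self, Function.update_self]
        generalize e p a = q
        fin_cases q <;> simp
      have hsm : ∀ k, ∀ i ∉ s, ∃ b, Function.update u a (Pi.single (k : Fin 2) (1 : F)) i = Pi.single b 1 := by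
        intro k i hi
        rcases eq_or_ne i a with rfl | hia
        · exact ⟨k, Function.update_self ..⟩
        · rw [Function.update_of_ne hia]
          exact hu i (by simp [hia, hi])
      obtain ⟨i, hi⟩ : ∃ i : Fin 3, i ≠ a := Fintype.exists_ne_of_one_lt_card (by simp) a
      have hp0 : polar Q₀ (pv u0) (pv u1) = 0 := by
        rw [basisForm₀_polar h2, hpol, Finset.prod_eq_zero (Finset.mem_univ i), mul_zero]
        rw [(hrest i hi).1, (hrest i hi).2]
        exact halt _
      rw [hsplit, form_add, form_smul, form_smul, polar_smul_left, polar_smul_right, hp0, ih u0 (hsm 0),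
        ih u1 (hsm 1)]
      simp
  have hQQ₀ := quad_zero_of_basis hirr (by rw [Fintype.card_fin]; omega) hH h2 bs fun x hx k => by
    obtain ⟨_, ⟨h, hh, rfl⟩, hxe⟩ := hle hx
    have hxv : (x : Matrix (Fin n) (Fin n) F) = tr e P (h : Matrix (Fin 3 → Fin 2) (Fin 3 → Fin 2) F) := by
      rw [← hxe, ← MaxSub.Asch.tr_eq_conj_glReindex]; rfl
    obtain ⟨u', hu'⟩ := MaxSub.Asch.exists_ptens_image hh fun i => Pi.single (k i) (1 : F)
    suffices hx' : (x : Matrix (Fin n) (Fin n) F) *ᵥ bs k = pv u' by rw [hx']; exact hQ₀pure u'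
    rw [hbs, hxv]
    simp only [pv]
    rw [Matrix.mulVec_mulVec, MaxSub.Asch.tr_apply, mul_assoc, Units.inv_mul, mul_one,
      ← Matrix.mulVec_mulVec, ← hu']
    congr 1
    funext p
    simp [Matrix.mulVec, dotProduct, ← e.sum_comp]
  -- the half
  let S : Set (Fin n → F) := bs '' {x | x 0 = 0}
  have hli : LinearIndependent F fun x : {x : Fin 3 → Fin 2 // x 0 = 0} => bs x :=
    bs.linearIndependent.comp _ Subtype.val_injective
  refine ⟨Submodule.span F S, le_top, fun v hv => quad_zero_span ?_ ?_ hv, ?_⟩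
  · rintro _ ⟨x, -, rfl⟩
    rw [hQQ₀, basisForm₀_basis]
  · rintro _ ⟨x, hx, rfl⟩ _ ⟨y, hy, rfl⟩
    rw [hbs, hbs, hpol, Finset.prod_eq_zero (Finset.mem_univ (0 : Fin 3)), mul_zero]
    simp [gramForm, show x 0 = 0 from hx, show y 0 = 0 from hy, hdiag]
  · rw [show S = Set.range fun x : {x : Fin 3 → Fin 2 // x 0 = 0} => bs x from by
      rw [Set.range_comp' (g := fun x : Fin 3 → Fin 2 => bs x), Subtype.range_coe_subtype], finrank_span_eq_card hli,
      finrank_top, Module.finrank_pi, Fintype.card_fin, hn']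
    rfl

/-- The subgroup structure theorem. -/
theorem conc_or_residual (hirr : Irr H) (hn : n = 8 ∨ n = 10 ∨ n = 12)
    (hn8 : n = 8 → ¬ Geo.IsPlusTypeOn ⇑Q ⊤) : Conc Q H ∨ Geo.InOrthogonalResidualClass H := by
  classical
  haveI : Nonempty (Fin n) := ⟨⟨0, by omega⟩⟩
  set Z := Geo.scalars (Fin n) F with hZ
  set G := H ⊔ Z with hG
  have hn1 : 1 < Fintype.card (Fin n) := by rw [Fintype.card_fin]; omega
  have hGirr : Irr G := fun W hW => hirr W fun g hg => hW g (Subgroup.mem_sup_left hg)
  by_cases hall : ∃ L : Subgroup (GL (Fin n) F), L ≤ G ∧ NormalIn L G ∧ ¬ L ≤ Z ∧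
      ¬ Geo.ActsAbsolutelyIrreducibly (Geo.matrixSet L)
  · obtain ⟨L, hLG, hL, hLs, hLa⟩ := hall
    exact Or.inl (clifford_conc hQ hH hirr hn hLG (fun g hg => hL g (Subgroup.mem_sup_left hg)) hLs hLa)
  push Not at hall
  have hGn : NormalIn G G := fun g hg x hx => mul_mem (mul_mem hg hx) (inv_mem hg)
  obtain ⟨L, ⟨hLG, hL, hLZ, hLne⟩, hLmin⟩ := exists_minimal_of_wellFoundedLT
    (fun L : Subgroup (GL (Fin n) F) => L ≤ G ∧ NormalIn L G ∧ Z ≤ L ∧ L ≠ Z)
    ⟨G, le_rfl, hGn, le_sup_right, fun e => Aschbacher.irr_not_le_scalars hGirr hn1 e.le⟩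
  have hLs : ¬ L ≤ Z := fun e => hLne (le_antisymm e hLZ)
  have habs := hall L hLG hL hLs
  have hmin : ∀ M ≤ L, NormalIn M G → Z ≤ M → M = Z ∨ M = L := fun M hM hMG hZM =>
    or_iff_not_imp_left.mpr fun hne => le_antisymm hM (hLmin ⟨hM.trans hLG, hMG, hZM, hne⟩ hM)
  by_cases hc : ⁅L, L⁆ ≤ Z
  · exact (false_of_classTwo hQ hH hn hn8 hLG hLZ habs hc).elim
  rcases MaxSub.Asch.nonabelian hLG hL hLZ habs hmin hc with ⟨P, hP, hPL⟩ | ⟨d, t, e, P, φ, M₀, g, hw⟩
  · have hPH : P ≤ H := hPL.trans ((Subgroup.commutator_mono hLG hLG).trans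
      ((MaxSub.Asch.commutator_sup_scalars H).trans (Aschbacher.commutator_le_self H)))
    exact conc_or_residual_core hQ hH (by omega)
      ⟨hPH, fun x hx => hP.normal x (Subgroup.mem_sup_left hx), hP.perfect, hP.simple, hP.nonabelian,
        fun x hx => hP.centralizer_scalar x (Subgroup.mem_sup_left hx), hP.absIrred⟩
  · exact (false_of_wreath hQ hH hirr hn hn8 hw).elim

end Cfsg.Agent.Aschbacher.Orth
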