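import Cfsg.Agent.Aschbacher.Orth.Algebra
import Cfsg.Agent.Aschbacher.Orth.TensorAlg
import Cfsg.Agent.Aschbacher.Symp.Tensor
import Cfsg.Agent.MaxSub.Asch.OrthOddTensor

/-!
Normal subgroups of an even-dimensional orthogonal group which are not absolutely irreducible.
-/

set_option autoImplicit false
set_option linter.unusedSectionVars false
set_option linter.style.haveILetI false

namespace Cfsg.Agent.Aschbacher.Orth

open scoped MatrixGroups Matrix Kronecker
open Module QuadraticMap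
open Cfsg.Agent.UnitaryOrthogonal
open Cfsg.Agent.Aschbacher (Inv Irr NormalIn pvec)
open Cfsg.Agent.MaxSub.Asch (FormData conjHom zalg alg tr gramForm kronecker_eq_imp gramForm_self_eq_zero)

variable {n : ℕ} {F : Type*} [Field F] {Q : QuadraticForm F (Fin n → F)}

theorem quad_zero_span {S : Set (Fin n → F)} (h0 : ∀ x ∈ S, Q x = 0) (hp : ∀ x ∈ S, ∀ y ∈ S, polar Q x y = 0)
    {v : Fin n → F} (hv : v ∈ Submodule.span F S) : Q v = 0 := by
  have hperp : ∀ w ∈ Submodule.span F S, ∀ x ∈ S, polar Q w x = 0 := by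
    intro w hw x hx
    induction hw using Submodule.span_induction with
    | mem y hy => exact hp y hy x hx
    | zero => rw [polar_zero_left]
    | add a b _ _ ha hb => rw [polar_add_left, ha, hb, add_zero]
    | smul c a _ ha => rw [polar_smul_left, ha, smul_zero]
  have hperp2 : ∀ w ∈ Submodule.span F S, ∀ u ∈ Submodule.span F S, polar Q w u = 0 := by
    intro w hw u hu
    induction hu using Submodule.span_induction with
    | mem y hy => exact hperp w hw y hy
    | zero => rw [polar_zero_right]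
    | add a b _ _ ha hb => rw [polar_add_right, ha, hb, add_zero]
    | smul c a _ ha => rw [polar_smul_right, ha, smul_zero]
  induction hv using Submodule.span_induction with
  | mem y hy => exact h0 y hy
  | zero => exact QuadraticMap.map_zero Q
  | add a b ha hb iha ihb => rw [form_add, iha, ihb, hperp2 a ha b hb, add_zero, add_zero]
  | smul c a _ ha => rw [form_smul, ha, mul_zero]

/-- The vector of a pure tensor. -/
noncomputable def pureVec {a b : ℕ} (e : Fin n ≃ Fin a × Fin b) (P : GL (Fin n) F) (x : Fin a → F) (y : Fin b → F) :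
    Fin n → F :=
  (P : Matrix (Fin n) (Fin n) F) *ᵥ (pvec x y ∘ e)

theorem pureVec_sum_left {a b : ℕ} (e : Fin n ≃ Fin a × Fin b) (P : GL (Fin n) F) (x : Fin a → F) (y : Fin b → F) :
    pureVec e P x y = ∑ i, x i • pureVec e P (Pi.single i 1) y := by
  simp only [pureVec, ← Matrix.mulVec_smul, ← Matrix.mulVec_sum]
  congr 1
  funext p
  simp [pvec, Finset.sum_apply, Pi.single_apply]

theorem pureVec_sum_right {a b : ℕ} (e : Fin n ≃ Fin a × Fin b) (P : GL (Fin n) F) (x : Fin a → F) (y : Fin b → F) :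
    pureVec e P x y = ∑ j, y j • pureVec e P x (Pi.single j 1) := by
  simp only [pureVec, ← Matrix.mulVec_smul, ← Matrix.mulVec_sum]
  congr 1
  funext p
  simp [pvec, Finset.sum_apply, Pi.single_apply, mul_comm]

variable [Fintype F] (hQ : PolarND Q) {H : Subgroup (GL (Fin n) F)} (hH : H ≤ isometryGroup F ⇑Q) (hirr : Irr H)

include hQ

theorem polar_pureVec {a b : ℕ} (e : Fin n ≃ Fin a × Fin b) (P : GL (Fin n) F) {G₁ : Matrix (Fin a) (Fin a) F}
    {G₂ : Matrix (Fin b) (Fin b) F}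
    (hgram : (((pData hQ).transport e P).gram : Matrix (Fin a × Fin b) (Fin a × Fin b) F) = G₁ ⊗ₖ G₂)
    (x x' : Fin a → F) (y y' : Fin b → F) :
    polar Q (pureVec e P x y) (pureVec e P x' y') = gramForm G₁ x x' * gramForm G₂ y y' := by
  rw [← pData_form hQ, pureVec, pureVec, FormData.transport_form, FormData.form, hgram]
  exact gramForm_kron_pvec G₁ G₂ x x' y y'

theorem tensorForm {a b : ℕ} (e : Fin n ≃ Fin a × Fin b) (P : GL (Fin n) F) {G₁ : Matrix (Fin a) (Fin a) F}
    {G₂ : Matrix (Fin b) (Fin b) F}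
    (hgram : (((pData hQ).transport e P).gram : Matrix (Fin a × Fin b) (Fin a × Fin b) F) = G₁ ⊗ₖ G₂) :
    Geo.IsTensorFormStructure id (polar ⇑Q) (gramForm G₁) (gramForm G₂) e P := by
  refine ⟨1, one_ne_zero, fun x y => ?_⟩
  rw [MaxSub.Asch.gramMatrix_gramForm, MaxSub.Asch.gramMatrix_gramForm, ← pData_form hQ, FormData.transport_form,
    FormData.form, hgram, one_mul, Geo.formOfGram]
  simp [dotProduct, Matrix.mulVec, Finset.mul_sum, mul_assoc,
    show ((pData hQ).transport e P).σ = RingHom.id F from rfl]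

include hH hirr in
/-- Two alternating tensor factors: the form vanishes on pure tensors. -/
theorem pure_zero (hn : 2 ≤ n) {a b : ℕ} (e : Fin n ≃ Fin a × Fin b) (P : GL (Fin n) F)
    {G₁ : Matrix (Fin a) (Fin a) F} {G₂ : Matrix (Fin b) (Fin b) F}
    (hgram : (((pData hQ).transport e P).gram : Matrix (Fin a × Fin b) (Fin a × Fin b) F) = G₁ ⊗ₖ G₂)
    (h₁ : ∀ x, gramForm G₁ x x = 0) (h₂ : ∀ y, gramForm G₂ y y = 0)
    (hle : H ≤ Geo.tensorProductSubgroup a b e P) (x : Fin a → F) (y : Fin b → F) :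
    Q (pureVec e P x y) = 0 := by
  classical
  by_cases h2 : (2 : F) = 0
  swap
  · have h := polar_pureVec hQ e P hgram x x y y
    rw [h₁, zero_mul, polar_self, nsmul_eq_mul, Nat.cast_ofNat] at h
    exact (mul_eq_zero.mp h).resolve_left h2
  let bas : Basis (Fin n) F (Fin n → F) := (Pi.basisFun F (Fin n)).map (Aschbacher.glEquiv P)
  have hbas : ∀ i, bas i = pureVec e P (Pi.single (e i).1 1) (Pi.single (e i).2 1) := by
    intro i
    simp only [bas, Basis.map_apply, Pi.basisFun_apply, pureVec]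
    show (P : Matrix (Fin n) (Fin n) F) *ᵥ _ = _
    congr 1
    funext j
    rcases eq_or_ne j i with rfl | hji
    · simp [pvec]
    · have h1 : e j ≠ e i := fun h => hji (e.injective h)
      have h2 : (e j).1 ≠ (e i).1 ∨ (e j).2 ≠ (e i).2 := by
        by_contra h
        push Not at h
        exact h1 (Prod.ext h.1 h.2)
      rcases h2 with h | h <;> simp [pvec, hji, h]
  set Q' := basisForm₀ Q bas
  have hpol : ∀ u v, polar Q' u v = polar Q u v := basisForm₀_polar h2 bas
  -- the basis form vanishes on pure tensors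
  have hzero : ∀ x y, Q' (pureVec e P x y) = 0 := by
    have h1 : ∀ i y, Q' (pureVec e P (Pi.single i 1) y) = 0 := by
      intro i y
      rw [pureVec_sum_right]
      refine quad_zero_span (S := Set.range fun j => pureVec e P (Pi.single i 1) (Pi.single j 1)) ?_ ?_
        (Submodule.sum_mem _ fun j _ => Submodule.smul_mem _ _ (Submodule.subset_span ⟨j, rfl⟩))
      · rintro _ ⟨j, rfl⟩
        have := basisForm₀_basis bas (Q := Q) (e.symm (i, j))
        rw [hbas, Equiv.apply_symm_apply] at this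
        exact this
      · rintro _ ⟨j, rfl⟩ _ ⟨j', rfl⟩
        rw [hpol, polar_pureVec hQ e P hgram, h₁, zero_mul]
    intro x y
    rw [pureVec_sum_left]
    refine quad_zero_span (S := Set.range fun i => pureVec e P (Pi.single i 1) y) ?_ ?_
      (Submodule.sum_mem _ fun j _ => Submodule.smul_mem _ _ (Submodule.subset_span ⟨j, rfl⟩))
    · rintro _ ⟨i, rfl⟩; exact h1 i y
    · rintro _ ⟨i, rfl⟩ _ ⟨i', rfl⟩
      rw [hpol, polar_pureVec hQ e P hgram, h₂, mul_zero]
  rw [quad_zero_of_basis hirr (by rw [Fintype.card_fin]; exact hn) hH h2 bas fun g hg k => ?_]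
  · exact hzero x y
  · obtain ⟨_, ⟨h, ⟨A, B, hAB⟩, rfl⟩, hge⟩ := hle hg
    have hgv : (g : Matrix (Fin n) (Fin n) F) = tr e P (h : Matrix (Fin a × Fin b) (Fin a × Fin b) F) := by
      rw [← hge, ← MaxSub.Asch.tr_eq_conj_glReindex]; rfl
    rw [hbas, pureVec, hgv, MaxSub.Asch.tr_mulVec, hAB, Aschbacher.kron_mulVec_pvec]
    exact hzero _ _

include hH hirr in
/-- Alternating factors of dimensions two and `b`. -/
theorem conc_alt (hn : n = 8 ∨ n = 10 ∨ n = 12) {b : ℕ} (e : Fin n ≃ Fin 2 × Fin b) (P : GL (Fin n) F)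
    {G₁ : GL (Fin 2) F} {G₂ : GL (Fin b) F}
    (hgram : (((pData hQ).transport e P).gram : Matrix (Fin 2 × Fin b) (Fin 2 × Fin b) F) =
      (G₁ : Matrix (Fin 2) (Fin 2) F) ⊗ₖ (G₂ : Matrix (Fin b) (Fin b) F))
    (h₁ : (G₁ : Matrix (Fin 2) (Fin 2) F)ᵀ = -(G₁ : Matrix (Fin 2) (Fin 2) F) ∧ ∀ i, (G₁ : Matrix (Fin 2) (Fin 2) F) i i = 0)
    (h₂ : (G₂ : Matrix (Fin b) (Fin b) F)ᵀ = -(G₂ : Matrix (Fin b) (Fin b) F) ∧ ∀ i, (G₂ : Matrix (Fin b) (Fin b) F) i i = 0)
    (hle : H ≤ Geo.tensorProductSubgroup 2 b e P) : Conc Q H := by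
  have hb : 3 ≤ b := by
    have := Fintype.card_congr e
    simp at this
    omega
  have hsymp : ∀ {l : ℕ} (G : GL (Fin l) F), (G : Matrix (Fin l) (Fin l) F)ᵀ = -(G : Matrix (Fin l) (Fin l) F) →
      (∀ i, (G : Matrix (Fin l) (Fin l) F) i i = 0) → Geo.IsSymplecticForm (gramForm (G : Matrix (Fin l) (Fin l) F)) := by
    intro l G hT hd
    refine ⟨MaxSub.Asch.gramForm_bilinear _, fun v w => ?_, gramForm_self_eq_zero hT hd,
      MaxSub.Asch.gramForm_nondegenerate G.isUnit⟩
    rw [MaxSub.Asch.gramForm_swap _ v w, hT]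
    simp [gramForm, Matrix.neg_mulVec]
  refine Or.inr <| Or.inr <| Or.inr <| Or.inr <| Or.inl ⟨b, e, P, gramForm (G₁ : Matrix (Fin 2) (Fin 2) F),
    gramForm (G₂ : Matrix (Fin b) (Fin b) F), hb, hsymp G₁ h₁.1 h₁.2, hsymp G₂ h₂.1 h₂.2, tensorForm hQ e P hgram, ?_, hle⟩
  exact fun x y => pure_zero hQ hH hirr (by omega) e P hgram (fun v => gramForm_self_eq_zero h₁.1 h₁.2 v)
    (fun v => gramForm_self_eq_zero h₂.1 h₂.2 v) hle x y

/-- The alternative left open by a normalised algebra. -/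
def Bad (L : Subgroup (GL (Fin n) F)) (H : Subgroup (GL (Fin n) F)) (hQ : PolarND Q) : Prop :=
  (∀ z ∈ zalg L, (pData hQ).adj z = z) ∧ (∀ x ∈ zalg L, x ≠ 0 → ∃ y ∈ zalg L, x * y = 1) ∧ n = 10 ∧
    ∃ K : Subalgebra F (Matrix (Fin n) (Fin n) F), Geo.IsFieldSubalgebra 5 K ∧ K ≤ zalg L ∧
      H ≤ Geo.subalgebraNormalizer K

include hH hirr in
/-- A normal subgroup which is not absolutely irreducible. -/
theorem clifford_core (hn : n = 8 ∨ n = 10 ∨ n = 12) {L : Subgroup (GL (Fin n) F)}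
    (hLG : L ≤ H ⊔ Geo.scalars (Fin n) F) (hLH : NormalIn L H) (hns : ¬ L ≤ Geo.scalars (Fin n) F)
    (habs : ¬ Geo.ActsAbsolutelyIrreducibly (Geo.matrixSet L)) : Conc Q H ∨ Bad L H hQ := by
  classical
  haveI : Nonempty (Fin n) := ⟨⟨0, by omega⟩⟩
  have hsimL : ∀ g ∈ L, (pData hQ).IsSim g := fun g hg => isSim_of_mem hQ hH (hLG hg)
  by_cases hdim : finrank F (zalg L) = 1
  swap
  · exact algebra_core hQ hH hirr hn (Z := zalg L)
      (fun x hx y hy => (MaxSub.Asch.mem_zalg.mp hy).2 x (MaxSub.Asch.mem_zalg.mp hx).1)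
      (fun z hz hnil => MaxSub.Asch.zalg_reduced hLH hirr hz hnil)
      (fun z hz => (pData hQ).adj_mem_zalg hsimL hz)
      (fun g hg z hz => MaxSub.Asch.conj_mem_zalg hLH hg hz) hdim
  left
  obtain ⟨d, k, e, P, φ, hd, hk, hφr, hφe, hle⟩ := MaxSub.Asch.exists_tensor hLH hirr hns habs hdim
  haveI : Nonempty (Fin d) := ⟨⟨0, by omega⟩⟩
  haveI : Nonempty (Fin k) := ⟨⟨0, by omega⟩⟩
  have hA : ∀ M : Matrix (Fin d) (Fin d) F, ∃ M', ((pData hQ).transport e P).adj
      (M ⊗ₖ (1 : Matrix (Fin k) (Fin k) F)) = M' ⊗ₖ (1 : Matrix (Fin k) (Fin k) F) := fun M => by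
    obtain ⟨M', hM'⟩ : (pData hQ).adj (φ M) ∈ φ.range := by
      rw [hφr]; exact (pData hQ).adj_mem_alg hsimL (hφr ▸ ⟨M, rfl⟩)
    refine ⟨M', (tr e P).injective ?_⟩
    rw [FormData.transport_adj, ← hφe, ← hφe]
    exact hM'.symm
  obtain ⟨G₁, G₂, hgram⟩ := ((pData hQ).transport e P).exists_gram_factor (by omega) (by omega) hA
  have hsym : (G₁ : Matrix (Fin d) (Fin d) F)ᵀ ⊗ₖ (G₂ : Matrix (Fin k) (Fin k) F)ᵀ =
      (G₁ : Matrix (Fin d) (Fin d) F) ⊗ₖ (G₂ : Matrix (Fin k) (Fin k) F) := by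
    have h := ((pData hQ).transport e P).herm
    rw [hgram, show ((pData hQ).transport e P).ε = 1 from rfl, one_smul, ← Matrix.kroneckerMap_transpose] at h
    exact h
  obtain ⟨c, hc⟩ := kronecker_eq_imp hsym (by
    rw [Ne, ← Matrix.transpose_zero, Matrix.transpose_inj]; exact G₂.ne_zero)
  have hc2 : c * c = 1 := by
    have h := congrArg Matrix.transpose hc
    rw [Matrix.transpose_transpose, Matrix.transpose_smul, hc, smul_smul] at h
    by_contra hne
    exact G₁.ne_zero ((smul_eq_zero.mp (show (c * c - 1) • (G₁ : Matrix (Fin d) (Fin d) F) = 0 by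
      rw [sub_smul, ← h, one_smul, sub_self])).resolve_left (sub_ne_zero.mpr hne))
  have hG2 : (G₂ : Matrix (Fin k) (Fin k) F)ᵀ = c • (G₂ : Matrix (Fin k) (Fin k) F) := by
    rw [hc, Matrix.smul_kronecker, ← Matrix.kronecker_smul] at hsym
    have h := congrArg (c • ·) (MaxSub.Asch.kronecker_left_cancel hsym G₁.ne_zero)
    simp only [smul_smul, hc2, one_smul] at h
    exact h
  have hswap : (((pData hQ).transport (e.trans (Equiv.prodComm _ _)) P).gram :
      Matrix (Fin k × Fin d) (Fin k × Fin d) F) = (G₂ : Matrix (Fin k) (Fin k) F) ⊗ₖ (G₁ : Matrix (Fin d) (Fin d) F) := by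
    ext ⟨i, a⟩ ⟨j, b⟩
    have h := congrFun (congrFun hgram (a, i)) (b, j)
    rw [FormData.transport_gram] at h ⊢
    simp only [Matrix.kroneckerMap_apply] at h ⊢
    rw [mul_comm, ← h]
    rfl
  have hle' := hle.trans (MaxSub.Asch.tensor_swap_sum e P)
  have hdk : d * k = n := by
    have := Fintype.card_congr e
    simpa using this.symm
  have hiso : ∀ g ∈ H, (g : Matrix (Fin n) (Fin n) F)ᵀ * ((pData hQ).gram : Matrix (Fin n) (Fin n) F) *
      (g : Matrix (Fin n) (Fin n) F) = ((pData hQ).gram : Matrix (Fin n) (Fin n) F) :=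
    fun g hg => gram_of_iso hQ (hH hg)
  -- both factors alternating
  have halt : ((G₁ : Matrix (Fin d) (Fin d) F)ᵀ = -(G₁ : Matrix (Fin d) (Fin d) F) ∧
        ∀ i, (G₁ : Matrix (Fin d) (Fin d) F) i i = 0) →
      ((G₂ : Matrix (Fin k) (Fin k) F)ᵀ = -(G₂ : Matrix (Fin k) (Fin k) F) ∧
        ∀ i, (G₂ : Matrix (Fin k) (Fin k) F) i i = 0) → Conc Q H := by
    intro h₁ h₂
    have hev : ∀ {l : ℕ} (G : GL (Fin l) F), (G : Matrix (Fin l) (Fin l) F)ᵀ = -(G : Matrix (Fin l) (Fin l) F) →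
        (∀ i, (G : Matrix (Fin l) (Fin l) F) i i = 0) → Even l := by
      intro l G hT hd
      by_contra hl
      refine ((Matrix.isUnit_iff_isUnit_det _).mp G.isUnit).ne_zero (Aschbacher.det_eq_zero_of_alternating
        (by rw [Fintype.card_fin]; exact Nat.not_even_iff_odd.mp hl) hd ?_)
      exact fun i j => by simpa using (congrFun (congrFun hT j) i)
    obtain ⟨d', rfl⟩ := hev G₁ h₁.1 h₁.2
    obtain ⟨k', rfl⟩ := hev G₂ h₂.1 h₂.2
    have h4 : (d' + d') * (k' + k') = 4 * (d' * k') := by ring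
    have h23 : d' * k' = 2 ∨ d' * k' = 3 := by omega
    have hd1 : d' = 1 ∨ k' = 1 := by
      rcases h23 with h | h
      · rcases (Nat.dvd_prime Nat.prime_two).mp (h ▸ Dvd.intro k' rfl : d' ∣ 2) with e1 | e1
        · exact Or.inl e1
        · subst e1; right; omega
      · rcases (Nat.dvd_prime Nat.prime_three).mp (h ▸ Dvd.intro k' rfl : d' ∣ 3) with e1 | e1
        · exact Or.inl e1
        · subst e1; right; omega
    rcases hd1 with rfl | rfl
    · exact conc_alt hQ hH hirr hn e P hgram h₁ h₂ hle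
    · exact conc_alt hQ hH hirr hn _ P hswap h₂ h₁ hle'
  by_cases hodd : Odd (Fintype.card F)
  · have h2 := Aschbacher.two_ne_zero_of_odd hodd
    have hdiag : ∀ {l : ℕ} {G : Matrix (Fin l) (Fin l) F}, Gᵀ = -G → ∀ i, G i i = 0 := fun {l G} hG i => by
      have h := congrFun (congrFun hG i) i
      simp only [Matrix.transpose_apply, Matrix.neg_apply] at h
      exact (mul_eq_zero.mp (show (2 : F) * G i i = 0 by linear_combination h)).resolve_left h2
    rcases mul_self_eq_one_iff.mp hc2 with rfl | rfl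
    swap
    · rw [neg_one_smul] at hc hG2
      exact halt ⟨hc, hdiag hc⟩ ⟨hG2, hdiag hG2⟩
    rw [one_smul] at hc hG2
    -- a symmetric factor of dimension two
    have htwo : ∀ {d' : ℕ} {e' : Fin n ≃ Fin d' × Fin 2} {G G' }, H ≤ Geo.tensorProductSubgroup d' 2 e' P →
        (((pData hQ).transport e' P).gram : Matrix (Fin d' × Fin 2) (Fin d' × Fin 2) F) =
          ((G : GL (Fin d') F) : Matrix (Fin d') (Fin d') F) ⊗ₖ ((G' : GL (Fin 2) F) : Matrix (Fin 2) (Fin 2) F) →
        (G' : Matrix (Fin 2) (Fin 2) F)ᵀ = (G' : Matrix (Fin 2) (Fin 2) F) → Conc Q H := by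
      intro d' e' G G' hle2 hgr hT
      have hd' : 0 < d' := (e' ⟨0, by omega⟩).1.pos
      obtain ⟨Z, z1, z2, z3, z4, z5, z, hz, hzne⟩ := tensor_two (pData hQ) rfl hiso hodd hd' hle2 hgr hT
      rcases algebra_core hQ hH hirr hn z1 z2 z3 z4 z5 with hC | ⟨hall, -, -, -⟩
      · exact hC
      · exact absurd (hall z hz) hzne
    rcases Nat.lt_or_ge k 3 with hk3 | hk3
    · obtain rfl : k = 2 := by omega
      exact htwo hle hgram hG2
    rcases Nat.lt_or_ge d 3 with hd3 | hd3
    · obtain rfl : d = 2 := by omega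
      exact htwo hle' hswap hc
    refine Or.inr <| Or.inr <| Or.inr <| Or.inr <| Or.inr <| Or.inl ⟨hodd, ?_⟩
    have hdk34 : (d = 3 ∧ k = 4) ∨ (d = 4 ∧ k = 3) := by
      have hd4 : d ≤ 4 := by
        by_contra h
        have : 5 * 3 ≤ d * k := Nat.mul_le_mul (by omega) hk3
        omega
      interval_cases d <;> omega
    rcases hdk34 with ⟨rfl, rfl⟩ | ⟨rfl, rfl⟩
    · exact ⟨e, P, _, _, MaxSub.Asch.gramForm_symmetric G₁ hc, MaxSub.Asch.gramForm_symmetric G₂ hG2,
        tensorForm hQ e P hgram, hle⟩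
    · exact ⟨_, P, _, _, MaxSub.Asch.gramForm_symmetric G₂ hG2, MaxSub.Asch.gramForm_symmetric G₁ hc,
        tensorForm hQ _ P hswap, hle'⟩
  · have h2 : (2 : F) = 0 := Aschbacher.two_eq_zero_of_not_odd hodd
    have hneg : ∀ a : F, -a = a := MaxSub.Asch.neg_eq_self_of_even hodd
    obtain rfl : c = 1 := by
      rcases mul_self_eq_one_iff.mp hc2 with h | h
      · exact h
      · rw [h]; exact hneg 1
    rw [one_smul] at hc hG2
    by_cases hd2 : ∀ i, (G₂ : Matrix (Fin k) (Fin k) F) i i = 0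
    swap
    · push Not at hd2
      obtain ⟨l₀, hl₀⟩ := hd2
      exact (false_of_nonalternating (pData hQ) rfl hiso hirr h2 (by omega) hk hle hgram hG2 hl₀).elim
    by_cases hd1 : ∀ i, (G₁ : Matrix (Fin d) (Fin d) F) i i = 0
    swap
    · push Not at hd1
      obtain ⟨l₀, hl₀⟩ := hd1
      exact (false_of_nonalternating (pData hQ) rfl hiso hirr h2 (by omega) hd hle' hswap hc hl₀).elim
    exact halt ⟨by rw [hc]; ext i j; exact (hneg _).symm, hd1⟩ ⟨by rw [hG2]; ext i j; exact (hneg _).symm, hd2⟩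

end Cfsg.Agent.Aschbacher.Orth
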