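import Cfsg.Agent.Aschbacher.Orth.Algebra
import Cfsg.Agent.Aschbacher.Orth.Tensor
import Cfsg.Agent.Aschbacher.Symp.Fields
import Cfsg.Agent.OrthFix.Sub
import Cfsg.Agent.OrthFix.Translate
import Cfsg.Agent.MaxSub.OrthVectorGL

/-!
Signs of the structures preserved by subgroups of the orthogonal groups.
-/

set_option autoImplicit false
set_option linter.unusedSectionVars false
set_option linter.style.haveILetI false

namespace Cfsg.Agent.Aschbacher.Orth

open scoped MatrixGroups Matrix
open Module QuadraticMap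
open Cfsg.Agent.UnitaryOrthogonal
open Cfsg.Agent.Aschbacher (Inv Irr)
open Cfsg.Agent.OrthFix (chi sig Sig SigOn NDOn exists_sig)

section General

variable {ι : Type} [Fintype ι] [DecidableEq ι] {F : Type*} [Field F] [Fintype F]
variable {Q : QuadraticForm F (ι → F)}

theorem ndOn_of (W : Submodule F (ι → F)) (h : Geo.IsNondegenerateOn (polar ⇑Q) W) : NDOn Q W :=
  (OrthFix.isNondegenerateOn_iff rfl W).mp h

theorem plus_iff {W : Submodule F (ι → F)} (hW : NDOn Q W) (hev : Even (finrank F W)) :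
    Geo.IsPlusTypeOn ⇑Q W ↔ SigOn Q W 1 :=
  OrthFix.isPlusTypeOn_iff rfl hW hev rfl

theorem plus_top_iff (hQ : PolarND Q) (hev : Even (Fintype.card ι)) : Geo.IsPlusTypeOn ⇑Q ⊤ ↔ Sig Q 1 := by
  rw [plus_iff (OrthFix.ndOn_top hQ) (by rwa [finrank_top, Module.finrank_pi])]
  exact ⟨OrthFix.sig_of_sigOn_top, OrthFix.sigOn_top⟩

theorem sigOn_of_isometric {W W' : Submodule F (ι → F)} (h : Geo.AreIsometricFor ⇑Q W W') {ε : ℤ}
    (hs : SigOn Q W ε) : SigOn Q W' ε := by
  obtain ⟨e, he⟩ := h
  exact Sig.congr hs ({ e with map_app' := fun w => he w } : (Q.comp W.subtype).IsometryEquiv (Q.comp W'.subtype))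

theorem isometric_of_sig {W W' : Submodule F (ι → F)} (hW : NDOn Q W) (hW' : NDOn Q W') {ε : ℤ}
    (hs : SigOn Q W ε) (hs' : SigOn Q W' ε) (hd : finrank F W = finrank F W') : Geo.AreIsometricFor ⇑Q W W' := by
  obtain ⟨e⟩ := Sig.isometric hW hW' hs hs' hd
  exact ⟨e.toLinearEquiv, fun w => e.map_app w⟩

theorem perp_le (W W' : Submodule F (ι → F)) (h : ∀ u ∈ W, ∀ v ∈ W', polar Q u v = 0) :
    W' ≤ OrthFix.perp Q W := fun x hx => OrthFix.mem_perp.mpr fun u hu => h u hu x hx

/-- The sign of a sum of `j` orthogonal spaces of dimension `k` and sign `ε`. -/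
noncomputable def decSign (F : Type*) [Field F] [Fintype F] (k : ℕ) (ε : ℤ) : ℕ → ℤ
  | 0 => 1
  | j + 1 => decSign F k ε j * ε * sig F (j * k) k

theorem decSign_even {k : ℕ} (hk : Even k) (ε : ℤ) (j : ℕ) : decSign F k ε j = ε ^ j := by
  induction j with
  | zero => simp [decSign]
  | succ j ih => rw [decSign, ih, OrthFix.sig_even_right hk, mul_one, pow_succ]

theorem decSign_odd {k : ℕ} (hk : Odd k) {ε : ℤ} (hε : ε * ε = 1) (j : ℕ) :
    decSign F k ε (2 * j) = chi (-1 : F) ^ j := by
  induction j with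
  | zero => simp [decSign]
  | succ j ih =>
    rw [show 2 * (j + 1) = 2 * j + 1 + 1 by ring, decSign, decSign, ih,
      OrthFix.sig_even_left ((even_two_mul j).mul_right k), sig, if_pos ⟨Odd.mul (odd_two_mul_add_one j) hk, hk⟩,
      pow_succ]
    linear_combination (chi (-1 : F) ^ j * chi (-1 : F)) * hε

theorem dec_sigOn {t k : ℕ} {D : Fin t → Submodule F (ι → F)}
    (hD : Geo.IsNondegenerateMDecomposition (polar ⇑Q) k D) {ε : ℤ} (hε : ∀ i, SigOn Q (D i) ε) (s : Finset (Fin t)) :
    NDOn Q (⨆ i ∈ s, D i) ∧ finrank F ↥(⨆ i ∈ s, D i) = s.card * k ∧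
      SigOn Q (⨆ i ∈ s, D i) (decSign F k ε s.card) := by
  classical
  induction s using Finset.induction with
  | empty =>
    rw [show (⨆ i ∈ (∅ : Finset (Fin t)), D i) = ⊥ by simp]
    exact ⟨OrthFix.ndOn_bot, by simp, OrthFix.sigOn_bot⟩
  | insert a s ha ih =>
    obtain ⟨hnd, hdim, hsig⟩ := ih
    rw [Finset.iSup_insert, sup_comm, Finset.card_insert_of_notMem ha]
    have hle : D a ≤ OrthFix.perp Q (⨆ i ∈ s, D i) := by
      intro x hx
      refine OrthFix.mem_perp.mpr fun u hu => ?_
      have hsub : (⨆ i ∈ s, D i) ≤ LinearMap.ker ((polarBilin Q).flip x) :=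
        iSup₂_le fun i hi v hv => hD.orthogonal i a (fun e => ha (e ▸ hi)) v hv x hx
      exact hsub hu
    obtain ⟨-, hn, hd, hs⟩ := hnd.sup (ndOn_of _ (hD.nondegenerate a)) hle
    refine ⟨hn, by rw [hd, hdim, hD.decomp.finrank_eq a]; ring, ?_⟩
    have h := hs _ _ hsig (hε a)
    rw [hdim, hD.decomp.finrank_eq a] at h
    exact h

/-- The sign of an orthogonal decomposition. -/
theorem dec_sig {t k : ℕ} {D : Fin t → Submodule F (ι → F)} (hD : Geo.IsOrthogonalMDecomposition ⇑Q k D) :
    ∃ ε : ℤ, (ε = 1 ∨ ε = -1) ∧ (∀ i, SigOn Q (D i) ε) ∧ Sig Q (decSign F k ε t) := by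
  have i₀ : Fin t := ⟨0, by have := hD.decomp.decomp.two_le; omega⟩
  obtain ⟨ε, hε⟩ := exists_sig (ndOn_of _ (hD.decomp.nondegenerate i₀))
  refine ⟨ε, hε.unit, fun i => sigOn_of_isometric (hD.isometric i₀ i) hε, ?_⟩
  have h := (dec_sigOn hD.decomp (fun i => sigOn_of_isometric (hD.isometric i₀ i) hε) Finset.univ).2.2
  simp only [Finset.mem_univ, iSup_pos, hD.decomp.decomp.iSup_eq_top, Finset.card_univ, Fintype.card_fin] at h
  exact OrthFix.sig_of_sigOn_top h

theorem two_ne_zero_of_odd_piece {W : Submodule F (ι → F)} (hW : Geo.IsNondegenerateOn (polar ⇑Q) W)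
    (h : Odd (finrank F W)) : (2 : F) ≠ 0 :=
  OrthFix.two_ne_zero_of_odd (ndOn_of _ hW) h

theorem odd_card_of_two_ne_zero (h2 : (2 : F) ≠ 0) : Odd (Fintype.card F) := by
  by_contra h
  exact h2 (Aschbacher.two_eq_zero_of_not_odd h)

theorem chi_neg_one (h2 : (2 : F) ≠ 0) :
    (chi (-1 : F) = 1 ↔ Fintype.card F % 4 = 1) ∧ (chi (-1 : F) = -1 ↔ Fintype.card F % 4 = 3) := by
  classical
  have h1 : chi (-1 : F) = 1 ↔ Fintype.card F % 4 ≠ 3 := by
    rw [← FiniteField.isSquare_neg_one_iff, chi]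
    exact quadraticChar_one_iff_isSquare (neg_ne_zero.mpr one_ne_zero)
  obtain ⟨j, hj⟩ := odd_card_of_two_ne_zero h2
  refine ⟨h1.trans ⟨fun h => by omega, fun h => by omega⟩, ⟨fun h => ?_, fun h => ?_⟩⟩
  · by_contra hne
    rw [h1.mpr hne] at h
    norm_num at h
  · exact (OrthFix.chi_eq_or (neg_ne_zero.mpr one_ne_zero)).resolve_left fun e => h1.mp e h

/-- The sign of a space with a decomposition into two halves. -/
theorem pair_sig (hQ : PolarND Q) {W : Submodule F (ι → F)} (hW : Geo.IsNondegenerateOn (polar ⇑Q) W) :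
    ∃ ε ε' : ℤ, SigOn Q W ε ∧ SigOn Q (OrthStab.perpOf Q W) ε' ∧
      Sig Q (ε * ε' * sig F (finrank F W) (finrank F (OrthStab.perpOf Q W))) := by
  have hW' := ndOn_of _ hW
  have hP := ndOn_of _ (perp_nondeg hQ hW)
  obtain ⟨ε, hε⟩ := exists_sig hW'
  obtain ⟨ε', hε'⟩ := exists_sig hP
  refine ⟨ε, ε', hε, hε', ?_⟩
  obtain ⟨-, -, -, h⟩ := hW'.sup hP (perp_le _ _ fun u hu v hv => by
    rw [polar_comm]; exact OrthStab.mem_perpOf.mp hv u hu)
  have := h ε ε' hε hε'
  rw [(isCompl_perp hQ hW).sup_eq_top] at this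
  exact OrthFix.sig_of_sigOn_top this

/-- A plane on which the form has no zero but the origin has minus sign. -/
theorem anisotropic_plane {W : Submodule F (ι → F)} (hd : finrank F W = 2)
    (ha : ∀ x ∈ W, Q x = 0 → x = 0) : NDOn Q W ∧ SigOn Q W (-1) := by
  classical
  have hnd : NDOn Q W := by
    refine OrthFix.ndOn_iff.mpr fun u hu huv => by_contra fun hu0 => ?_
    have h2u := huv u hu
    rw [polar_self, nsmul_eq_mul, Nat.cast_ofNat] at h2u
    rcases mul_eq_zero.mp h2u with h2 | h0
    swap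
    · exact hu0 (ha u hu h0)
    obtain ⟨w, hw, hwu⟩ : ∃ w ∈ W, w ∉ Submodule.span F {u} := by
      by_contra hcon
      push Not at hcon
      have := Submodule.finrank_mono (show W ≤ Submodule.span F {u} from hcon)
      rw [finrank_span_singleton hu0, hd] at this
      omega
    have heven : Even (Fintype.card F) := Nat.not_odd_iff_even.mp fun ho => Aschbacher.two_ne_zero_of_odd ho h2
    have hQu : Q u ≠ 0 := fun h => hu0 (ha u hu h)
    obtain ⟨s, hs⟩ := Aschbacher.exists_sq_of_even heven (Q w / Q u)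
    have hz := ha (s • u + w) (add_mem (W.smul_mem _ hu) hw) (by
      rw [form_add, form_smul, polar_smul_left, huv w hw, ← pow_two, hs, div_mul_cancel₀ _ hQu, smul_zero,
        add_zero, ← two_mul, h2, zero_mul])
    exact hwu (by
      rw [eq_neg_of_add_eq_zero_right hz]
      exact neg_mem (Submodule.smul_mem _ _ (Submodule.mem_span_singleton_self u)))
  refine ⟨hnd, (OrthFix.sigOn_neg_one_iff hnd).mpr fun h => ?_⟩
  obtain ⟨U, hUW, hUs, hUd⟩ := (plus_iff hnd (by rw [hd]; exact even_two)).mpr h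
  obtain ⟨u, hu, hu0⟩ := U.ne_bot_iff.mp fun e => by rw [e, finrank_bot, hd] at hUd; omega
  exact hu0 (ha u (hUW hu) (hUs u hu))

/-- A totally singular half gives plus type. -/
theorem plus_of_half {U : Submodule F (ι → F)} (hU : ∀ x ∈ U, Q x = 0)
    (hd : 2 * finrank F U = Fintype.card ι) : Geo.IsPlusTypeOn ⇑Q ⊤ :=
  ⟨U, le_top, hU, by rw [hd, finrank_top, Module.finrank_pi]⟩

/-- In dimension twice an odd number Ω exchanges no two complementary totally singular halves. -/
theorem no_swap (hQ : PolarND Q) (h5 : 5 ≤ Fintype.card ι) {U U' : Submodule F (ι → F)}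
    (hU : ∀ x ∈ U, Q x = 0) (hd : 2 * finrank F U = Fintype.card ι) (hodd : Odd (finrank F U))
    (hdis : U ⊓ U' = ⊥) {g : GL ι F} (hg : g ∈ Geo.omegaGL ⇑Q) :
    U.map (Matrix.toLin' (g : Matrix ι ι F)) ≠ U' := by
  intro hmap
  obtain ⟨g₀, hg₀, rfl⟩ := hg
  have h5' : 5 ≤ finrank F (ι → F) := by rw [Module.finrank_pi]; exact h5
  have hhalf : OrthStab.IsHalf Q U := ⟨hU, by rw [hd, Module.finrank_pi]⟩
  have h := OrthStab.cast_finrank_inf_map hQ h5' ((OrthStab.mem_omega_iff hQ h5' g₀).mp hg₀) hhalf hhalf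
  have e : U.map (OrthStab.toOrth g₀).1.toLinearMap = U.map (Matrix.toLin' ((g₀ : GL ι F) : Matrix ι ι F)) := by
    congr 1
  rw [e]  at h
  rw [show U.map (Matrix.toLin' ((g₀ : GL ι F) : Matrix ι ι F)) = U' from hmap, hdis, inf_idem, finrank_bot] at h
  obtain ⟨j, hj⟩ := hodd
  rw [hj] at h
  push_cast at h
  rw [show (2 : ZMod 2) = 0 from rfl] at h
  simp at h

end General

section Structures

variable {n : ℕ} {F : Type*} [Field F] [Fintype F] {Q : QuadraticForm F (Fin n → F)} (hQ : PolarND Q)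

include hQ

/-- A quadratic extension acting by similarities cuts the space into anisotropic planes. -/
theorem similar_sig {K : Subalgebra F (Matrix (Fin n) (Fin n) F)} (hK : Geo.IsFieldSubalgebra 2 K)
    (hsim : ∀ k ∈ K, ∃ c : F, ∀ v : Fin n → F, Q (k *ᵥ v) = c * Q v) :
    ∀ (m : ℕ) (U : Submodule F (Fin n → F)), NDOn Q U → finrank F U = 2 * m →
      (∀ k ∈ K, ∀ u ∈ U, k *ᵥ u ∈ U) → SigOn Q U ((-1) ^ m) := by
  classical
  obtain ⟨k₀, hk₀, hk₀s⟩ : ∃ k₀ ∈ K, ∀ c : F, k₀ ≠ c • 1 := by
    by_contra hcon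
    push Not at hcon
    have h : finrank F K ≤ 1 := finrank_le_one (1 : K) fun w => by
      obtain ⟨c, hc⟩ := hcon w w.2
      exact ⟨c, Subtype.ext hc.symm⟩
    rw [hK.finrank_eq] at h
    omega
  intro m
  induction m with
  | zero =>
    intro U hU hd _
    rw [(Submodule.finrank_eq_zero (S := U)).mp (by omega)]
    exact OrthFix.sigOn_bot
  | succ m ih =>
    intro U hU hd hKU
    obtain ⟨v, hv, hQv⟩ : ∃ v ∈ U, Q v ≠ 0 := by
      by_contra hcon
      push Not at hcon
      have : U = ⊥ := (Submodule.eq_bot_iff U).mpr fun u hu => OrthFix.ndOn_iff.mp hU u hu fun w hw => by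
        rw [polar, hcon _ (add_mem hu hw), hcon u hu, hcon w hw, sub_zero, sub_zero]
      rw [this, finrank_bot] at hd
      omega
    let f : K →ₗ[F] (Fin n → F) :=
      { toFun := fun k => (k : Matrix (Fin n) (Fin n) F) *ᵥ v
        map_add' := fun a b => Matrix.add_mulVec _ _ _
        map_smul' := fun c a => Matrix.smul_mulVec _ _ _ }
    have hv0 : v ≠ 0 := fun h => hQv (by rw [h, QuadraticMap.map_zero])
    have hinj : Function.Injective f := by
      rw [injective_iff_map_eq_zero]
      intro k hk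
      by_contra hk0
      obtain ⟨y, -, hy⟩ := hK.inv k k.2 fun h => hk0 (Subtype.ext h)
      exact hv0 (by
        rw [← Matrix.one_mulVec v, ← mul_eq_one_comm.mp hy, ← Matrix.mulVec_mulVec,
          show (k : Matrix (Fin n) (Fin n) F) *ᵥ v = 0 from hk, Matrix.mulVec_zero])
    set W := LinearMap.range f with hW
    have hWd : finrank F W = 2 := by rw [LinearMap.finrank_range_of_inj hinj, hK.finrank_eq]
    have hWa : ∀ x ∈ W, Q x = 0 → x = 0 := by
      rintro _ ⟨k, rfl⟩ hx
      by_cases hk : k = 0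
      · rw [hk, map_zero]
      exfalso
      obtain ⟨c, hc⟩ := hsim k k.2
      obtain ⟨y, hy, hky⟩ := hK.inv k k.2 fun h => hk (Subtype.ext h)
      obtain ⟨d, hd'⟩ := hsim y hy
      have h1 : Q v = d * Q ((k : Matrix (Fin n) (Fin n) F) *ᵥ v) := by
        rw [← hd', Matrix.mulVec_mulVec, mul_eq_one_comm.mp hky, Matrix.one_mulVec]
      rw [show Q ((k : Matrix (Fin n) (Fin n) F) *ᵥ v) = 0 from hx, mul_zero] at h1
      exact hQv h1
    obtain ⟨hWn, hWs⟩ := anisotropic_plane hWd hWa
    have hWU : W ≤ U := by rintro _ ⟨k, rfl⟩; exact hKU k k.2 v hv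
    obtain ⟨hn', hd', -⟩ := hU.inf_perp hWn hWU
    have hKU' : ∀ k ∈ K, ∀ u ∈ U ⊓ OrthFix.perp Q W, k *ᵥ u ∈ U ⊓ OrthFix.perp Q W := by
      intro k hk u hu
      refine ⟨hKU k hk u hu.1, OrthFix.mem_perp.mpr ?_⟩
      rintro _ ⟨l, rfl⟩
      by_cases hk0 : k = 0
      · rw [hk0, Matrix.zero_mulVec, polar_zero_right]
      obtain ⟨y, hy, hky⟩ := hK.inv k hk hk0
      obtain ⟨c, hc⟩ := hsim k hk
      have hl : f l = k *ᵥ f ⟨y * (l : Matrix (Fin n) (Fin n) F), mul_mem hy l.2⟩ := by
        show (l : Matrix (Fin n) (Fin n) F) *ᵥ v = k *ᵥ ((y * (l : Matrix (Fin n) (Fin n) F)) *ᵥ v)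
        rw [Matrix.mulVec_mulVec, ← mul_assoc, hky, one_mul]
      have hpol : ∀ a b, polar Q (k *ᵥ a) (k *ᵥ b) = c * polar Q a b := fun a b => by
        simp only [polar, ← Matrix.mulVec_add, hc]; ring
      rw [hl, hpol, OrthFix.mem_perp.mp hu.2 _ ⟨_, rfl⟩, mul_zero]
    have hrec := ih _ hn' (by rw [hWd] at hd'; omega) hKU'
    obtain ⟨-, -, -, hs⟩ := hWn.sup hn' inf_le_right
    have h := hs _ _ hWs hrec
    rw [(hWn.isCompl_within hWU).2, hWd, OrthFix.sig_even_left even_two, mul_one] at h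
    rwa [pow_succ']

/-- A quadratic extension acting by similarities in dimension twice an odd number forces minus type. -/
theorem not_plus_of_similar {K : Subalgebra F (Matrix (Fin n) (Fin n) F)} (hK : Geo.IsFieldSubalgebra 2 K)
    (hsim : ∀ k ∈ K, ∃ c : F, ∀ v : Fin n → F, Q (k *ᵥ v) = c * Q v) {m : ℕ} (hm : Odd m) (hn : n = 2 * m) :
    ¬ Geo.IsPlusTypeOn ⇑Q ⊤ := by
  intro hp
  have h := similar_sig hQ hK hsim m ⊤ (OrthFix.ndOn_top hQ)
    (by rw [finrank_top, Module.finrank_pi, Fintype.card_fin, hn]) fun _ _ _ _ => Submodule.mem_top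
  rw [hm.neg_one_pow] at h
  exact absurd ((OrthFix.sig_of_sigOn_top h).unique
    ((plus_top_iff hQ (by rw [Fintype.card_fin, hn]; exact even_two_mul m)).mp hp)) (by decide)

/-- A tensor decomposition with vanishing pure tensors gives plus type. -/
theorem plus_of_pure {b : ℕ} {e : Fin n ≃ Fin 2 × Fin b} {P : GL (Fin n) F}
    (h0 : ∀ (x₁ : Fin 2 → F) (x₂ : Fin b → F),
      Q ((P : Matrix (Fin n) (Fin n) F) *ᵥ ((fun a : Fin 2 × Fin b => x₁ a.1 * x₂ a.2) ∘ e)) = 0) :
    Geo.IsPlusTypeOn ⇑Q ⊤ := by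
  classical
  let x₀ : Fin 2 → F := Pi.single 0 1
  let f : (Fin b → F) →ₗ[F] (Fin n → F) :=
    (Matrix.toLin' (P : Matrix (Fin n) (Fin n) F)).comp
      ({ toFun := fun y => (fun a : Fin 2 × Fin b => x₀ a.1 * y a.2) ∘ e
         map_add' := fun u v => funext fun p => by simp [mul_add]
         map_smul' := fun c u => funext fun p => by simp; ring } : (Fin b → F) →ₗ[F] (Fin n → F))
  have hf : ∀ y, f y = (P : Matrix (Fin n) (Fin n) F) *ᵥ ((fun a : Fin 2 × Fin b => x₀ a.1 * y a.2) ∘ e) :=
    fun _ => rfl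
  have hinj : Function.Injective f := by
    rw [injective_iff_map_eq_zero]
    intro y hy
    funext j
    rw [hf] at hy
    have h := congrFun (Aschbacher.mulVec_gl_inj P (hy.trans (Matrix.mulVec_zero _).symm)) (e.symm (0, j))
    simpa [x₀] using h
  refine plus_of_half (U := LinearMap.range f) ?_ ?_
  · rintro _ ⟨y, rfl⟩
    rw [hf]
    exact h0 x₀ y
  · rw [LinearMap.finrank_range_of_inj hinj, Module.finrank_pi, Fintype.card_fin, Fintype.card_congr e,
      Fintype.card_prod, Fintype.card_fin, Fintype.card_fin]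

/-- A structure over a subfield of index two forces plus type. -/
theorem plus_of_rational (hn : Even n) (hn0 : 0 < n) {F₀ : Subfield F} (hc : Fintype.card F = Nat.card F₀ ^ 2)
    {P : GL (Fin n) F} {ζ : F} (hζ : ζ ≠ 0)
    (hP : Geo.IsQuadFormRationalStructure (fun v : Fin n → F => ζ * Q v) F₀ P) : Geo.IsPlusTypeOn ⇑Q ⊤ := by
  classical
  haveI : Fintype F₀ := Fintype.ofFinite F₀
  let emb : (Fin n → F₀) →ₗ[F₀] (Fin n → F) :=
    { toFun := fun u => (P : Matrix (Fin n) (Fin n) F) *ᵥ fun i => (u i : F)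
      map_add' := fun u v => by rw [← Matrix.mulVec_add]; rfl
      map_smul' := fun c u => by
        show (P : Matrix (Fin n) (Fin n) F) *ᵥ (fun i => ((c • u) i : F)) =
          (c : F) • ((P : Matrix (Fin n) (Fin n) F) *ᵥ fun i => (u i : F))
        rw [← Matrix.mulVec_smul]; rfl }
  have hmem : ∀ u, ζ * Q (emb u) ∈ F₀ := fun u => hP _ fun i => (u i).2
  have hemb : ∀ u v, ζ * polar Q (emb u) (emb v) =
      ζ * Q (emb (u + v)) - ζ * Q (emb u) - ζ * Q (emb v) := fun u v => by
    rw [map_add, polar]; ring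
  let Q₀ : QuadraticForm F₀ (Fin n → F₀) := QuadraticMap.ofPolar (fun u => ⟨ζ * Q (emb u), hmem u⟩)
    (fun a u => Subtype.ext (by
      show ζ * Q (emb (a • u)) = (a : F) * a * (ζ * Q (emb u))
      rw [map_smul, show a • emb u = (a : F) • emb u from rfl, form_smul]
      ring))
    (fun u u' v => Subtype.ext (by
      simp only [polar, Subfield.coe_sub, Subfield.coe_add]
      rw [← hemb, ← hemb, ← hemb, map_add, polar_add_left]
      ring))
    (fun a u v => Subtype.ext (by
      simp only [polar, Subfield.coe_sub, smul_eq_mul, Subfield.coe_mul]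
      rw [← hemb, ← hemb, map_smul, show a • emb u = (a : F) • emb u from rfl, polar_smul_left, smul_eq_mul]
      ring))
  have hQ₀ : ∀ u, (Q₀ u : F) = ζ * Q (emb u) := fun u => rfl
  have hpol₀ : ∀ u v, ((polar ⇑Q₀ u v : F₀) : F) = ζ * polar Q (emb u) (emb v) := fun u v => by
    rw [hemb]; rfl
  have hnd : PolarND Q₀ := by
    intro u hu
    have h0 : emb u = 0 := by
      refine hQ _ fun x => ?_
      have hspan : ∀ y : Fin n → F, y = ∑ i, y i • (fun j => ((Pi.single i 1 : Fin n → F₀) j : F)) := fun y => by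
        funext j
        simp [Finset.sum_apply, Pi.single_apply, apply_ite]
      obtain ⟨y, rfl⟩ : ∃ y, (P : Matrix (Fin n) (Fin n) F) *ᵥ y = x :=
        ⟨((P⁻¹ : GL (Fin n) F) : Matrix (Fin n) (Fin n) F) *ᵥ x, by
          rw [Matrix.mulVec_mulVec, Units.mul_inv, Matrix.one_mulVec]⟩
      rw [hspan y, Matrix.mulVec_sum, ← polarBilin_apply_apply, map_sum]
      refine Finset.sum_eq_zero fun i _ => ?_
      rw [Matrix.mulVec_smul, map_smul, polarBilin_apply_apply]
      have h := congrArg Subtype.val (hu (Pi.single i 1))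
      rw [hpol₀] at h
      rw [show polar Q (emb u) ((P : Matrix (Fin n) (Fin n) F) *ᵥ fun j => ((Pi.single i 1 : Fin n → F₀) j : F)) = 0
        from (mul_eq_zero.mp h).resolve_left hζ, smul_zero]
    funext i
    exact Subtype.ext (congrFun (Aschbacher.mulVec_gl_inj P
      (show (P : Matrix (Fin n) (Fin n) F) *ᵥ (fun i => (u i : F)) = (P : Matrix (Fin n) (Fin n) F) *ᵥ 0 by
        rw [Matrix.mulVec_zero]; exact h0)) i)
  have hfin : finrank F₀ (Fin n → F₀) = n := by rw [Module.finrank_pi, Fintype.card_fin]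
  -- dual families of singular vectors give a half
  have hhalf : ∀ (κ : Type) [Fintype κ] (w z : κ → Fin n → F), (∀ a, Q (w a) = 0) →
      (∀ a b, polar Q (w a) (w b) = 0) → (∀ a, polar Q (w a) (z a) ≠ 0) →
      (∀ a b, a ≠ b → polar Q (w a) (z b) = 0) → 2 * Fintype.card κ = n → Geo.IsPlusTypeOn ⇑Q ⊤ := by
    intro κ _ w z hw hww hd ho hcard
    have hli : LinearIndependent F w := by
      rw [Fintype.linearIndependent_iff]
      intro g hg b
      have h := congrArg (fun x => polarBilin Q x (z b)) hg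
      simp only [map_sum, map_smul, LinearMap.coe_sum, Finset.sum_apply, LinearMap.smul_apply,
        polarBilin_apply_apply, polar_zero_left, smul_eq_mul] at h
      rw [Finset.sum_eq_single b (fun a _ hab => by rw [ho a b hab, mul_zero]) (by simp)] at h
      exact (mul_eq_zero.mp h).resolve_right (hd b)
    refine plus_of_half (U := Submodule.span F (Set.range w)) (fun x hx => quad_zero_span ?_ ?_ hx)
      (by rw [finrank_span_eq_card hli, Fintype.card_fin, hcard])
    · rintro _ ⟨a, rfl⟩; exact hw a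
    · rintro _ ⟨a, rfl⟩ _ ⟨b, rfl⟩; exact hww a b
  rcases OrthFix.exists_model hnd with ⟨k, hk, ⟨e⟩⟩ | ⟨k, hk, -⟩ | ⟨k, hk, η, hη, ⟨e⟩⟩
  · have key : ∀ p q, ζ * polar Q (emb (e.symm p)) (emb (e.symm q)) = (polar (hypSum k (zeroForm F₀)) p q : F₀) := by
      intro p q
      rw [← hpol₀]
      simp only [polar, ← map_add, QuadraticMap.IsometryEquiv.map_app]
    have hval : ∀ p, ζ * Q (emb (e.symm p)) = (hypSum k (zeroForm F₀) p : F₀) := fun p => by
      rw [← hQ₀, QuadraticMap.IsometryEquiv.map_app]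
    refine hhalf (Fin k) (fun a => emb (e.symm ((Pi.single a 1, 0), 0)))
      (fun a => emb (e.symm ((0, Pi.single a 1), 0))) (fun a => ?_) (fun a b => ?_) (fun a h => ?_) (fun a b hab => ?_)
      (by rw [Fintype.card_fin]; omega)
    · refine (mul_eq_zero.mp ((hval _).trans ?_)).resolve_left hζ
      simp [hypSum_apply, zeroForm]
    · refine (mul_eq_zero.mp ((key _ _).trans ?_)).resolve_left hζ
      simp [polar, hypSum_apply, zeroForm]
    · have h' := key ((Pi.single a 1, 0), 0) ((0, Pi.single a 1), 0)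
      rw [h, mul_zero] at h'
      simp [polar, hypSum_apply, zeroForm, Pi.single_apply] at h'
    · refine (mul_eq_zero.mp ((key _ _).trans ?_)).resolve_left hζ
      simp [polar, hypSum_apply, zeroForm, Pi.single_apply, hab, Ne.symm hab]
  · exfalso
    obtain ⟨j, hj⟩ := hn
    omega
  · -- a root in the quadratic extension
    obtain ⟨r, hr⟩ : ∃ r : F, r ^ 2 + r + (η : F) = 0 := by
      let p : Polynomial F₀ := Polynomial.X ^ 2 + Polynomial.X + Polynomial.C η
      have hpd : p.natDegree = 2 := by simp only [p]; compute_degree!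
      have hpi : Irreducible p := by
        refine Polynomial.irreducible_of_degree_le_three_of_not_isRoot (Finset.mem_Icc.mpr ⟨by omega, by omega⟩)
          fun x hx => hη x ?_
        simpa [p] using hx
      haveI : Fact (Irreducible p) := ⟨hpi⟩
      haveI : FiniteDimensional F₀ (AdjoinRoot p) := (AdjoinRoot.powerBasis hpi.ne_zero).finite
      haveI : Finite (AdjoinRoot p) := Module.finite_of_finite F₀
      have h2 : finrank F₀ (AdjoinRoot p) = 2 := by
        rw [(AdjoinRoot.powerBasis hpi.ne_zero).finrank, AdjoinRoot.powerBasis_dim, hpd]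
      have h2' : finrank F₀ F = 2 := by
        have h := Module.natCard_eq_pow_finrank (K := F₀) (V := F)
        rw [Nat.card_eq_fintype_card, hc] at h
        exact (Nat.pow_right_injective Finite.one_lt_card h).symm
      obtain ⟨φ⟩ := FiniteField.nonempty_algHom_of_finrank_dvd (F := F₀) (K := AdjoinRoot p) (L := F)
        (by rw [h2, h2'])
      refine ⟨φ (AdjoinRoot.root p), ?_⟩
      have h := Polynomial.aeval_algHom_apply φ (AdjoinRoot.root p) p
      rw [AdjoinRoot.aeval_eq, AdjoinRoot.mk_self, map_zero] at h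
      simp only [p, map_add, map_pow, Polynomial.aeval_X, Polynomial.aeval_C] at h
      exact h
    have h21 : 2 * r + 1 ≠ 0 := by
      intro h
      by_cases h2 : (2 : F) = 0
      · rw [h2, zero_mul, zero_add] at h; exact one_ne_zero h
      · have hr0 : r ∈ F₀ := by
          rw [show r = -(2 : F)⁻¹ by field_simp; linear_combination h]
          exact neg_mem (inv_mem (by rw [← one_add_one_eq_two]; exact add_mem (one_mem _) (one_mem _)))
        exact hη ⟨r, hr0⟩ (Subtype.ext (by simpa using hr))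
    let img : ((Fin k → F₀) × (Fin k → F₀)) × F₀ × F₀ → Fin n → F := fun p => emb (e.symm p)
    have key : ∀ p q, ζ * polar Q (img p) (img q) = (polar (hypSum k (binForm 1 η)) p q : F₀) := by
      intro p q
      rw [← hpol₀]
      simp only [polar, ← map_add, QuadraticMap.IsometryEquiv.map_app]
    have hval : ∀ p, ζ * Q (img p) = (hypSum k (binForm 1 η) p : F₀) := fun p => by
      rw [← hQ₀, QuadraticMap.IsometryEquiv.map_app]
    set u₁ := img ((0, 0), (1, 0)) with hu₁
    set u₂ := img ((0, 0), (0, 1)) with hu₂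
    let wf : Fin k → Fin n → F := fun a => img ((Pi.single a 1, 0), 0)
    let zf : Fin k → Fin n → F := fun a => img ((0, Pi.single a 1), 0)
    have hww : ∀ a b, polar Q (wf a) (wf b) = 0 := fun a b => by
      refine (mul_eq_zero.mp ((key _ _).trans ?_)).resolve_left hζ
      simp [polar, hypSum_apply, binForm_apply]
    have hw1 : ∀ a, polar Q (wf a) u₁ = 0 := fun a => by
      refine (mul_eq_zero.mp ((key _ _).trans ?_)).resolve_left hζ
      simp [polar, hypSum_apply, binForm_apply]
    have hw2 : ∀ a, polar Q (wf a) u₂ = 0 := fun a => by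
      refine (mul_eq_zero.mp ((key _ _).trans ?_)).resolve_left hζ
      simp [polar, hypSum_apply, binForm_apply]
    have hz1 : ∀ a, polar Q u₁ (zf a) = 0 := fun a => by
      refine (mul_eq_zero.mp ((key _ _).trans ?_)).resolve_left hζ
      simp [polar, hypSum_apply, binForm_apply]
    have hz2 : ∀ a, polar Q u₂ (zf a) = 0 := fun a => by
      refine (mul_eq_zero.mp ((key _ _).trans ?_)).resolve_left hζ
      simp [polar, hypSum_apply, binForm_apply]
    have e11 : ζ * Q u₁ = 1 := by rw [hval]; simp [hypSum_apply, binForm_apply]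
    have e22 : ζ * Q u₂ = (η : F) := by rw [hval]; simp [hypSum_apply, binForm_apply]
    have e12 : ζ * polar Q u₁ u₂ = 1 := by
      rw [key]; simp [polar, hypSum_apply, binForm_apply]; ring
    have hwr : Q (r • u₁ + u₂) = 0 := by
      refine (mul_eq_zero.mp (show ζ * Q (r • u₁ + u₂) = 0 from ?_)).resolve_left hζ
      rw [form_add, form_smul, polar_smul_left, smul_eq_mul]
      linear_combination hr + r * r * e11 + e22 + r * e12
    refine hhalf (Option (Fin k)) (fun a => a.elim (r • u₁ + u₂) wf) (fun a => a.elim u₁ zf) ?_ ?_ ?_ ?_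
      (by rw [Fintype.card_option, Fintype.card_fin]; omega)
    · rintro (_ | a)
      · exact hwr
      · refine (mul_eq_zero.mp ((hval _).trans ?_)).resolve_left hζ
        simp [hypSum_apply, binForm_apply]
    · rintro (_ | a) (_ | b)
      · show polar Q (r • u₁ + u₂) (r • u₁ + u₂) = 0
        rw [polar_self, hwr, smul_zero]
      · show polar Q (r • u₁ + u₂) (wf b) = 0
        rw [polar_comm, polar_add_right, polar_smul_right, hw1, hw2, smul_zero, add_zero]
      · show polar Q (wf a) (r • u₁ + u₂) = 0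
        rw [polar_add_right, polar_smul_right, hw1, hw2, smul_zero, add_zero]
      · exact hww a b
    · rintro (_ | a) h
      · refine h21 ?_
        change polar Q (r • u₁ + u₂) u₁ = 0 at h
        have h' := congrArg (ζ * ·) h
        simp only [mul_zero] at h'
        rw [polar_add_left, polar_smul_left, polar_self, smul_eq_mul, nsmul_eq_mul, Nat.cast_ofNat,
          polar_comm Q u₂ u₁] at h'
        linear_combination h' - 2 * r * e11 - e12
      · change polar Q (wf a) (zf a) = 0 at h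
        have h' := key ((Pi.single a 1, 0), 0) ((0, Pi.single a 1), 0)
        rw [show polar Q (img _) (img _) = 0 from h, mul_zero] at h'
        simp [polar, hypSum_apply, binForm_apply, Pi.single_apply] at h'
    · rintro (_ | a) (_ | b) hab
      · exact absurd rfl hab
      · show polar Q (r • u₁ + u₂) (zf b) = 0
        rw [polar_add_left, polar_smul_left, hz1, hz2, smul_zero, add_zero]
      · exact hw1 a
      · refine (mul_eq_zero.mp ((key _ _).trans ?_)).resolve_left hζ
        have hab' : a ≠ b := fun h => hab (by rw [h])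
        simp [polar, hypSum_apply, binForm_apply, Pi.single_apply, hab', Ne.symm hab']

end Structures

end Cfsg.Agent.Aschbacher.Orth
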